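import Cfsg.Agent.Lib.ClosedAbelian.Basic
import Cfsg.Agent.Lib.Solvable.Coprime
import Cfsg.Agent.Lib.OddChar.OddTheorem
import Cfsg.Agent.Lib.Signalizer.Basic
import Cfsg.Agent.Lib.SEBrick.Basic

/-!
Odd subgroups under involutory maps, and lifting of fixed points: the generalities used for groups with a
Sylow 2-subgroup of Hall–Janko type.
-/

set_option autoImplicit false
set_option linter.style.haveILetI false

namespace Cfsg.Agent.J2Core

open Subgroup
open Cfsg.Agent.ClosedAbelian (TwoEl mem_of_sq_mem odd_orderOf_of_mem)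

variable {G : Type*} [Group G]

theorem eq_one_of_inv {x : G} (ho : Odd (orderOf x)) (h : x⁻¹ = x) : x = 1 := by
  have h2 : x * x = 1 := by
    nth_rewrite 1 [← h]
    exact inv_mul_cancel x
  exact orderOf_eq_one_iff.1 (Nat.eq_one_of_dvd_coprimes (Nat.coprime_two_left.2 ho)
    (orderOf_dvd_of_pow_eq_one (by rw [pow_two, h2])) dvd_rfl)

theorem exists_root {x : G} (ho : Odd (orderOf x)) : ∃ y ∈ zpowers x, y * y = x ∧ Odd (orderOf y) := by
  obtain ⟨m, hm⟩ := ho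
  refine ⟨x ^ (m + 1), pow_mem (mem_zpowers x) _, ?_, ?_⟩
  · rw [← pow_add, show m + 1 + (m + 1) = (2 * m + 1) + 1 by ring, pow_succ, ← hm, pow_orderOf_eq_one,
      one_mul]
  · exact (show Odd (orderOf x) from ⟨m, hm⟩).of_dvd_nat (orderOf_pow_dvd _)

theorem eq_of_sq_eq {x y : G} (hc : x * y = y * x) (hx : Odd (orderOf x)) (hy : Odd (orderOf y))
    (h : x * x = y * y) : x = y := by
  have hxy : Commute x y⁻¹ := (show Commute x y from hc).inv_right
  have ho : Odd (orderOf (x * y⁻¹)) := by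
    refine Odd.of_dvd_nat ?_ hxy.orderOf_mul_dvd_mul_orderOf
    rw [orderOf_inv]; exact hx.mul hy
  refine mul_inv_eq_one.1 (eq_one_of_inv ho (inv_eq_of_mul_eq_one_right ?_))
  calc x * y⁻¹ * (x * y⁻¹) = x * x * (y * y)⁻¹ := by
        rw [mul_assoc, ← mul_assoc y⁻¹, ← hxy.eq, mul_inv_rev, ← mul_assoc, ← mul_assoc, ← mul_assoc]
    _ = 1 := by rw [h, mul_inv_cancel]

/-- An odd subgroup under an involutory map: inverted times fixed. -/
theorem split_hom [Finite G] {X : Subgroup G} (hX : ¬ 2 ∣ Nat.card X) (σ : G →* G) (hσX : ∀ x ∈ X, σ x ∈ X)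
    (hσσ : ∀ x ∈ X, σ (σ x) = x) {p : G} (hp : p ∈ X) :
    ∃ s ∈ zpowers (p * (σ p)⁻¹), ∃ t ∈ X, p = s * t ∧ s ∈ X ∧ σ s = s⁻¹ ∧ σ t = t := by
  set w := p * (σ p)⁻¹
  have hwX : w ∈ X := mul_mem hp (inv_mem (hσX p hp))
  have hσw : σ w = w⁻¹ := by rw [map_mul, map_inv, hσσ p hp, mul_inv_rev, inv_inv]
  obtain ⟨s, hs, hss, -⟩ := exists_root (odd_orderOf_of_mem hX hwX)
  have hsX : s ∈ X := zpowers_le.2 hwX hs
  have hσs : σ s = s⁻¹ := by
    obtain ⟨i, rfl⟩ := mem_zpowers_iff.1 hs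
    rw [map_zpow, hσw, inv_zpow]
  refine ⟨s, hs, s⁻¹ * p, mul_mem (inv_mem hsX) hp, (mul_inv_cancel_left s p).symm, hsX, hσs, ?_⟩
  have hσp : σ p = w⁻¹ * p := by simp [w]
  rw [map_mul, map_inv, hσs, inv_inv, hσp, ← hss]
  group

/-- An odd subgroup normalised by an involution: inverted times fixed. -/
theorem split [Finite G] {X : Subgroup G} (hX : ¬ 2 ∣ Nat.card X) {a : G} (ha : a * a = 1)
    (haX : ∀ x ∈ X, a * x * a⁻¹ ∈ X) {p : G} (hp : p ∈ X) :
    ∃ s ∈ zpowers (p * (a * p * a⁻¹)⁻¹), ∃ t ∈ X,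
      p = s * t ∧ s ∈ X ∧ a * s * a⁻¹ = s⁻¹ ∧ a * t = t * a := by
  obtain ⟨s, hs, t, ht, e, hsX, hσs, hσt⟩ := split_hom hX (MulAut.conj a).toMonoidHom haX
    (fun x _ => by
      simp only [MulEquiv.coe_toMonoidHom, MulAut.conj_apply]
      rw [show a * (a * x * a⁻¹) * a⁻¹ = a * a * x * (a * a)⁻¹ by group, ha, one_mul, inv_one, mul_one]) hp
  refine ⟨s, hs, t, ht, e, hsX, hσs, ?_⟩
  exact mul_inv_eq_iff_eq_mul.1 (show a * t * a⁻¹ = t from hσt)

/-- Modulo an invariant subgroup a fixed element lifts to a fixed element. -/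
theorem fixed_lift [Finite G] {X N : Subgroup G} (hX : ¬ 2 ∣ Nat.card X) (σ : G →* G) (hσX : ∀ x ∈ X, σ x ∈ X)
    (hσσ : ∀ x ∈ X, σ (σ x) = x) {m : G} (hm : m ∈ X) (hfix : m * (σ m)⁻¹ ∈ N) :
    ∃ t ∈ X, σ t = t ∧ m * t⁻¹ ∈ N := by
  obtain ⟨s, hs, t, ht, rfl, -, -, hσt⟩ := split_hom hX σ hσX hσσ hm
  exact ⟨t, ht, hσt, by rw [mul_inv_cancel_right]; exact zpowers_le.2 hfix hs⟩

theorem odd_of_le {A B : Subgroup G} (hB : ¬ 2 ∣ Nat.card B) (h : A ≤ B) : ¬ 2 ∣ Nat.card A :=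
  fun hd => hB (hd.trans (card_dvd_of_le h))

theorem conj_mem_normalizer {X : Subgroup G} {g x : G} (hg : g ∈ normalizer (X : Set G)) (hx : x ∈ X) :
    g * x * g⁻¹ ∈ X :=
  (mem_normalizer_iff.1 hg x).1 hx

theorem conj_mem_conj {X : Subgroup G} {g x : G} (hg : g ∈ normalizer (X : Set G)) :
    g * x * g⁻¹ ∈ X ↔ x ∈ X :=
  ((mem_normalizer_iff.1 hg) x).symm

theorem normalizer_inf_le {X Y : Subgroup G} {g : G} (h1 : g ∈ normalizer (X : Set G))
    (h2 : g ∈ normalizer (Y : Set G)) : g ∈ normalizer ((X ⊓ Y : Subgroup G) : Set G) :=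
  mem_normalizer_iff.2 fun x => and_congr (mem_normalizer_iff.1 h1 x) (mem_normalizer_iff.1 h2 x)

theorem normalizer_centralizer {E : Subgroup G} {g : G} (hg : g ∈ normalizer (E : Set G)) :
    g ∈ normalizer ((centralizer (E : Set G) : Subgroup G) : Set G) := by
  refine mem_normalizer_iff.2 fun x => ?_
  simp only [mem_centralizer_iff]
  constructor
  · intro h e he
    have h1 := h (g⁻¹ * e * g) ((mem_normalizer_iff''.1 hg e).1 he)
    calc e * (g * x * g⁻¹) = g * (g⁻¹ * e * g * x) * g⁻¹ := by group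
      _ = g * (x * (g⁻¹ * e * g)) * g⁻¹ := by rw [h1]
      _ = g * x * g⁻¹ * e := by group
  · intro h e he
    have h1 := h _ ((mem_normalizer_iff.1 hg e).1 he)
    calc e * x = g⁻¹ * (g * e * g⁻¹ * (g * x * g⁻¹)) * g := by group
      _ = g⁻¹ * (g * x * g⁻¹ * (g * e * g⁻¹)) * g := by rw [h1]
      _ = x * e := by group

theorem mem_normalizer_cent {a g : G} (h : g * a = a * g) :
    g ∈ normalizer ((centralizer ({a} : Set G) : Subgroup G) : Set G) :=
  le_normalizer (mem_centralizer_singleton_iff.2 h)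

variable [Finite G]

/-- An odd subgroup centralised by `A` modulo an invariant normal subgroup. -/
theorem le_sup_fixed {A X N : Subgroup G} (hA : IsPGroup 2 A) (hX : ¬ 2 ∣ Nat.card X)
    (hAX : A ≤ normalizer (X : Set G)) (hXN : X ≤ normalizer (N : Set G))
    (hAN : A ≤ normalizer (N : Set G)) (hfix : ∀ a ∈ A, ∀ x ∈ X, a * x * a⁻¹ * x⁻¹ ∈ N) :
    X ≤ N ⊔ (X ⊓ centralizer (A : Set G)) := by
  intro x hx
  have hNX : N ⊓ X ≤ X := inf_le_right
  have hodd : Odd (Nat.card X) := by rw [← Nat.not_even_iff_odd, even_iff_two_dvd]; exact hX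
  obtain ⟨c, hc, hxc⟩ := CoprimeAct.exists_mem_centralizer (A := A) (K := X) hAX
    (Signalizer.coprime_card hA hX) (Or.inr (OddChar.oddSolvable _ hodd)) (N := N ⊓ X) hNX
    ((le_inf hXN le_normalizer).trans inf_normalizer_le_normalizer_inf)
    ((le_inf hAN hAX).trans inf_normalizer_le_normalizer_inf) hx
    (fun a ha => ⟨hfix a ha x hx, X.mul_mem (conj_mem_normalizer (hAX ha) hx) (X.inv_mem hx)⟩)
  rw [show x = c * (x⁻¹ * c)⁻¹ by group]
  exact mul_mem (mem_sup_right hc) (mem_sup_left (inv_mem hxc.1))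

/-- A subgroup normal modulo an odd core lies in it when it is odd. -/
theorem mem_iff_of_normalizer {N : Subgroup G} {g : G} (h : ∀ x ∈ N, g * x * g⁻¹ ∈ N) :
    g ∈ normalizer (N : Set G) :=
  SEBrick.mem_normalizer_of h

/-- A product of commuting parts: elements of 2-power order and of odd order suffice. -/
theorem mem_of_parts {H : Subgroup G} {g : G}
    (h2 : ∀ x ∈ zpowers g, TwoEl x → x ∈ H) (ho : ∀ x ∈ zpowers g, Odd (orderOf x) → x ∈ H) : g ∈ H := by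
  obtain ⟨x, y, e, hx, hy, hx2, hyo⟩ := ClosedAbelian.exists_parts g
  exact e ▸ mul_mem (h2 x hx hx2) (ho y hy hyo)

end Cfsg.Agent.J2Core
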