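import Cfsg.Agent.Lib.J2Core.Two
import Cfsg.Agent.Lib.Signalizer.SFT.Main

/-!
The balanced case: the cores form a signalizer functor, its completion is the subgroup of the three cores, and
its normaliser is a proper subgroup that the end lemma excludes.
-/

set_option autoImplicit false
set_option linter.style.haveILetI false
set_option linter.unusedSectionVars false

namespace Cfsg.Agent.J2Core

open Subgroup
open Cfsg.Agent.J2Type
open Cfsg.Agent.ClosedAbelian (TwoEl core mem_of_sq_mem odd_orderOf_of_mem)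

universe u

variable {G : Type u} [Group G] [Finite G] {f : ℕ → G}

namespace Setup

variable (D : Setup f)
include D

/-- Every invariant odd subgroup of a centraliser is in its core. -/
def Bal : Prop := ∀ a ∈ D.A, a ≠ 1 → ∀ X : Subgroup G, ¬ 2 ∣ Nat.card X → X ≤ centralizer ({a} : Set G) →
  D.A ≤ normalizer (X : Set G) → X ≤ Kf a

theorem bal_of_not_stabU (h : ¬ D.StabU) : D.Bal := by
  obtain ⟨n, hn, e⟩ := D.exists_oneClass h
  intro a ha ha1 X hX hXC hAX
  by_cases haU : a ∈ D.U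
  · exact D.lemR_U haU ha1 hX hXC hAX
  obtain ⟨k, hk, -, e'⟩ := D.conj_out D.o_mem_A D.o_not_U ha haU
  refine D.lemR_at (g := k * n) ?_ hX hXC (D.A_le_centralizer ha) (fun x hx => D.A_mul_self hx) D.card_A.ge hAX
  rw [show k * n * f 2 * (k * n)⁻¹ = k * (n * f 2 * n⁻¹) * k⁻¹ by group, e, e']

theorem bal_of_not_NT (hU : D.StabU) (h : ∀ a ∈ D.A, a ∉ D.U → ¬ D.NT a) : D.Bal := by
  intro a ha ha1 X hX hXC hAX
  by_cases haU : a ∈ D.U
  · exact D.lemR_U haU ha1 hX hXC hAX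
  set M := core (centralizer (D.A : Set G))
  have hMC : M ≤ centralizer ({a} : Set G) := fun x hx => mem_centralizer_singleton_iff.2
    (mem_centralizer_iff.1 (ClosedAbelian.core_le _ hx) a ha).symm
  have hsplit : ∀ x, x * a = a * x → ∃ k ∈ Kf a, k * x ∈ centralizer (D.A : Set G) := fun x hx => by
    obtain ⟨k, hk, hkx⟩ := D.cent_split hU ha haU hx
    exact ⟨k, hk, by rwa [D.Vof_eq_of_not_NT (h a ha haU)] at hkx⟩
  set N := M ⊔ Kf a
  have hNC : N ≤ centralizer ({a} : Set G) := sup_le hMC (ClosedAbelian.core_le _)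
  have hN : N ≤ Kf a := by
    refine ClosedAbelian.le_core hNC (fun x hx => ?_) (ClosedAbelian.sup_core_odd hMC (ClosedAbelian.core_odd _))
    obtain ⟨k, hk, hkx⟩ := hsplit x (mem_centralizer_singleton_iff.1 hx)
    have h1 : k * x ∈ normalizer (N : Set G) := by
      refine SEBrick.mem_normalizer_of fun y hy => ?_
      have hmap : N.map (MulAut.conj (k * x)).toMonoidHom ≤ N := by
        rw [Subgroup.map_sup]
        refine sup_le_sup ?_ ?_
        · rintro _ ⟨z, hz, rfl⟩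
          exact ClosedAbelian.conj_mem_core hkx hz
        · rintro _ ⟨z, hz, rfl⟩
          exact ClosedAbelian.conj_mem_core (mul_mem (ClosedAbelian.core_le _ hk) hx) hz
      exact hmap ⟨y, hy, rfl⟩
    rw [show x = k⁻¹ * (k * x) by group]
    exact mul_mem (inv_mem (le_normalizer (mem_sup_right hk))) h1
  intro x hx
  have hxC := hXC hx
  obtain ⟨k, hk, hkx⟩ := hsplit x (mem_centralizer_singleton_iff.1 hxC)
  obtain ⟨t, s, e, ht, hs, ht2, hso⟩ := ClosedAbelian.exists_parts (k * x)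
  have htA := D.two_cA (zpowers_le.2 hkx ht) ht2
  have hsN : s ∈ Kf a := hN (mem_sup_left (D.odd_cA (zpowers_le.2 hkx hs) hso))
  -- the two-part is trivial modulo the core
  set π := QuotientGroup.mk' (Cfsg.oddCore ↥(centralizer ({a} : Set G)))
  have hk0 := ClosedAbelian.core_le _ hk
  have hs0 := ClosedAbelian.core_le _ hsN
  have ht0 := D.A_le_centralizer ha htA
  have hone : ∀ y (hy : y ∈ Kf a), π ⟨y, ClosedAbelian.core_le _ hy⟩ = 1 := by
    rintro y ⟨y', hy', rfl⟩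
    exact (QuotientGroup.eq_one_iff _).2 hy'
  have hπ : π ⟨x, hxC⟩ = π ⟨t, ht0⟩ := by
    have he : (⟨k, hk0⟩ : ↥(centralizer ({a} : Set G))) * ⟨x, hxC⟩ = ⟨t, ht0⟩ * ⟨s, hs0⟩ := Subtype.ext e.symm
    have := congrArg π he
    rwa [map_mul, map_mul, hone k hk, hone s hsN, one_mul, mul_one] at this
  have h1 : π ⟨t, ht0⟩ = 1 := by
    refine TwoEl.eq_one_of_odd ⟨1, ?_⟩ ?_
    · rw [← map_pow, show (⟨t, ht0⟩ : ↥(centralizer ({a} : Set G))) ^ 2 ^ 1 = 1 from Subtype.ext (by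
        rw [SubmonoidClass.coe_pow, pow_one, pow_two]; exact D.A_mul_self htA), map_one]
    · rw [← hπ]
      exact (odd_orderOf_of_mem hX hx).of_dvd_nat ((orderOf_map_dvd π _).trans (by rw [Subgroup.orderOf_mk]))
  rw [h1] at hπ
  exact ⟨_, (QuotientGroup.eq_one_iff _).1 hπ, rfl⟩

theorem bal_functor (hbal : D.Bal) : Cfsg.IsSolvableSignalizerFunctor 2 D.A (fun a => Kf a) := by
  refine ⟨⟨fun a _ _ => ClosedAbelian.core_le _, fun a _ _ => ClosedAbelian.core_odd _,
    fun a ha _ b hb x hx => conj_mem_normalizer (D.A_le_normalizer_Kf ha hb) hx,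
    fun a ha _ b hb hb1 => ?_⟩, fun a _ _ => ?_⟩
  · refine le_inf (hbal b hb hb1 _ (odd_of_le (ClosedAbelian.core_odd _) inf_le_left) inf_le_right fun x hx => ?_)
      inf_le_right |>.trans inf_le_left
    exact normalizer_inf_le (D.A_le_normalizer_Kf ha hx) (le_normalizer (D.A_le_centralizer hb hx))
  · refine OddChar.oddSolvable _ ?_
    rw [← Nat.not_even_iff_odd, even_iff_two_dvd]
    exact ClosedAbelian.core_odd _

/-- The completion. -/
def Wst : Subgroup G := ⨆ a : {a : G // a ∈ D.A ∧ a ≠ 1}, Kf a.1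

theorem Wst_props (hbal : D.Bal) : ¬ 2 ∣ Nat.card D.Wst ∧ D.A ≤ normalizer (D.Wst : Set G) ∧
    ∀ a ∈ D.A, a ≠ 1 → D.Wst ⊓ centralizer ({a} : Set G) = Kf a := by
  haveI : Fact (Nat.Prime 2) := ⟨Nat.prime_two⟩
  obtain ⟨h1, h2⟩ := Signalizer.SFT.iSup_props D.A_ea (by rw [D.card_A]; norm_num) (D.bal_functor hbal)
  exact ⟨h1.2.1, Signalizer.family_normalizer h1, h2⟩

theorem Wst_eq_GU (hbal : D.Bal) : D.Wst = GU f := by
  haveI : Fact (Nat.Prime 2) := ⟨Nat.prime_two⟩
  obtain ⟨hodd, hAn, hC⟩ := D.Wst_props hbal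
  have hle : ∀ a ∈ D.A, a ≠ 1 → Kf a ≤ D.Wst := fun a ha ha1 =>
    le_iSup (fun b : {b : G // b ∈ D.A ∧ b ≠ 1} => Kf b.1) ⟨a, ha, ha1⟩
  refine le_antisymm ?_ ?_
  · refine Signalizer.le_of_centralizer_le D.U_ea (by rw [D.card_U]; norm_num) (D.U_le_A.trans hAn) hodd
      fun b hb hb1 => ?_
    rw [hC b (D.U_le_A hb) hb1]
    exact D.Kf_le_GU hb hb1
  · exact sup_le (sup_le (hle _ (D.U_le_A D.z_mem_U) D.z_ne) (hle _ (D.U_le_A D.u_mem_U) D.u_ne))
      (hle _ (D.U_le_A D.uz_mem_U) D.uz_ne)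

/-- Balance is incompatible with a nontrivial core. -/
theorem false_of_bal (hK : Kf (f 2) ≠ ⊥) (hbal : D.Bal) : False := by
  haveI : Fact (Nat.Prime 2) := ⟨Nat.prime_two⟩
  obtain ⟨hodd, hAn, hC⟩ := D.Wst_props hbal
  set M := normalizer (GU f : Set G)
  have hGodd : ¬ 2 ∣ Nat.card (GU f) := D.Wst_eq_GU hbal ▸ hodd
  have hKG : Kf (f 2) ≤ GU f := D.Kf_le_GU D.z_mem_U D.z_ne
  have hMtop : M ≠ ⊤ := D.normalizer_ne_top (fun e => hK (le_bot_iff.1 (e ▸ hKG))) (D.ne_top_of_odd hGodd)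
  have hNU := D.GU_normalized
  have hSM : ∀ a, a < 128 → f a ∈ M := fun a ha => hNU (D.range_le_NU (D.emb.apply_mem ha))
  -- the moved pair
  obtain ⟨g, hg, e5, e52⟩ := D.q_conj
  have hgz := mem_centralizer_singleton_iff.1 hg
  obtain ⟨h, hA, hB, -, hu, hz, huz⟩ := D.exists_h
  have hgM : g ∈ M := by
    have hgG : ∀ a, a < 128 → (mulN 3 a = mulN a 3) → mulN 10 a = mulN a 10 → f a ≠ f 2 →
        (∃ c, c * f a * c⁻¹ = f 2) → GU f ⊓ centralizer ({f a} : Set G) ≤ Kf (f a) := by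
      intro a ha h3 h10 hne hc
      obtain ⟨c, hc⟩ := hc
      refine D.lemR_q ((D.emb.commute_iff (by omega) ha).2 h3) ((D.emb.commute_iff (by omega) ha).2 h10) hne hc
        (odd_of_le hGodd inf_le_left) inf_le_right ?_ ?_
      · exact normalizer_inf_le (hSM 3 (by omega))
          (mem_normalizer_cent ((D.emb.commute_iff (by omega) ha).2 h3))
      · exact normalizer_inf_le (hSM 10 (by omega))
          (mem_normalizer_cent ((D.emb.commute_iff (by omega) ha).2 h10))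
    obtain ⟨c35, c105, -, -, -⟩ := four_pair
    have c52 : mulN 3 (mulN 5 2) = mulN (mulN 5 2) 3 ∧ mulN 10 (mulN 5 2) = mulN (mulN 5 2) 10 := by decide +kernel
    have hzq : f 2 * f 5 = f 5 * f 2 := (D.lab_comm (show 5 < 128 by omega)).symm
    have hle : GU f ≤ (GU f).map (MulAut.conj g⁻¹).toMonoidHom := by
      have key : ∀ a b, g * a * g⁻¹ = b → b ∈ D.U → b ≠ 1 → Kf a ≤ (GU f).map (MulAut.conj g⁻¹).toMonoidHom := by
        intro a b e hb hb1 x hx
        exact ⟨g * x * g⁻¹, D.Kf_le_GU hb hb1 (e ▸ conj_Kf hx), by simp [mul_assoc]⟩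
      refine Signalizer.le_of_centralizer_le
        (four_ea ((D.emb.sq_one_iff (by omega)).2 u_facts.2.2.1) D.q_sq hzq) ?_ ?_ hGodd fun b hb hb1 => ?_
      · norm_num
        refine four_card _ _ _ D.z_ne (fun e => ?_) fun e => ?_
        · exact absurd ((D.emb.eq_one_iff (by omega)).1 e) (by omega)
        · exact absurd (D.emb.inj 2 5 (by omega) (by omega) e) (by omega)
      · rintro y (rfl | rfl | rfl | rfl)
        exacts [one_mem _, hSM 2 (by omega), hSM 5 (by omega), mul_mem (hSM 2 (by omega)) (hSM 5 (by omega))]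
      rcases hb with rfl | rfl | rfl | rfl
      · exact absurd rfl hb1
      · refine le_trans ?_ (key (f 2) (f 2) (by rw [hgz, mul_inv_cancel_right]) D.z_mem_U D.z_ne)
        exact D.lemR_U D.z_mem_U D.z_ne (odd_of_le hGodd inf_le_left) inf_le_right fun x hx =>
          normalizer_inf_le (hNU (D.range_le_NU (D.A_le hx)))
            (le_normalizer (D.A_le_cz hx))
      · exact (hgG 5 (by omega) c35 c105 (fun e => absurd (D.emb.inj _ _ (by omega) (by omega) e) (by omega))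
          ⟨h * g, by rw [show h * g * f 5 * (h * g)⁻¹ = h * (g * f 5 * g⁻¹) * h⁻¹ by group, e5, hu]⟩).trans
          (key _ _ e5 D.u_mem_U D.u_ne)
      · rw [hzq, ← D.emb.hom 5 2 (by omega) (by omega)]
        refine (hgG _ (mulN_lt _ _) c52.1 c52.2 (fun e => ?_)
          ⟨h * f 3 * g, ?_⟩).trans (key _ _ e52 D.uz_mem_U D.uz_ne)
        · exact absurd (D.emb.inj _ _ (mulN_lt _ _) (by omega) e) (by decide +kernel)
        · rw [show h * f 3 * g * f (mulN 5 2) * (h * f 3 * g)⁻¹ =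
            h * (f 3 * (g * f (mulN 5 2) * g⁻¹) * (f 3)⁻¹) * h⁻¹ by group, e52,
            ← D.emb.conj (by omega) (by omega), u_facts.2.2.2.2.2.2.1, hu]
    refine SEBrick.mem_normalizer_of fun x hx => ?_
    obtain ⟨y, hy, rfl⟩ := hle hx
    simpa [mul_assoc] using hy
  have hCz := D.mover (M := M) (hKG.trans le_normalizer) (inf_le_left.trans hNU) hgM hgz (D.q_moves hgz (Or.inl e5))
  refine D.end_lemma hMtop hCz ?_ (hNU (D.normalizer_U hA hB)) hu
  by_cases hU : D.StabU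
  swap
  · obtain ⟨n, hn, e⟩ := D.exists_oneClass hU
    have hnM : n ∈ M := by
      show n ∈ normalizer (GU f : Set G)
      rw [← D.Wst_eq_GU hbal]
      refine SEBrick.mem_normalizer_of fun x hx => ?_
      have hmap : D.Wst.map (MulAut.conj n).toMonoidHom ≤ D.Wst := by
        rw [Wst, Subgroup.map_iSup]
        refine iSup_le fun a => ?_
        rintro _ ⟨y, hy, rfl⟩
        exact le_iSup (fun b : {b : G // b ∈ D.A ∧ b ≠ 1} => Kf b.1)
          ⟨n * a.1 * n⁻¹, conj_mem_normalizer hn a.2.1, fun e => a.2.2 (conj_eq_one_iff.1 e)⟩ (conj_Kf hy)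
      exact hmap ⟨x, hx, rfl⟩
    intro x hx
    have h1 : n⁻¹ * x * n ∈ M := hCz (mem_centralizer_singleton_iff.2 (by
      have := Emb.conj_comm n⁻¹ (mem_centralizer_singleton_iff.1 hx)
      rwa [inv_inv, ← e, show n⁻¹ * (n * f 2 * n⁻¹) * n = f 2 by group] at this))
    rw [show x = n * (n⁻¹ * x * n) * n⁻¹ by group]
    exact mul_mem (mul_mem hnM h1) (inv_mem hnM)
  -- the centraliser of the complement normalises the completion
  intro x hx
  obtain ⟨k, hk, hkx⟩ := D.cent_split hU D.o_mem_A D.o_not_U (mem_centralizer_singleton_iff.1 hx)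
  have hkM : k ∈ M := by
    refine le_normalizer (D.Wst_eq_GU hbal ▸ ?_)
    exact le_iSup (fun b : {b : G // b ∈ D.A ∧ b ≠ 1} => Kf b.1)
      ⟨f 26, D.o_mem_A, fun e => absurd ((D.emb.eq_one_iff (by omega)).1 e) (by omega)⟩ hk
  rw [show x = k⁻¹ * (k * x) by group]
  refine mul_mem (inv_mem hkM) ?_
  show k * x ∈ normalizer (GU f : Set G)
  rw [← D.Wst_eq_GU hbal]
  set V := D.Vof (f 26)
  have hV := D.Vof_le (f 26)
  refine SEBrick.mem_normalizer_of fun y hy => ?_
  have hP : D.Wst ≤ ⨆ v : {v : G // v ∈ V ∧ v ≠ 1}, Kf v.1 := by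
    refine Signalizer.le_of_centralizer_le (Signalizer.ea_mono D.A_ea hV)
      (by norm_num; exact D.four_le_Vof hU D.o_mem_A D.o_not_U) (hV.trans hAn) hodd fun b hb hb1 => ?_
    rw [hC b (hV hb) hb1]
    exact le_iSup (fun v : {v : G // v ∈ V ∧ v ≠ 1} => Kf v.1) ⟨b, hb, hb1⟩
  have hmap : (⨆ v : {v : G // v ∈ V ∧ v ≠ 1}, Kf v.1).map (MulAut.conj (k * x)).toMonoidHom ≤ D.Wst := by
    rw [Subgroup.map_iSup]
    refine iSup_le fun v => ?_
    rintro _ ⟨z, hz, rfl⟩
    exact le_iSup (fun b : {b : G // b ∈ D.A ∧ b ≠ 1} => Kf b.1) ⟨v.1, hV v.2.1, v.2.2⟩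
      (conj_mem_normalizer (Kf_normalized (mem_centralizer_iff.1 hkx v.1 v.2.1).symm) hz)
  exact hmap ⟨y, hP hy, rfl⟩

end Setup

end Cfsg.Agent.J2Core
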