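import Cfsg.Agent.Lib.J2Core.Base
import Cfsg.Agent.Lib.J2Type.Normal
import Cfsg.Agent.Lib.Walter8.Quot

/-!
The centraliser of the central involution over its odd core, seen through the action on the five points.
-/

set_option autoImplicit false
set_option linter.style.haveILetI false
set_option linter.unusedSectionVars false
set_option maxRecDepth 4000

namespace Cfsg.Agent.J2Core

open Subgroup
open Cfsg.Agent.J2Type
open Cfsg.Agent.J2Type.Cen (act4)
open Cfsg.Agent.ClosedAbelian (TwoEl core mem_of_sq_mem odd_orderOf_of_mem)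

universe u

variable {G : Type u} [Group G] [Finite G] {f : ℕ → G}

/-- What is used of the action of the centraliser of the central involution on the five points. -/
structure BarData (f : ℕ → G) (ψ : ↥(centralizer ({f 2} : Set G)) →* alternatingGroup (Fin 5)) : Prop where
  surj : Function.Surjective ψ
  ker : ∀ x : ↥(centralizer ({f 2} : Set G)), ψ x = 1 ↔ ∃ k ∈ Kf (f 2), ∃ a, a < 128 ∧ inQ a = true ∧ (x : G) = k * f a
  lab : ∀ a, a < 128 → ∀ x : ↥(centralizer ({f 2} : Set G)), (x : G) = f a → ((ψ x : alternatingGroup (Fin 5)) : Equiv.Perm (Fin 5)) ∈ act4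
  pts : ∀ (x : ↥(centralizer ({f 2} : Set G))) (i : Fin 5), ∃ k ∈ Kf (f 2), ∃ b, b < 128 ∧
    (b = pt (((ψ x : alternatingGroup (Fin 5)) : Equiv.Perm (Fin 5)) i) ∨
      b = mulN (pt (((ψ x : alternatingGroup (Fin 5)) : Equiv.Perm (Fin 5)) i)) 2) ∧
    (x : G) * f (pt i) * (x : G)⁻¹ = k * f b

/-- The central involution is centralised by the Sylow subgroup. -/
theorem range_le_cz (E : Emb f) : E.range ≤ centralizer ({f 2} : Set G) := by
  rintro _ ⟨a, ha, rfl⟩
  exact mem_centralizer_singleton_iff.2 ((E.commute_iff ha (by omega)).2 (z_check a ha))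

theorem exists_bar (D : Setup f) : ∃ ψ, BarData f ψ := by
  classical
  haveI : Fact (Nat.Prime 2) := ⟨Nat.prime_two⟩
  set K := centralizer ({f 2} : Set G) with hKdef
  set O := Cfsg.oddCore ↥K
  have hle := range_le_cz D.emb
  set fK : ℕ → ↥K := fun a => if h : f a ∈ K then ⟨f a, h⟩ else 1
  have hK : ∀ a, a < 128 → (fK a : G) = f a := fun a ha => by
    show ((if h : f a ∈ K then (⟨f a, h⟩ : ↥K) else 1 : ↥K) : G) = f a
    rw [dif_pos (hle (D.emb.apply_mem ha))]
  have EK : Emb fK :=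
    { hom := fun a b ha hb => Subtype.ext (by
        rw [Subgroup.coe_mul, hK _ (mulN_lt _ _), hK a ha, hK b hb, D.emb.hom a b ha hb])
      inj := fun a b ha hb h => D.emb.inj a b ha hb (by rw [← hK a ha, ← hK b hb, h]) }
  have hKr : EK.range = D.emb.range.subgroupOf K := by
    ext ⟨x, hx⟩
    constructor
    · rintro ⟨a, ha, e⟩
      exact ⟨a, ha, by rw [← hK a ha, e]; rfl⟩
    · rintro ⟨a, ha, e⟩
      exact ⟨a, ha, Subtype.ext (by rw [hK a ha]; exact e)⟩
  set π := QuotientGroup.mk' O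
  have hker : ∀ a, a < 128 → π (fK a) = 1 → fK a = 1 := by
    intro a ha h
    rw [QuotientGroup.mk'_apply, QuotientGroup.eq_one_iff] at h
    have h1 : orderOf (fK a) ∣ Nat.card ↥O := Subgroup.orderOf_dvd_natCard O h
    obtain ⟨k, hk⟩ := EK.isPGroup_range ⟨fK a, EK.apply_mem ha⟩
    have h2' : orderOf (fK a) ∣ 2 ^ k := orderOf_dvd_of_pow_eq_one (congrArg Subtype.val hk)
    exact orderOf_eq_one_iff.1 (Nat.eq_one_of_dvd_coprimes
      (Nat.Coprime.pow_left k (PBasic.pPrimeCore_coprime 2 ↥K).symm) h2' h1)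
  have EH := EK.map π hker
  have C : Cen (fun a => π (fK a)) := by
    refine ⟨EH, ?_, ?_, ?_, ?_⟩
    · intro hd
      refine D.odd (hd.trans ?_)
      have hr : EH.range = EK.range.map π := by
        ext x
        constructor
        · rintro ⟨a, ha, rfl⟩; exact ⟨fK a, EK.apply_mem ha, rfl⟩
        · rintro ⟨_, ⟨a, ha, rfl⟩, rfl⟩; exact ⟨a, ha, rfl⟩
      rw [hr]
      refine (Subgroup.index_map_dvd EK.range (QuotientGroup.mk'_surjective O)).trans ?_
      rw [hKr]
      exact Subgroup.relIndex_dvd_index_of_le hle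
    · rintro ⟨⟨x, hx⟩⟩
      show π ⟨x, hx⟩ * π (fK 2) = π (fK 2) * π ⟨x, hx⟩
      rw [← map_mul, ← map_mul]
      refine congrArg π (Subtype.ext ?_)
      rw [Subgroup.coe_mul, Subgroup.coe_mul, hK 2 (by omega)]
      exact Subgroup.mem_centralizer_singleton_iff.1 hx
    · exact PBasic.pPrimeCore_quotient_pPrimeCore 2 ↥K
    · obtain ⟨g, hg, e⟩ := D.emb.exists_fuse D.odd D.index_ne_two
      refine ⟨π ⟨g, Subgroup.mem_centralizer_singleton_iff.2 hg⟩, ?_⟩
      show π _ * π (fK 5) * (π _)⁻¹ = π (fK 1)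
      rw [← map_inv, ← map_mul, ← map_mul]
      refine congrArg π (Subtype.ext ?_)
      rw [Subgroup.coe_mul, Subgroup.coe_mul, hK 5 (by omega), hK 1 (by omega)]
      exact e
  obtain ⟨φ, hsurj, hφ⟩ := C.exists_phi
  haveI := C.qs_normal
  have hN : Subgroup.normalizer (C.qs : Set (↥K ⧸ O)) = ⊤ := Subgroup.normalizer_eq_top_iff.2 inferInstance
  let ι : (↥K ⧸ O) →* ↥(Subgroup.normalizer (C.qs : Set (↥K ⧸ O))) :=
    (MonoidHom.id _).codRestrict _ fun h => by rw [hN]; trivial
  have hι : Function.Surjective ι := fun n => ⟨n, Subtype.ext rfl⟩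
  have hcore : ∀ x : ↥K, π x = 1 ↔ (x : G) ∈ Kf (f 2) := fun x => by
    rw [QuotientGroup.mk'_apply, QuotientGroup.eq_one_iff]
    exact ⟨fun h => ⟨x, h, rfl⟩, fun ⟨y, hy, e⟩ => Subtype.ext e ▸ hy⟩
  have hrep : ∀ (x : ↥K) (a : ℕ), a < 128 → π x = π (fK a) →
      ∃ k ∈ Kf (f 2), (x : G) = k * f a := by
    intro x a ha h
    refine ⟨(x : G) * (f a)⁻¹, ?_, by group⟩
    have h1 : π (x * (fK a)⁻¹) = 1 := by rw [map_mul, map_inv, h, mul_inv_cancel]
    have h2 := (hcore _).1 h1
    rwa [Subgroup.coe_mul, Subgroup.coe_inv, hK a ha] at h2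
  refine ⟨(φ.comp ι).comp π, (hsurj.comp hι).comp (QuotientGroup.mk'_surjective O), fun x => ?_,
    fun a ha x e => ?_, fun x i => ?_⟩
  · have h1 : φ (ι (π x)) = 1 ↔ C.act (ι (π x)) = 1 := by
      rw [← hφ]; exact ⟨fun e => by rw [e]; rfl, fun e => Subtype.ext e⟩
    obtain ⟨ψ0, F⟩ := C.exists_frame
    show φ (ι (π x)) = 1 ↔ _
    constructor
    · intro h
      have hq : π x ∈ C.qs := by
        -- an element fixing every point
        have h2 : IsPGroup 2 ↥(φ.comp ι).ker := by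
          rintro ⟨k, hk⟩
          have hk1 : C.act (ι k) = 1 := by
            rw [← hφ]; exact congrArg Subtype.val (show φ (ι k) = 1 from hk)
          have hkk : k * k ∈ C.zsub := C.centralizer_le fun y hy => by
            rcases C.fix_qs hk1 hy with e1 | e1 <;> change k * y * k⁻¹ = _ at e1
            · have : k * y = y * k := mul_inv_eq_iff_eq_mul.1 e1
              rw [mul_assoc, this, ← mul_assoc, this, mul_assoc]
            · rw [mul_inv_eq_iff_eq_mul] at e1
              calc k * k * y = k * (k * y) := mul_assoc _ _ _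
                _ = k * (y * π (fK 2) * k) := by rw [e1]
                _ = k * y * (π (fK 2) * k) := by group
                _ = y * π (fK 2) * k * (π (fK 2) * k) := by rw [e1]
                _ = y * (π (fK 2) * (k * π (fK 2))) * k := by group
                _ = y * (π (fK 2) * (π (fK 2) * k)) * k := by rw [C.central k]
                _ = y * (k * k) := by rw [← mul_assoc (π (fK 2)), C.z_sq]; group
          refine ⟨2, Subtype.ext ?_⟩
          show k ^ (2 ^ 2) = 1
          rw [show k ^ (2 ^ 2) = k * k * (k * k) by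
              simp only [show 2 ^ 2 = 4 from rfl, pow_succ, pow_zero, one_mul, mul_assoc],
            C.sim_sq (C.mem_zsub.1 hkk), mul_one]
        obtain ⟨g, hg⟩ := EH.exists_conj_le C.odd h2
        have hmem := hg (g⁻¹ * π x * g) (by
          rw [MonoidHom.mem_ker, map_mul, map_mul, show (φ.comp ι) (π x) = 1 from h, mul_one, map_inv,
            inv_mul_cancel])
        rw [show g * (g⁻¹ * π x * g) * g⁻¹ = π x by group] at hmem
        obtain ⟨a, ha, e⟩ := hmem
        rw [← e, C.mem_qs ha]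
        refine C.act_lab_eq_one a ha ?_
        have h3 := h1.1 h
        rwa [show ι (π x) = C.lab a ha from Subtype.ext e.symm] at h3
      obtain ⟨a, ha, hqa, e⟩ := hq
      obtain ⟨k, hk, e'⟩ := hrep x a ha e.symm
      exact ⟨k, hk, a, ha, hqa, e'⟩
    · rintro ⟨k, hk, a, ha, hqa, e⟩
      refine h1.2 (C.act_qs ?_)
      show π x ∈ C.qs
      have hkK : k ∈ K := ClosedAbelian.core_le _ hk
      have hx : x = ⟨k, hkK⟩ * fK a := Subtype.ext (by rw [Subgroup.coe_mul, hK a ha]; exact e)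
      rw [hx, map_mul, (hcore ⟨k, hkK⟩).2 hk, one_mul]
      exact (C.mem_qs ha).2 hqa
  · have hx : x = fK a := Subtype.ext (by rw [hK a ha]; exact e)
    show (φ (ι (π x)) : Equiv.Perm (Fin 5)) ∈ act4
    rw [hφ, hx]
    exact C.act_lab a ha
  · have h := C.act_spec (ι (π x)) i
    show ∃ k ∈ Kf (f 2), ∃ b, b < 128 ∧ (b = pt ((φ (ι (π x)) : Equiv.Perm (Fin 5)) i) ∨
      b = mulN (pt ((φ (ι (π x)) : Equiv.Perm (Fin 5)) i)) 2) ∧ (x : G) * f (pt i) * (x : G)⁻¹ = k * f b
    rw [hφ]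
    have hp := (Cen.pt_facts (C.act (ι (π x)) i)).2.1
    have hpi := (Cen.pt_facts i).2.1
    change Sim (fun a => π (fK a)) _ (π x * π (fK (pt i)) * (π x)⁻¹) at h
    rw [← map_inv, ← map_mul, ← map_mul] at h
    rcases h with e | e
    · obtain ⟨k, hk, e'⟩ := hrep (x * fK (pt i) * x⁻¹) _ hp e
      exact ⟨k, hk, _, hp, Or.inl rfl, by simpa [hK _ hpi] using e'⟩
    · obtain ⟨k, hk, e'⟩ := hrep (x * fK (pt i) * x⁻¹) (mulN (pt (C.act (ι (π x)) i)) 2) (mulN_lt _ _)
        (e.trans (C.emb.hom _ 2 hp (by omega)).symm)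
      exact ⟨k, hk, _, mulN_lt _ _, Or.inr rfl, by simpa [hK _ hpi] using e'⟩

namespace Setup

variable (D : Setup f)
include D

/-- The action on the five points. -/
noncomputable def bar : ↥(centralizer ({f 2} : Set G)) →* alternatingGroup (Fin 5) := (exists_bar D).choose

theorem barData : BarData f D.bar := (exists_bar D).choose_spec

/-- The permutation of the points. -/
noncomputable def perm {x : G} (hx : x * f 2 = f 2 * x) : alternatingGroup (Fin 5) :=
  D.bar ⟨x, mem_centralizer_singleton_iff.2 hx⟩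

theorem perm_mul {x y : G} (hx : x * f 2 = f 2 * x) (hy : y * f 2 = f 2 * y) (hxy : x * y * f 2 = f 2 * (x * y)) :
    D.perm hxy = D.perm hx * D.perm hy := by
  rw [perm, perm, perm, ← map_mul]
  rfl

theorem perm_congr {x y : G} (e : x = y) (hx : x * f 2 = f 2 * x) (hy : y * f 2 = f 2 * y) :
    D.perm hx = D.perm hy := by subst e; rfl

theorem lab_comm {a : ℕ} (ha : a < 128) : f a * f 2 = f 2 * f a :=
  mem_centralizer_singleton_iff.1 (range_le_cz D.emb (D.emb.apply_mem ha))

theorem core_comm {k : G} (hk : k ∈ Kf (f 2)) : k * f 2 = f 2 * k :=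
  mem_centralizer_singleton_iff.1 (ClosedAbelian.core_le _ hk)

theorem core_inf {a : ℕ} (ha : a < 128) (h : f a ∈ Kf (f 2)) : a = 0 := by
  refine (D.emb.eq_one_iff ha).1 ?_
  exact (ClosedAbelian.TwoEl.of_group D.emb.isPGroup_range (D.emb.apply_mem ha)).eq_one_of_odd
    (odd_orderOf_of_mem (ClosedAbelian.core_odd _) h)

theorem core_label {a b : ℕ} (ha : a < 128) (hb : b < 128) {k k' : G} (hk : k ∈ Kf (f 2)) (hk' : k' ∈ Kf (f 2))
    (h : k * f a = k' * f b) : a = b := by
  have hab : mulN a (invN b) = 0 := D.core_inf (mulN_lt _ _) (by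
    rw [D.emb.hom a _ ha (invN_lt b), D.emb.inv hb,
      show f a * (f b)⁻¹ = k⁻¹ * k' by
        rw [eq_inv_mul_iff_mul_eq, ← mul_assoc, h, mul_inv_cancel_right]]
    exact mul_mem (inv_mem hk) hk')
  refine D.emb.inj a b ha hb ?_
  have := congrArg f hab
  rw [D.emb.hom a _ ha (invN_lt b), D.emb.inv hb, D.emb.one, mul_inv_eq_one] at this
  exact this

theorem perm_eq_one {x : G} (hx : x * f 2 = f 2 * x) :
    D.perm hx = 1 ↔ ∃ k ∈ Kf (f 2), ∃ a, a < 128 ∧ inQ a = true ∧ x = k * f a :=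
  D.barData.ker _

theorem perm_lab_one {a : ℕ} (ha : a < 128) : D.perm (D.lab_comm ha) = 1 ↔ inQ a = true := by
  rw [perm_eq_one]
  constructor
  · rintro ⟨k, hk, b, hb, hqb, e⟩
    rwa [D.core_label ha hb (one_mem _) hk (by rw [one_mul]; exact e)]
  · exact fun h => ⟨1, one_mem _, a, ha, h, (one_mul _).symm⟩

theorem perm_lab_mem {a : ℕ} (ha : a < 128) :
    ((D.perm (D.lab_comm ha) : alternatingGroup (Fin 5)) : Equiv.Perm (Fin 5)) ∈ act4 :=
  D.barData.lab a ha _ rfl

/-- The first subgroup induces the whole four-group on the points. -/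
theorem exists_A_perm {ρ : alternatingGroup (Fin 5)} (hρ : (ρ : Equiv.Perm (Fin 5)) ∈ act4) :
    ∃ a, ∃ ha : a < 128, inA a = true ∧ D.perm (D.lab_comm ha) = ρ := by
  obtain ⟨h75, -, h26q, hpq, h75q⟩ := inA_pair
  have h26 := inA_mem.2.2.2.2.1
  have hne : ∀ a (ha : a < 128), inQ a = false → D.perm (D.lab_comm ha) ≠ 1 := fun a ha h e => by
    rw [(D.perm_lab_one ha).1 e] at h; exact Bool.noConfusion h
  have hmul : D.perm (D.lab_comm (mulN_lt 26 75)) =
      D.perm (D.lab_comm (show 26 < 128 by omega)) * D.perm (D.lab_comm (show 75 < 128 by omega)) := by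
    rw [← D.perm_mul _ _ (by rw [← D.emb.hom 26 75 (by omega) (by omega)]; exact D.lab_comm (mulN_lt _ _))]
    exact D.perm_congr (D.emb.hom 26 75 (by omega) (by omega)) _ _
  rcases act4_three _ _ ρ (D.perm_lab_mem (show 26 < 128 by omega)) (D.perm_lab_mem (show 75 < 128 by omega)) hρ
      (hne 26 (by omega) h26q) (hne 75 (by omega) h75q) (fun e => hne _ (mulN_lt 26 75) hpq (by
        rw [hmul, ← e]
        have h2 : D.perm (D.lab_comm (mulN_lt 26 26)) = 1 :=
          (D.perm_lab_one (mulN_lt 26 26)).2 (by rw [(inA_closed 26 (by omega) 26 (by omega) h26 h26).2.2]; exact q_mem.1)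
        rw [← h2, ← D.perm_mul _ _ (by rw [← D.emb.hom 26 26 (by omega) (by omega)]; exact D.lab_comm (mulN_lt _ _))]
        exact D.perm_congr (D.emb.hom 26 26 (by omega) (by omega)).symm _ _)) with h | h | h | h
  · exact ⟨0, by omega, inA_mem.1, h ▸ (D.perm_lab_one (show 0 < 128 by omega)).2 q_mem.1⟩
  · exact ⟨26, by omega, h26, h.symm⟩
  · exact ⟨75, by omega, h75, h.symm⟩
  · exact ⟨mulN 26 75, mulN_lt _ _, (inA_closed 26 (by omega) 75 (by omega) h26 h75).1, hmul.trans h.symm⟩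

/-- The stabiliser of the point of the second centre. -/
theorem perm_four {x : G} (hx : x * f 2 = f 2 * x) :
    ((D.perm hx : alternatingGroup (Fin 5)) : Equiv.Perm (Fin 5)) 4 = 4 ↔
      ∃ k ∈ Kf (f 2), x * f 1 * x⁻¹ = k * f 1 ∨ x * f 1 * x⁻¹ = k * f 8 := by
  obtain ⟨k, hk, b, hb, hbv, e⟩ := D.barData.pts ⟨x, mem_centralizer_singleton_iff.2 hx⟩ 4
  change b = pt (((D.perm hx : alternatingGroup (Fin 5)) : Equiv.Perm (Fin 5)) 4) ∨
    b = mulN (pt (((D.perm hx : alternatingGroup (Fin 5)) : Equiv.Perm (Fin 5)) 4)) 2 at hbv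
  rw [show ((4 : Fin 5) : ℕ) = 4 from rfl, q_mem.2.2.2.2.2.2.1] at e
  generalize hj : ((D.perm hx : alternatingGroup (Fin 5)) : Equiv.Perm (Fin 5)) 4 = j at hbv
  constructor
  · rintro rfl
    rw [show ((4 : Fin 5) : ℕ) = 4 from rfl, q_mem.2.2.2.2.2.2.1, u_facts.2.2.2.1] at hbv
    rcases hbv with rfl | rfl
    exacts [⟨k, hk, Or.inl e⟩, ⟨k, hk, Or.inr e⟩]
  · rintro ⟨k', hk', e' | e'⟩
    · have := D.core_label hb (show 1 < 128 by omega) hk hk' (e.symm.trans e')
      subst this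
      exact pt_four j (by rcases hbv with h | h <;> rw [← h] <;> simp)
    · have := D.core_label hb (show 8 < 128 by omega) hk hk' (e.symm.trans e')
      subst this
      exact pt_four j (by rcases hbv with h | h <;> rw [← h] <;> simp)

/-- An element of 2-power order acting trivially on the points squares into the centre. -/
theorem sq_of_perm_one {x : G} (hx : x * f 2 = f 2 * x) (h2 : TwoEl x) (h : D.perm hx = 1) :
    x * x = 1 ∨ x * x = f 2 := by
  obtain ⟨k, hk, a, ha, hqa, e⟩ := (D.perm_eq_one hx).1 h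
  have hC : centralizer ({f 2} : Set G) ≤ normalizer (Kf (f 2) : Set G) := ClosedAbelian.core_normalized _
  have hxx : x * x * (f a * f a)⁻¹ ∈ Kf (f 2) := by
    rw [e, show k * f a * (k * f a) * (f a * f a)⁻¹ = k * (f a * k * (f a)⁻¹) by group]
    exact mul_mem hk (conj_mem_normalizer (hC (range_le_cz D.emb (D.emb.apply_mem ha))) hk)
  obtain ⟨m, hm⟩ := h2
  have h2' : TwoEl (x * x) := ⟨m, by rw [(Commute.refl x).mul_pow, hm, one_mul]⟩
  rw [← D.emb.hom a a ha ha] at hxx
  rcases D.emb.zc_cases (q_square a ha hqa).1 with e0 | e0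
  · rw [e0, D.emb.one, inv_one, mul_one] at hxx
    exact Or.inl (h2'.eq_one_of_odd (odd_orderOf_of_mem (ClosedAbelian.core_odd _) hxx))
  · refine Or.inr (mul_inv_eq_one.1 ?_)
    rw [e0] at hxx
    refine TwoEl.eq_one_of_odd ?_ (odd_orderOf_of_mem (ClosedAbelian.core_odd _) hxx)
    have hc : Commute (x * x) (f 2)⁻¹ := ((show Commute x (f 2) from hx).mul_left hx).inv_right
    have hz : (f 2)⁻¹ * (f 2)⁻¹ = 1 := by
      rw [← mul_inv_rev, (D.emb.sq_one_iff (by omega)).2 u_facts.2.2.1, inv_one]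
    obtain ⟨n, hn⟩ := h2'
    exact ⟨n + 1, by rw [hc.mul_pow, pow_succ, pow_mul, hn, one_pow, one_mul, mul_comm (2 ^ n), pow_mul,
      pow_two, hz, one_pow]⟩

/-- An odd element acting trivially on the points is in the odd core. -/
theorem core_of_perm_one {x : G} (hx : x * f 2 = f 2 * x) (ho : Odd (orderOf x)) (h : D.perm hx = 1) :
    x ∈ Kf (f 2) := by
  obtain ⟨k, hk, a, ha, -, e⟩ := (D.perm_eq_one hx).1 h
  set C := centralizer ({f 2} : Set G)
  let π := QuotientGroup.mk' (Cfsg.oddCore ↥C)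
  have hkC := ClosedAbelian.core_le _ hk
  have haC := range_le_cz D.emb (D.emb.apply_mem ha)
  set x' : ↥C := ⟨x, mem_centralizer_singleton_iff.2 hx⟩
  have hπ : π x' = π ⟨f a, haC⟩ := by
    obtain ⟨k', hk', ek⟩ := hk
    rw [show x' = k' * ⟨f a, haC⟩ from Subtype.ext (by rw [Subgroup.coe_mul]; exact e.trans (by rw [← ek]; rfl)),
      map_mul, show π k' = 1 from (QuotientGroup.eq_one_iff _).2 hk', one_mul]
  have hodd : Odd (orderOf (π x')) := ho.of_dvd_nat ((orderOf_map_dvd π x').trans (by rw [Subgroup.orderOf_mk]))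
  have h2 : TwoEl (π x') := by
    obtain ⟨n, hn⟩ := TwoEl.of_group D.emb.isPGroup_range (D.emb.apply_mem ha)
    exact ⟨n, by rw [hπ, ← map_pow, show (⟨f a, haC⟩ : ↥C) ^ 2 ^ n = 1 from Subtype.ext hn, map_one]⟩
  exact ⟨x', (QuotientGroup.eq_one_iff _).1 (h2.eq_one_of_odd hodd), rfl⟩

end Setup

end Cfsg.Agent.J2Core
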