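import Cfsg.Agent.Lib.J2Type.Points

/-!
More facts on the table: the two elementary abelian subgroups of order sixteen, the centraliser of the second
centre, and small facts on the alternating group of degree five.
-/

set_option autoImplicit false
set_option maxRecDepth 20000
set_option synthInstance.maxSize 4000
set_option synthInstance.maxHeartbeats 400000

namespace Cfsg.Agent.J2Core

open Cfsg.Agent.J2Type
open Cfsg.Agent.J2Type.Cen (act4)

/-- The first elementary abelian subgroup of order sixteen. -/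
def inA (x : ℕ) : Bool := (0x52830000008008000010800804000107 : ℕ).testBit x

/-- The second elementary abelian subgroup of order sixteen. -/
def inB (x : ℕ) : Bool := (0x1704212101201000000000000000107 : ℕ).testBit x

/-- The centraliser of the second centre. -/
def inW (x : ℕ) : Bool := Nat.beq (mulN x 1) (mulN 1 x)

theorem inA_mem : inA 0 = true ∧ inA 1 = true ∧ inA 2 = true ∧ inA 8 = true ∧ inA 26 = true ∧
    uc 26 = false ∧ inB (cj 5 26) = true ∧ uc (cj 5 26) = false ∧ inA 5 = false ∧ inB 5 = false ∧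
    inQ 3 = true := by decide +kernel

theorem inA_closed : ∀ a < 128, ∀ b < 128, inA a = true → inA b = true →
    inA (mulN a b) = true ∧ mulN a b = mulN b a ∧ mulN a a = 0 := by decide +kernel

theorem inB_closed : ∀ a < 128, ∀ b < 128, inB a = true → inB b = true →
    inB (mulN a b) = true ∧ mulN a b = mulN b a ∧ mulN a a = 0 := by decide +kernel

theorem inA_count : ((List.range 128).countP inA) = 16 ∧ ((List.range 128).countP inB) = 16 ∧
    ((List.range 128).countP uc) = 4 := by decide +kernel

theorem inA_cent : ∀ a < 128, ∀ x < 128, inA a = true → uc a = false → mulN a x = mulN x a → inA x = true := by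
  decide +kernel

theorem inB_cent : ∀ a < 128, ∀ x < 128, inB a = true → uc a = false → mulN a x = mulN x a → inB x = true := by
  decide +kernel

theorem inA_inB : ∀ a < 128, ((inA a && inB a) = uc a) ∧ (uc a = true → inA a = true ∧ inB a = true) ∧
    inA (cj 5 a) = inB a ∧ inB (cj 5 a) = inA a ∧ (inA a = true → inW a = true) ∧
    (inB a = true → inW a = true) := by decide +kernel

theorem inW_closed : ∀ a < 128, ∀ b < 128, inW a = true → inW b = true →
    inW (mulN a b) = true := by decide +kernel

theorem inW_split : ∀ x < 128, inW x = true → ∃ a < 128, inA a = true ∧ inB (mulN a x) = true := by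
  decide +kernel

theorem inW_norm : ∀ w < 128, inW w = true → ∀ a < 128, (inA a = true → inA (cj w a) = true) ∧
    (inB a = true → inB (cj w a) = true) := by decide +kernel

theorem norm_inW : ∀ s < 128, inA (cj s 26) = true → inW s = true := by decide +kernel

theorem invol_inW : ∀ x < 128, mulN x x = 0 → inW x = true → inA x = true ∨ inB x = true := by
  decide +kernel

theorem invol_out : ∀ x < 128, mulN x x = 0 → inW x = false → ((List.range 128).countP fun y =>
    Nat.beq (mulN y y) 0 && Nat.beq (mulN x y) (mulN y x)) = 4 := by decide +kernel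

theorem cross : ∀ a < 128, ∀ b < 128, inA a = true → uc a = false → inB b = true → uc b = false →
    mulN a b ≠ mulN b a ∧ uc (mulN (mulN a b) (mulN a b)) = true ∧ mulN (mulN a b) (mulN a b) ≠ 0 := by
  decide +kernel

theorem cross_count : ((List.range 128).map fun a => (List.range 128).countP fun b =>
    (inA a && !uc a && inB b && !uc b && Nat.beq (mulN (mulN a b) (mulN a b)) 2)).sum = 48 := by
  decide +kernel

theorem coset_orbit : ∀ x < 128, ∀ y < 128, inA x = true → uc x = false → inA y = true →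
    uc (mulN x y) = true → ∃ w < 128, inW w = true ∧ cj w x = y := by decide +kernel

/-- The labels of the first subgroup outside the second centre. -/
def outA : List ℕ := [26, 35, 47, 52, 75, 87, 112, 113, 119, 121, 124, 126]

theorem outA_mem : ∀ a < 128, inA a = true → uc a = false → a ∈ outA := by decide +kernel

theorem coset_three : ∀ a ∈ outA, ∀ b ∈ outA, ∀ c ∈ outA, uc (mulN a b) = false →
    uc (mulN a c) = true ∨ uc (mulN b c) = true ∨ uc (mulN (mulN a b) c) = true := by decide +kernel

theorem act_inA : ∀ a < 128, inA a = true → inQ a = true → uc a = true := by decide +kernel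

theorem inQ_uc : ∀ a < 128, uc a = true → inQ a = true := by decide +kernel

theorem uc_conj : ∀ a < 128, ∀ b < 128, uc b = true → uc (cj a b) = true := by decide +kernel

theorem q_four : ∀ x < 128, mulN x 5 = mulN 5 x → mulN x x = 0 ∨ mulN x x = 2 := by decide +kernel

theorem q_four_count : ((List.range 128).countP fun y =>
    Nat.beq (mulN y y) 0 && Nat.beq (mulN 5 y) (mulN y 5)) = 4 := by decide +kernel

theorem z_only : ∀ x < 128, (∀ g < 128, mulN x g = mulN g x) → zc x = true := by decide +kernel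

theorem pairs_inW : ∀ i < 4, ∀ j < 4, inW (mulN (pt i) (pt j)) = true := by decide +kernel

theorem pt_prod : mulN (mulN (mulN (mulN (pt 0) (pt 1)) (pt 2)) (pt 3)) (pt 4) = 2 := by decide +kernel

theorem pt_comm : ∀ i < 5, ∀ j < 5, zc (cm (pt i) (pt j)) = true := by decide +kernel

/-! ### The alternating group of degree five -/

theorem five_cent : ∀ σ τ : alternatingGroup (Fin 5), σ * σ = 1 → σ ≠ 1 → τ * σ = σ * τ → τ * τ = 1 := by
  decide +kernel

theorem five_four : ∀ σ : alternatingGroup (Fin 5), σ * σ * (σ * σ) = 1 → σ * σ = 1 := by decide +kernel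

theorem five_fix : ∀ σ τ : alternatingGroup (Fin 5), σ ≠ 1 → (σ : Equiv.Perm (Fin 5)) ∈ act4 →
    τ * σ = σ * τ → (τ : Equiv.Perm (Fin 5)) 4 = 4 := by decide +kernel

theorem five_stab : ∀ σ τ : alternatingGroup (Fin 5), (τ : Equiv.Perm (Fin 5)) 4 = 4 →
    ((σ : Equiv.Perm (Fin 5)) ∈ act4 → ((τ * σ * τ⁻¹ : alternatingGroup (Fin 5)) : Equiv.Perm (Fin 5)) ∈ act4) ∧
    (τ * τ = 1 → (τ : Equiv.Perm (Fin 5)) ∈ act4) := by decide +kernel

theorem five_trans : ∀ i j : Fin 5, i ≠ 4 → j ≠ 4 → ∃ σ ∈ act4, σ i = j := by decide +kernel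

theorem five_cycle : ∃ γ : alternatingGroup (Fin 5), (γ : Equiv.Perm (Fin 5)) 4 = 4 ∧
    ∀ σ : alternatingGroup (Fin 5), (σ : Equiv.Perm (Fin 5)) ∈ act4 → σ ≠ 1 →
      γ * σ * γ⁻¹ ≠ σ ∧ γ * γ * σ * (γ * γ)⁻¹ ≠ σ := by decide +kernel

end Cfsg.Agent.J2Core

namespace Cfsg.Agent.J2Core

open Cfsg.Agent.J2Type
open Cfsg.Agent.J2Type.Cen (act4)

theorem four_pair : mulN 3 5 = mulN 5 3 ∧ mulN 10 5 = mulN 5 10 ∧ mulN 3 3 = 2 ∧ mulN 10 10 = 2 ∧
    mulN (mulN (invN 3) 10) (mulN (invN 3) 10) = 2 := by decide +kernel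

theorem act4_three : ∀ σ τ ρ : alternatingGroup (Fin 5), (σ : Equiv.Perm (Fin 5)) ∈ act4 →
    (τ : Equiv.Perm (Fin 5)) ∈ act4 → (ρ : Equiv.Perm (Fin 5)) ∈ act4 → σ ≠ 1 → τ ≠ 1 → σ ≠ τ →
    ρ = 1 ∨ ρ = σ ∨ ρ = τ ∨ ρ = σ * τ := by decide +kernel

theorem inA_pair : inA 75 = true ∧ uc 75 = false ∧ inQ 26 = false ∧ inQ (mulN 26 75) = false ∧
    inQ 75 = false := by decide +kernel

theorem pt_four : ∀ j : Fin 5,
    (pt j = 1 ∨ mulN (pt j) 2 = 1 ∨ pt j = 8 ∨ mulN (pt j) 2 = 8) → j = 4 := by decide +kernel

theorem inB_pair : inB 116 = true ∧ inB 92 = true ∧ inQ 116 = false ∧ inQ 92 = false ∧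
    inQ (mulN 116 92) = false := by decide +kernel

end Cfsg.Agent.J2Core
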