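import Cfsg.Agent.Lib.J2Core.Gen
import Cfsg.Agent.Lib.J2Core.Tables
import Cfsg.Agent.Lib.Transfer.Fusion

/-!
The setting: a simple group with the table as Sylow 2-subgroup; the two elementary abelian subgroups of order
sixteen, the second centre and their basic properties.
-/

set_option autoImplicit false
set_option linter.style.haveILetI false
set_option linter.unusedSectionVars false

namespace Cfsg.Agent.J2Core

open Subgroup
open Cfsg.Agent.J2Type
open Cfsg.Agent.ClosedAbelian (TwoEl core)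

universe u

/-- A simple group with the table as Sylow 2-subgroup. -/
structure Setup {G : Type u} [Group G] (f : ℕ → G) : Prop where
  emb : Emb f
  odd : ¬ 2 ∣ emb.range.index
  simple : IsSimpleGroup G

/-- The odd core of the centraliser of an element. -/
abbrev Kf {G : Type u} [Group G] (a : G) : Subgroup G := core (centralizer ({a} : Set G))

variable {G : Type u} [Group G] {f : ℕ → G}

/-- The subgroup of the labels in a closed set. -/
def lsub (E : Emb f) (p : ℕ → Bool) (h0 : p 0 = true)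
    (hm : ∀ a < 128, ∀ b < 128, p a = true → p b = true → p (mulN a b) = true)
    (hi : ∀ a < 128, p a = true → p (invN a) = true) : Subgroup G where
  carrier := {g | ∃ a, a < 128 ∧ p a = true ∧ f a = g}
  one_mem' := ⟨0, by omega, h0, E.one⟩
  mul_mem' := by
    rintro _ _ ⟨a, ha, pa, rfl⟩ ⟨b, hb, pb, rfl⟩
    exact ⟨mulN a b, mulN_lt _ _, hm a ha b hb pa pb, E.hom a b ha hb⟩
  inv_mem' := by
    rintro _ ⟨a, ha, pa, rfl⟩
    exact ⟨invN a, invN_lt _, hi a ha pa, E.inv ha⟩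

theorem mem_lsub {E : Emb f} {p : ℕ → Bool} {h0 hm hi} {g : G} :
    g ∈ lsub E p h0 hm hi ↔ ∃ a, a < 128 ∧ p a = true ∧ f a = g := Iff.rfl

theorem inv_table : ∀ a < 128, (inA a = true → inA (invN a) = true) ∧ (inB a = true → inB (invN a) = true) ∧
    (uc a = true → uc (invN a) = true) ∧ (inW a = true → inW (invN a) = true) := by decide +kernel

theorem uc_closed : ∀ a < 128, ∀ b < 128, uc a = true → uc b = true → uc (mulN a b) = true := by
  decide +kernel

namespace Setup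

variable (D : Setup f)
include D

/-- The first elementary abelian subgroup of order sixteen. -/
def A : Subgroup G :=
  lsub D.emb inA inA_mem.1 (fun a ha b hb pa pb => (inA_closed a ha b hb pa pb).1) fun a ha => (inv_table a ha).1

/-- The second elementary abelian subgroup of order sixteen. -/
def B : Subgroup G :=
  lsub D.emb inB (by decide +kernel) (fun a ha b hb pa pb => (inB_closed a ha b hb pa pb).1)
    fun a ha => (inv_table a ha).2.1

/-- The second centre. -/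
def U : Subgroup G := lsub D.emb uc (by decide) uc_closed fun a ha => (inv_table a ha).2.2.1

/-- The centraliser of the second centre in the Sylow subgroup. -/
def W : Subgroup G := lsub D.emb inW (by decide +kernel) inW_closed fun a ha => (inv_table a ha).2.2.2

theorem f_mem_A {a : ℕ} (ha : a < 128) : f a ∈ D.A ↔ inA a = true :=
  ⟨fun ⟨b, hb, pb, e⟩ => D.emb.inj b a hb ha e ▸ pb, fun h => ⟨a, ha, h, rfl⟩⟩

theorem f_mem_B {a : ℕ} (ha : a < 128) : f a ∈ D.B ↔ inB a = true :=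
  ⟨fun ⟨b, hb, pb, e⟩ => D.emb.inj b a hb ha e ▸ pb, fun h => ⟨a, ha, h, rfl⟩⟩

theorem f_mem_U {a : ℕ} (ha : a < 128) : f a ∈ D.U ↔ uc a = true :=
  ⟨fun ⟨b, hb, pb, e⟩ => D.emb.inj b a hb ha e ▸ pb, fun h => ⟨a, ha, h, rfl⟩⟩

theorem f_mem_W {a : ℕ} (ha : a < 128) : f a ∈ D.W ↔ inW a = true :=
  ⟨fun ⟨b, hb, pb, e⟩ => D.emb.inj b a hb ha e ▸ pb, fun h => ⟨a, ha, h, rfl⟩⟩

theorem A_le : D.A ≤ D.emb.range := by rintro _ ⟨a, ha, -, rfl⟩; exact D.emb.apply_mem ha
theorem B_le : D.B ≤ D.emb.range := by rintro _ ⟨a, ha, -, rfl⟩; exact D.emb.apply_mem ha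
theorem W_le : D.W ≤ D.emb.range := by rintro _ ⟨a, ha, -, rfl⟩; exact D.emb.apply_mem ha

theorem A_le_W : D.A ≤ D.W := by
  rintro _ ⟨a, ha, pa, rfl⟩; exact (D.f_mem_W ha).2 ((inA_inB a ha).2.2.2.2.1 pa)

theorem B_le_W : D.B ≤ D.W := by
  rintro _ ⟨a, ha, pa, rfl⟩; exact (D.f_mem_W ha).2 ((inA_inB a ha).2.2.2.2.2 pa)

theorem U_le_A : D.U ≤ D.A := by
  rintro _ ⟨a, ha, pa, rfl⟩; exact (D.f_mem_A ha).2 ((inA_inB a ha).2.1 pa).1

theorem U_le_B : D.U ≤ D.B := by
  rintro _ ⟨a, ha, pa, rfl⟩; exact (D.f_mem_B ha).2 ((inA_inB a ha).2.1 pa).2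

theorem card_A : Nat.card D.A = 16 := by
  rw [D.emb.card_subset D.A D.A_le inA fun a ha => D.f_mem_A ha]; exact inA_count.1

theorem card_B : Nat.card D.B = 16 := by
  rw [D.emb.card_subset D.B D.B_le inB fun a ha => D.f_mem_B ha]; exact inA_count.2.1

theorem card_U : Nat.card D.U = 4 := by
  rw [D.emb.card_subset D.U (D.U_le_A.trans D.A_le) uc fun a ha => D.f_mem_U ha]; exact inA_count.2.2

theorem A_inf_B : D.A ⊓ D.B = D.U := by
  refine le_antisymm ?_ (le_inf D.U_le_A D.U_le_B)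
  rintro _ ⟨⟨a, ha, pa, rfl⟩, hb⟩
  rw [D.f_mem_U ha, ← (inA_inB a ha).1, pa, (D.f_mem_B ha).1 hb]
  rfl

theorem U_cases {g : G} (hg : g ∈ D.U) : g = 1 ∨ g = f 2 ∨ g = f 1 ∨ g = f 8 := by
  obtain ⟨a, ha, pa, rfl⟩ := hg
  rcases D.emb.uc_cases pa with rfl | rfl | rfl | rfl
  exacts [Or.inl D.emb.one, Or.inr (Or.inl rfl), Or.inr (Or.inr (Or.inl rfl)), Or.inr (Or.inr (Or.inr rfl))]

theorem A_mul_self {x : G} (hx : x ∈ D.A) : x * x = 1 := by
  obtain ⟨a, ha, pa, rfl⟩ := hx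
  exact (D.emb.sq_one_iff ha).2 (inA_closed a ha a ha pa pa).2.2

theorem A_comm {x y : G} (hx : x ∈ D.A) (hy : y ∈ D.A) : x * y = y * x := by
  obtain ⟨a, ha, pa, rfl⟩ := hx
  obtain ⟨b, hb, pb, rfl⟩ := hy
  exact (D.emb.commute_iff ha hb).2 (inA_closed a ha b hb pa pb).2.1

theorem A_ea : Cfsg.IsElementaryAbelian 2 D.A :=
  ⟨.of_setLike_mul_comm fun _ hx _ hy => D.A_comm hx hy, fun x hx => by rw [pow_two]; exact D.A_mul_self hx⟩

theorem U_ea : Cfsg.IsElementaryAbelian 2 D.U := Signalizer.ea_mono D.A_ea D.U_le_A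

theorem A_two : IsPGroup 2 D.A := Signalizer.ea_isPGroup D.A_ea

theorem W_two : IsPGroup 2 D.W := D.emb.isPGroup_range.to_le D.W_le

theorem A_le_centralizer {a : G} (ha : a ∈ D.A) : D.A ≤ centralizer ({a} : Set G) := fun _ hx =>
  mem_centralizer_singleton_iff.2 (D.A_comm hx ha)

theorem A_le_cA : D.A ≤ centralizer (D.A : Set G) := fun _ hx =>
  mem_centralizer_iff.2 fun _ hy => D.A_comm hy hx

theorem z_mem_U : f 2 ∈ D.U := (D.f_mem_U (by omega)).2 rfl
theorem u_mem_U : f 1 ∈ D.U := (D.f_mem_U (by omega)).2 rfl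
theorem uz_mem_U : f 8 ∈ D.U := (D.f_mem_U (by omega)).2 rfl
theorem o_mem_A : f 26 ∈ D.A := (D.f_mem_A (by omega)).2 inA_mem.2.2.2.2.1
theorem o_not_U : f 26 ∉ D.U := fun h => by
  have h1 := (D.f_mem_U (by omega)).1 h
  rw [inA_mem.2.2.2.2.2.1] at h1
  exact Bool.false_ne_true h1

theorem U_comm_W {x w : G} (hx : x ∈ D.U) (hw : w ∈ D.W) : w * x = x * w := by
  obtain ⟨a, ha, pa, rfl⟩ := hx
  obtain ⟨b, hb, pb, rfl⟩ := hw
  refine (D.emb.commute_iff hb ha).2 ?_
  have h1 : mulN b 1 = mulN 1 b := Nat.eq_of_beq_eq_true pb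
  rcases D.emb.uc_cases pa with rfl | rfl | rfl | rfl
  · rw [(group_check b hb).2.2.1, (group_check b hb).2.2.2]
  · exact z_check b hb
  · exact h1
  · exact (u_check b hb).2 h1

theorem q_sq : f 5 * f 5 = 1 := (D.emb.sq_one_iff (by omega)).2 u_facts.2.2.2.2.2.2.2.1

theorem q_A {x : G} (hx : x ∈ D.A) : f 5 * x * (f 5)⁻¹ ∈ D.B := by
  obtain ⟨a, ha, pa, rfl⟩ := hx
  rw [← D.emb.conj (by omega) ha, D.f_mem_B (show cj 5 a < 128 from mulN_lt _ _), (inA_inB a ha).2.2.2.1, pa]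

theorem q_B {x : G} (hx : x ∈ D.B) : f 5 * x * (f 5)⁻¹ ∈ D.A := by
  obtain ⟨a, ha, pa, rfl⟩ := hx
  rw [← D.emb.conj (by omega) ha, D.f_mem_A (show cj 5 a < 128 from mulN_lt _ _), (inA_inB a ha).2.2.1, pa]

theorem W_norm_A {w : G} (hw : w ∈ D.W) {x : G} (hx : x ∈ D.A) : w * x * w⁻¹ ∈ D.A := by
  obtain ⟨b, hb, pb, rfl⟩ := hw
  obtain ⟨a, ha, pa, rfl⟩ := hx
  rw [← D.emb.conj hb ha, D.f_mem_A (show cj b a < 128 from mulN_lt _ _)]
  exact (inW_norm b hb pb a ha).1 pa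

theorem W_norm_B {w : G} (hw : w ∈ D.W) {x : G} (hx : x ∈ D.B) : w * x * w⁻¹ ∈ D.B := by
  obtain ⟨b, hb, pb, rfl⟩ := hw
  obtain ⟨a, ha, pa, rfl⟩ := hx
  rw [← D.emb.conj hb ha, D.f_mem_B (show cj b a < 128 from mulN_lt _ _)]
  exact (inW_norm b hb pb a ha).2 pa

theorem A_cent_out {x s : G} (hx : x ∈ D.A) (hxU : x ∉ D.U) (hs : s ∈ D.emb.range) (h : x * s = s * x) :
    s ∈ D.A := by
  obtain ⟨a, ha, pa, rfl⟩ := hx
  obtain ⟨b, hb, rfl⟩ := hs
  rw [D.f_mem_A hb]
  refine inA_cent a ha b hb pa ?_ ((D.emb.commute_iff ha hb).1 h)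
  rw [← Bool.not_eq_true, ← D.f_mem_U ha]; exact hxU

variable [Finite G]

theorem W_norm : D.W ≤ normalizer (D.A : Set G) := fun w hw =>
  SEBrick.mem_normalizer_of fun x hx => D.W_norm_A hw hx

theorem W_norm' : D.W ≤ normalizer (D.B : Set G) := fun w hw =>
  SEBrick.mem_normalizer_of fun x hx => D.W_norm_B hw hx

/-- An elementary abelian subgroup of order sixteen of the Sylow subgroup is one of the two. -/
theorem e16 {P : Subgroup G} (hP : P ≤ D.emb.range) (hsq : ∀ x ∈ P, x * x = 1) (hc : 16 ≤ Nat.card P) :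
    P = D.A ∨ P = D.B := by
  classical
  have hcomm : ∀ x ∈ P, ∀ y ∈ P, x * y = y * x := fun x hx y hy => by
    calc x * y = (x * y)⁻¹ := (inv_eq_of_mul_eq_one_right (hsq _ (mul_mem hx hy))).symm
      _ = y * x := by rw [mul_inv_rev, inv_eq_of_mul_eq_one_right (hsq x hx), inv_eq_of_mul_eq_one_right (hsq y hy)]
  have hW : P ≤ D.W := by
    intro x hx
    obtain ⟨a, ha, rfl⟩ := hP hx
    rw [D.f_mem_W ha]
    by_contra hw
    rw [Bool.not_eq_true] at hw
    have h4 := invol_out a ha ((D.emb.sq_one_iff ha).1 (hsq _ hx)) hw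
    have hle : Nat.card P ≤ 4 := by
      rw [← h4, List.countP_eq_length_filter]
      set L := (List.range 128).filter fun y => Nat.beq (mulN y y) 0 && Nat.beq (mulN a y) (mulN y a)
      have hsub : (P : Set G) ⊆ f '' {y | y ∈ L} := by
        intro y hy
        obtain ⟨b, hb, rfl⟩ := hP hy
        refine ⟨b, List.mem_filter.2 ⟨List.mem_range.2 hb, ?_⟩, rfl⟩
        rw [Bool.and_eq_true, Nat.beq_eq, Nat.beq_eq]
        exact ⟨(D.emb.sq_one_iff hb).1 (hsq _ hy), (D.emb.commute_iff ha hb).1 (hcomm _ hx _ hy)⟩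
      rw [show Nat.card P = (P : Set G).ncard from Nat.card_coe_set_eq _]
      rw [show {y | y ∈ L} = (L.toFinset : Set ℕ) by ext; simp] at hsub
      refine (Set.ncard_le_ncard hsub (Set.toFinite _)).trans ((Set.ncard_image_le (Finset.finite_toSet _)).trans ?_)
      rw [Set.ncard_coe_finset]
      exact L.toFinset_card_le
    omega
  have hAB : ∀ x ∈ P, x ∈ D.A ∨ x ∈ D.B := fun x hx => by
    obtain ⟨a, ha, pa, rfl⟩ := hW hx
    rw [D.f_mem_A ha, D.f_mem_B ha]
    exact invol_inW a ha ((D.emb.sq_one_iff ha).1 (hsq _ hx)) pa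
  by_cases hA : P ≤ D.A
  · exact Or.inl (eq_of_le_of_card_ge hA (D.card_A ▸ hc))
  refine Or.inr (eq_of_le_of_card_ge (fun y hy => ?_) (D.card_B ▸ hc))
  obtain ⟨x, hx, hxA⟩ := SetLike.not_le_iff_exists.1 hA
  by_contra hyB
  obtain ⟨a, ha, pa, rfl⟩ := (hAB y hy).resolve_right hyB
  obtain ⟨b, hb, pb, rfl⟩ := (hAB x hx).resolve_left hxA
  refine (cross a ha b hb pa ?_ pb ?_).1 ((D.emb.commute_iff ha hb).1 (hcomm _ hy _ hx))
  · rw [← Bool.not_eq_true, ← D.f_mem_U ha]; exact fun h => hyB (D.U_le_B h)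
  · rw [← Bool.not_eq_true, ← D.f_mem_U hb]; exact fun h => hxA (D.U_le_A h)

/-- Moving a copy of the first subgroup into it, with the accompanying 2-group into the Sylow subgroup. -/
theorem exists_conj_A {R : Subgroup G} (hR : IsPGroup 2 R) {E : Subgroup G} (hE : E ≤ R)
    (hsq : ∀ x ∈ E, x * x = 1) (hc : 16 ≤ Nat.card E) :
    ∃ g : G, (∀ r ∈ R, g * r * g⁻¹ ∈ D.emb.range) ∧ ∀ x ∈ E, g * x * g⁻¹ ∈ D.A := by
  obtain ⟨g, hg⟩ := D.emb.exists_conj_le D.odd hR
  have hP := D.e16 (P := E.map (MulAut.conj g).toMonoidHom) (by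
      rintro _ ⟨x, hx, rfl⟩; exact hg x (hE hx))
    (by rintro _ ⟨x, hx, rfl⟩; rw [← map_mul, hsq x hx, map_one])
    (by rwa [card_map_of_injective (MulAut.conj g).injective])
  rcases hP with h | h
  · exact ⟨g, hg, fun x hx => h ▸ mem_map_of_mem _ hx⟩
  · refine ⟨f 5 * g, fun r hr => ?_, fun x hx => ?_⟩
    · rw [show f 5 * g * r * (f 5 * g)⁻¹ = f 5 * (g * r * g⁻¹) * (f 5)⁻¹ by group]
      exact mul_mem (mul_mem (D.emb.apply_mem (by omega)) (hg r hr)) (inv_mem (D.emb.apply_mem (by omega)))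
    · rw [show f 5 * g * x * (f 5 * g)⁻¹ = f 5 * (g * x * g⁻¹) * (f 5)⁻¹ by group]
      exact D.q_B (h ▸ mem_map_of_mem _ hx)

theorem mem_normalizer_A {g : G} (h : ∀ x ∈ D.A, g * x * g⁻¹ ∈ D.A) : g ∈ normalizer (D.A : Set G) :=
  SEBrick.mem_normalizer_of h

/-- The centraliser of the second centre in the Sylow subgroup is a Sylow subgroup of the normaliser. -/
theorem exists_conj_W {P : Subgroup G} (hP : IsPGroup 2 P) (hPN : P ≤ normalizer (D.A : Set G)) :
    ∃ m ∈ normalizer (D.A : Set G), ∀ x ∈ P, m * x * m⁻¹ ∈ D.W := by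
  haveI : Fact (Nat.Prime 2) := ⟨Nat.prime_two⟩
  obtain ⟨g, hg, hgA⟩ := D.exists_conj_A (IsPGroup.to_sup_of_normal_left' D.A_two hP hPN) le_sup_left
    (fun x hx => D.A_mul_self hx) D.card_A.ge
  have hgN := D.mem_normalizer_A hgA
  refine ⟨g, hgN, fun x hx => ?_⟩
  obtain ⟨s, hs, e⟩ := hg x (mem_sup_right hx)
  rw [← e, D.f_mem_W hs]
  refine norm_inW s hs ?_
  rw [← D.f_mem_A (show cj s 26 < 128 from mulN_lt _ _), D.emb.conj hs (by omega)]
  refine conj_mem_normalizer ?_ D.o_mem_A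
  rw [e]
  exact mul_mem (mul_mem hgN (hPN hx)) (inv_mem hgN)

/-- A 2-element centralising the subgroup lies in it. -/
theorem two_cA {x : G} (hx : x ∈ centralizer (D.A : Set G)) (h2 : TwoEl x) : x ∈ D.A := by
  haveI : Fact (Nat.Prime 2) := ⟨Nat.prime_two⟩
  obtain ⟨g, hg, hgA⟩ := D.exists_conj_A (IsPGroup.to_sup_of_normal_left' D.A_two h2.isPGroup
    ((zpowers_le.2 hx).trans (centralizer_le_normalizer _))) le_sup_left
    (fun x hx => D.A_mul_self hx) D.card_A.ge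
  have hgN := D.mem_normalizer_A hgA
  obtain ⟨a, ha, e⟩ : ∃ a ∈ D.A, g * a * g⁻¹ = f 26 :=
    ⟨g⁻¹ * f 26 * g, (mem_normalizer_iff''.1 hgN _).1 D.o_mem_A, by group⟩
  have h : g * x * g⁻¹ ∈ D.A := D.A_cent_out D.o_mem_A D.o_not_U (hg x (mem_sup_right (mem_zpowers x))) (by
    rw [← e]; exact Emb.conj_comm g (mem_centralizer_iff.1 hx a ha))
  exact (conj_mem_conj hgN).1 h

/-- Elements of odd order centralising the subgroup lie in the odd core of its centraliser. -/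
theorem odd_cA {v : G} (hv : v ∈ centralizer (D.A : Set G)) (ho : Odd (orderOf v)) :
    v ∈ core (centralizer (D.A : Set G)) := by
  haveI : Fact (Nat.Prime 2) := ⟨Nat.prime_two⟩
  obtain ⟨P, hP⟩ := (D.A_two.comap_subtype (K := centralizer (D.A : Set G))).exists_le_sylow
  have hPA : ∀ x : ↥(centralizer (D.A : Set G)), x ∈ (P : Subgroup ↥(centralizer (D.A : Set G))) →
      (x : G) ∈ D.A := fun x hx => by
    obtain ⟨k, hk⟩ := P.2 ⟨x, hx⟩
    exact D.two_cA x.2 ⟨k, by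
      have := congrArg Subtype.val (congrArg Subtype.val hk)
      simpa using this⟩
  have hnpc := Fusion.hasNormalPComplement_of_normalizer_le_centralizer (p := 2) P fun x _ =>
    mem_centralizer_iff.2 fun y hy => Subtype.ext (mem_centralizer_iff.1 x.2 y (hPA y hy))
  have hodd : (⟨v, hv⟩ : ↥(centralizer (D.A : Set G))) ∈ Cfsg.pResidual 2 _ :=
    PBasic.mem_pResidual (by rw [orderOf_mk]; exact Nat.coprime_two_right.2 ho)
  refine ⟨⟨v, hv⟩, PBasic.le_pPrimeCore (PBasic.pResidual_normal_inst 2 _) ?_ hodd, rfl⟩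
  exact (PBasic.coprime_card_iff _).2 fun x hx => (PBasic.mem_pResidual_iff hnpc).1 hx

theorem not_comm : ¬ IsMulCommutative G := fun h =>
  u_facts.2.2.2.2.2.2.2.2.1 ((D.emb.commute_iff (show 5 < 128 by omega) (show 1 < 128 by omega)).1
    (h.is_comm.comm _ _))

theorem index_ne_two (H : Subgroup G) : H.index ≠ 2 := by
  intro h
  haveI := D.simple
  haveI := Subgroup.normal_of_index_eq_two h
  rcases IsSimpleGroup.eq_bot_or_eq_top_of_normal H inferInstance with rfl | rfl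
  · have h1 := Subgroup.card_subgroup_dvd_card D.emb.range
    rw [D.emb.card_range, ← Subgroup.index_bot, h] at h1
    omega
  · rw [Subgroup.index_top] at h
    omega

theorem normalizer_ne_top {X : Subgroup G} (h1 : X ≠ ⊥) (h2 : X ≠ ⊤) : normalizer (X : Set G) ≠ ⊤ := by
  intro h
  haveI := D.simple
  rcases IsSimpleGroup.eq_bot_or_eq_top_of_normal X (normalizer_eq_top_iff.1 h) with e | e
  exacts [h1 e, h2 e]

theorem ne_top_of_odd {X : Subgroup G} (hX : ¬ 2 ∣ Nat.card X) : X ≠ ⊤ := by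
  rintro rfl
  refine hX ?_
  rw [card_top]
  exact (dvd_trans (by norm_num) (D.emb.card_range ▸ Subgroup.card_subgroup_dvd_card D.emb.range))

end Setup

end Cfsg.Agent.J2Core
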