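import Cfsg.Agent.Lib.J2Core.Sec

/-!
The centraliser of the outside representative lies in every overgroup of the normaliser of the second centre and
of the subgroup of the three cores, unless there is balance.
-/

set_option autoImplicit false
set_option linter.style.haveILetI false
set_option linter.unusedSectionVars false

namespace Cfsg.Agent.J2Core

open Subgroup
open Cfsg.Agent.J2Type
open Cfsg.Agent.J2Type.Cen (act4)
open Cfsg.Agent.ClosedAbelian (TwoEl core mem_of_sq_mem odd_orderOf_of_mem)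

universe u

variable {G : Type u} [Group G] [Finite G] {f : ℕ → G}

namespace Setup

variable (D : Setup f) {M : Subgroup G} (hNU : normalizer (D.U : Set G) ≤ M) (hG : GU f ≤ M)
include D hNU hG

theorem stab_mem {x : G} (hx : x * f 2 = f 2 * x)
    (h4 : ((D.perm hx : alternatingGroup (Fin 5)) : Equiv.Perm (Fin 5)) 4 = 4) : x ∈ M := by
  obtain ⟨k, hk, hu⟩ := (D.perm_four hx).1 h4
  have hxz : x * f 2 * x⁻¹ = f 2 := by rw [hx, mul_inv_cancel_right]
  have h1 : x * f 1 * x⁻¹ ∈ Kf (f 2) ⊔ D.U := by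
    rcases hu with e | e <;> rw [e]
    exacts [mul_mem (mem_sup_left hk) (mem_sup_right D.u_mem_U),
      mul_mem (mem_sup_left hk) (mem_sup_right D.uz_mem_U)]
  have hU : ∀ a ∈ D.U, x * a * x⁻¹ ∈ Kf (f 2) ⊔ D.U := by
    intro a ha
    rcases D.U_cases ha with rfl | rfl | rfl | rfl
    · rw [show x * 1 * x⁻¹ = (1 : G) by group]; exact one_mem _
    · rw [hxz]; exact mem_sup_right D.z_mem_U
    · exact h1
    · rw [show (8 : ℕ) = mulN 1 2 from u_facts.2.2.2.1.symm, D.emb.hom 1 2 (by omega) (by omega),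
        show x * (f 1 * f 2) * x⁻¹ = x * f 1 * x⁻¹ * (x * f 2 * x⁻¹) by group, hxz]
      exact mul_mem h1 (mem_sup_right D.z_mem_U)
  obtain ⟨o, ho, hox⟩ := Walter8.exists_lift_normalizer (Signalizer.ea_isPGroup D.U_ea)
    (by rw [← Nat.not_even_iff_odd, even_iff_two_dvd]; exact ClosedAbelian.core_odd _)
    ((D.U_le_A.trans D.A_le_cz).trans (ClosedAbelian.core_normalized _)) hU
  rw [show x = o⁻¹ * (o * x) by group]
  exact mul_mem (inv_mem (hG (D.Kf_le_GU D.z_mem_U D.z_ne ho))) (hNU hox)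

theorem cz_inf_out {a x : G} (ha : a ∈ D.A) (haU : a ∉ D.U) (hxz : x * f 2 = f 2 * x) (hxa : x * a = a * x) :
    x ∈ M := by
  refine D.stab_mem hNU hG hxz ?_
  obtain ⟨i, hi, pi, rfl⟩ := ha
  refine five_fix (D.perm (D.lab_comm hi)) _ (fun e => haU ?_) (D.perm_lab_mem hi) ?_
  · exact (D.f_mem_U hi).2 (act_inA i hi pi ((D.perm_lab_one hi).1 e))
  · show D.bar _ * D.bar _ = D.bar _ * D.bar _
    rw [← map_mul, ← map_mul]
    exact congrArg D.bar (Subtype.ext hxa)

theorem cU_inf_co (hU : D.StabU) {w x : G} (hw : w ∈ D.U) (hw1 : w ≠ 1) (hxw : x * w = w * x)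
    (hxo : x * f 26 = f 26 * x) : x ∈ M := by
  obtain ⟨g, hgA, -, e⟩ := D.conj_U hw hw1
  have hgM : g ∈ M := hNU (D.normalizer_A_le hU hgA)
  have hy : g⁻¹ * x * g * f 2 = f 2 * (g⁻¹ * x * g) := by
    have h := Emb.conj_comm g⁻¹ hxw
    rwa [inv_inv, ← e, show g⁻¹ * (g * f 2 * g⁻¹) * g = f 2 by group] at h
  have hyo := Emb.conj_comm g⁻¹ hxo
  rw [inv_inv] at hyo
  have hA : g⁻¹ * f 26 * g ∈ D.A := (mem_normalizer_iff''.1 hgA _).1 D.o_mem_A
  have hAU : g⁻¹ * f 26 * g ∉ D.U := by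
    have h := hU g⁻¹ (inv_mem hgA) _ D.o_mem_A D.o_not_U
    rwa [inv_inv] at h
  have h := D.cz_inf_out hNU hG hA hAU hy hyo
  rw [show x = g * (g⁻¹ * x * g) * g⁻¹ by group]
  exact mul_mem (mul_mem hgM h) (inv_mem hgM)

theorem Kf_o_le : Kf (f 26) ≤ M := by
  haveI : Fact (Nat.Prime 2) := ⟨Nat.prime_two⟩
  refine Signalizer.le_of_centralizer_le D.U_ea (by rw [D.card_U]; norm_num)
    (D.U_le_A.trans (D.A_le_normalizer_Kf D.o_mem_A)) (ClosedAbelian.core_odd _) fun b hb hb1 => ?_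
  exact (D.Kf_inf_le D.o_mem_A hb hb1).trans ((D.Kf_le_GU hb hb1).trans hG)

/-- Without balance the centraliser of the outside representative is inside. -/
theorem co_le (hU : D.StabU) (hn : D.NT (f 26)) (hbal : ¬ D.BalO) :
    centralizer ({f 26} : Set G) ≤ M := by
  classical
  haveI : Fact (Nat.Prime 2) := ⟨Nat.prime_two⟩
  obtain ⟨X, _, _, π, hπ⟩ := D.exists_sec hU hn
  have ho := D.o_mem_A
  have hAN := D.normalizer_A_le hU
  have hAM : D.A ≤ M := (D.A_le_cA.trans (centralizer_le_normalizer _)).trans (hAN.trans hNU)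
  have hKM := D.Kf_o_le hNU hG
  have hker : Kf (f 26) ⊔ D.Vof (f 26) ≤ M := sup_le hKM ((D.Vof_le _).trans hAM)
  set Mb := (M.subgroupOf (centralizer ({f 26} : Set G))).map π with hMb
  have hback : ∀ x : ↥(centralizer ({f 26} : Set G)), π x ∈ Mb → (x : G) ∈ M := by
    rintro x ⟨y, hy, e⟩
    have h := hker ((hπ.ker (y⁻¹ * x)).1 (by rw [map_mul, map_inv, e, inv_mul_cancel]))
    rw [coe_mul, coe_inv] at h
    rw [show (x : G) = (y : G) * ((y : G)⁻¹ * x) by group]
    exact mul_mem (mem_subgroupOf.1 hy) h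
  -- the centralisers of the involutions of the image of the second centre
  have hCe : ∀ e ∈ Ubar D π, e ≠ 1 → centralizer ({e} : Set X) ≤ Mb := by
    rintro e ⟨w', hw', rfl⟩ he1 v hv
    obtain ⟨x, rfl⟩ := hπ.surj v
    refine ⟨x, mem_subgroupOf.2 ?_, rfl⟩
    obtain ⟨w, hwC⟩ := w'
    have hwU : w ∈ D.U := mem_subgroupOf.1 hw'
    have hw1 : w ≠ 1 := by
      rintro rfl
      exact he1 (map_one π)
    have hwA := D.U_le_A hwU
    have hxo := mem_centralizer_singleton_iff.1 x.2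
    have hcomm : π (x * ⟨w, hwC⟩ * x⁻¹ * ⟨w, hwC⟩⁻¹) = 1 := by
      rw [map_mul, map_mul, map_mul, map_inv, map_inv, mem_centralizer_singleton_iff.1 hv, mul_inv_cancel_right,
        mul_inv_cancel]
    obtain ⟨k, hk, v, hv, e⟩ := (SolvBasic.mem_sup_iff_of_le_normalizer
      ((D.Vof_le _).trans (D.A_le_normalizer_Kf ho))).1 ((hπ.ker _).1 hcomm)
    rw [coe_mul, coe_mul, coe_mul, coe_inv, coe_inv] at e
    set s := (x : G) * w * (x : G)⁻¹ with hs
    have hvA := D.Vof_le _ hv
    have hs' : s = k * (v * w) := by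
      rw [← mul_assoc, ← e]; simp only [s]; group
    have hs2 : orderOf s = 2 := by
      rw [hs, Invol.order_conj]
      exact Invol.order_two_of_sq (D.A_mul_self hwA) hw1
    have hvwA : v * w ∈ D.A := mul_mem hvA hwA
    have hvw1 : v * w ≠ 1 := fun h => by
      rw [h, mul_one] at hs'
      have h3 : Odd (orderOf s) := hs' ▸ odd_orderOf_of_mem (ClosedAbelian.core_odd _) hk
      rw [hs2] at h3
      exact absurd h3 (by decide)
    have hvw2 : orderOf (v * w) = 2 := Invol.order_two_of_sq (D.A_mul_self hvwA) hvw1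
    have hsk : s * (v * w) = k := by rw [hs', mul_assoc, D.A_mul_self hvwA, mul_one]
    obtain ⟨m, hm⟩ : Odd (orderOf (s * (v * w))) := hsk ▸ odd_orderOf_of_mem (ClosedAbelian.core_odd _) hk
    set d := (s * (v * w)) ^ (m : ℤ) with hd
    have hdK : d ∈ Kf (f 26) := by rw [hd, hsk]; exact zpow_mem hk _
    have hds : d * s * d⁻¹ = v * w := by
      rw [hd, Invol.zpow_mul_conj (Invol.conj_mul hs2 hvw2)]
      conv_rhs => rw [Invol.y_eq hs2 hvw2]
      congr 1
      have h1 : (s * (v * w)) ^ (2 * (m : ℤ) + 1) = 1 := by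
        have := pow_orderOf_eq_one (s * (v * w))
        rw [hm, ← zpow_natCast] at this
        push_cast at this; exact this
      rw [zpow_add, zpow_one] at h1
      rw [zpow_neg_one]
      exact mul_eq_one_iff_eq_inv.mp h1
    have hvwU : v * w ∈ D.U := by
      by_contra hout
      obtain ⟨g, -, -, eg⟩ := D.conj_out hvwA hout ho D.o_not_U
      obtain ⟨c, -, -, ec⟩ := D.conj_U hwU hw1
      obtain ⟨q, eq⟩ : ∃ q : G, q * f 2 * q⁻¹ = f 26 := ⟨g * d * (x : G) * c, by
        rw [show g * d * (x : G) * c * f 2 * (g * d * (x : G) * c)⁻¹ =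
          g * (d * ((x : G) * (c * f 2 * c⁻¹) * (x : G)⁻¹) * d⁻¹) * g⁻¹ by group, ec, ← hs, hds, eg]⟩
      exact D.no_fusion hU q⁻¹ (by rw [← eq]; group)
    have hv1 : v = 1 := by
      rw [← mem_bot, ← D.Vof_inf_U hU ho D.o_not_U hn]
      refine ⟨hv, ?_⟩
      have := mul_mem hvwU (inv_mem hwU)
      rwa [mul_inv_cancel_right] at this
    rw [hv1, one_mul] at hds
    have hdx : d * x ∈ M := by
      refine D.cU_inf_co hNU hG hU hwU hw1 ?_
        (((show Commute d (f 26) from Kf_comm hdK).mul_left hxo).eq)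
      refine mul_inv_eq_iff_eq_mul.1 ?_
      rw [show d * x * w * (d * (x : G))⁻¹ = d * ((x : G) * w * (x : G)⁻¹) * d⁻¹ by group, ← hs, hds]
    rw [show (x : G) = d⁻¹ * (d * x) by group]
    exact mul_mem (inv_mem (hKM hdK)) hdx
  -- the normaliser of the image
  have hNe : normalizer (Ubar D π : Set X) ≤ Mb := by
    intro g hg
    obtain ⟨x, rfl⟩ := hπ.surj g
    refine ⟨x, mem_subgroupOf.2 ?_, rfl⟩
    have hconj : ∀ p ∈ D.A, (x : G) * p * (x : G)⁻¹ ∈ Kf (f 26) ⊔ D.A := by
      intro p hp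
      obtain ⟨v, hv, w, hw, rfl⟩ := (SolvBasic.mem_sup_iff_of_le_normalizer
        ((D.U_le_A.trans (Signalizer.ea_le_centralizer D.A_ea (D.Vof_le _))).trans
          (centralizer_le_normalizer _))).1 (D.A_le_Vof_sup hU ho D.o_not_U hp)
      rw [show (x : G) * (v * w) * (x : G)⁻¹ =
        (x : G) * v * (x : G)⁻¹ * v⁻¹ * v * ((x : G) * w * (x : G)⁻¹) by group]
      refine mul_mem (mul_mem (mem_sup_left (D.Vof_central hU ho D.o_not_U hv
        (mem_centralizer_singleton_iff.1 x.2))) (mem_sup_right (D.Vof_le _ hv))) ?_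
      obtain ⟨w', hw', ew⟩ := conj_mem_normalizer hg (⟨⟨w, D.U_le_co hw⟩, mem_subgroupOf.2 hw, rfl⟩ :
        π ⟨w, D.U_le_co hw⟩ ∈ Ubar D π)
      have h1 : π (x * ⟨w, D.U_le_co hw⟩ * x⁻¹ * w'⁻¹) = 1 := by
        rw [map_mul, map_mul, map_mul, map_inv, map_inv, ew, mul_inv_cancel]
      have h2 := (hπ.ker _).1 h1
      rw [coe_mul, coe_mul, coe_mul, coe_inv, coe_inv] at h2
      have h3 := mul_mem ((sup_le_sup le_rfl (D.Vof_le _) : Kf (f 26) ⊔ D.Vof (f 26) ≤ Kf (f 26) ⊔ D.A) h2)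
        (mem_sup_right (D.U_le_A (mem_subgroupOf.1 hw')) : (w' : G) ∈ Kf (f 26) ⊔ D.A)
      rwa [inv_mul_cancel_right] at h3
    obtain ⟨k, hk, hkx⟩ := Walter8.exists_lift_normalizer (y := (x : G)) D.A_two
      (by rw [← Nat.not_even_iff_odd, even_iff_two_dvd]; exact ClosedAbelian.core_odd _)
      (D.A_le_normalizer_Kf ho) hconj
    rw [show (x : G) = k⁻¹ * (k * x) by group]
    exact mul_mem (inv_mem (hKM hk)) (hNU (hAN hkx))
  obtain hb | ⟨L, F, hUL, hsmall⟩ := D.sec_cases hπ hU hn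
  · exact absurd hb hbal
  haveI := F.normal
  haveI := F.simple
  have hU4 := D.card_ubar hπ hU hn
  have hUT : ∀ R : Subgroup X, IsPGroup 2 R → Ubar D π ≤ R → R = Ubar D π := fun R hR hle =>
    (eq_of_le_of_card_ge hle ((hπ.small R hR).trans hU4.ge)).symm
  have hodd : ∀ K : Subgroup X, Ubar D π ≤ K → ¬ 2 ∣ ((Ubar D π).subgroupOf K).index := by
    intro K hle hd
    obtain ⟨T, hT⟩ := (D.ubar_two (π := π)).exists_le_sylow
    refine T.not_dvd_index ?_
    rw [hUT T T.2 hT]
    exact hd.trans (relIndex_dvd_index_of_le hle)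
  have hLM : L ≤ Mb := by
    by_contra hLM
    have hUM : Ubar D π ≤ Mb ⊓ L := le_inf (le_normalizer.trans hNe) hUL
    set H := Mb.subgroupOf L with hH
    have hHne : H ≠ ⊤ := fun e => hLM (subgroupOf_eq_top.1 e)
    have hHcore : H.normalCore = ⊥ :=
      (IsSimpleGroup.eq_bot_or_eq_top_of_normal _ inferInstance).resolve_right
        fun e => hHne (top_le_iff.1 (e ▸ normalCore_le H))
    set E := (Ubar D π).subgroupOf L with hE
    have hEH : E ≤ H := fun y hy => mem_subgroupOf.2 (hUM (mem_subgroupOf.1 hy)).1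
    have hE4 : Nat.card E = 4 := by rw [Nat.card_congr (subgroupOfEquivOfLe hUL).toEquiv, hU4]
    have hEea : Cfsg.IsElementaryAbelian 2 E :=
      ⟨.of_setLike_mul_comm fun a ha b hb => Subtype.ext
        ((Signalizer.ea_le_centralizer (D.ubar_ea (π := π)) le_rfl (mem_subgroupOf.1 hb) (a : X) (mem_subgroupOf.1 ha))),
      fun a ha => Subtype.ext (by
        rw [SubmonoidClass.coe_pow, pow_two]; exact D.ubar_sq (mem_subgroupOf.1 ha))⟩
    have hE2 : IsPGroup 2 E := Signalizer.ea_isPGroup hEea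
    have hEodd : ¬ 2 ∣ (E.subgroupOf H).index := fun hd => hodd L hUL (hd.trans (relIndex_dvd_index_of_le hEH))
    set T := (hE2.comap_subtype (K := H)).toSylow hEodd
    have hT : (T : Subgroup H).map H.subtype = E := by
      show (E.subgroupOf H).map H.subtype = _
      rw [map_subgroupOf_eq_of_le hEH]
    have hcl : ∀ t ∈ H, orderOf t = 2 → ∃ c ∈ H, c * t * c⁻¹ ∈ E := by
      intro t ht ht2
      have hP : IsPGroup 2 (zpowers (⟨t, ht⟩ : H)) :=
        IsPGroup.of_card (n := 1) (by rw [Nat.card_zpowers, Subgroup.orderOf_mk, ht2, pow_one])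
      obtain ⟨R, hR⟩ := hP.exists_le_sylow
      obtain ⟨c, hc⟩ := MulAction.exists_smul_eq H R T
      refine ⟨c, c.2, ?_⟩
      rw [← hT]
      exact ⟨c * ⟨t, ht⟩ * c⁻¹, show c * ⟨t, ht⟩ * c⁻¹ ∈ (T : Subgroup H) by
        rw [← hc]; exact Subgroup.smul_mem_pointwise_smul _ (MulAut.conj c) _ (hR (mem_zpowers _)), rfl⟩
    have hse : Cfsg.IsStronglyEmbedded H := by
      refine Invol.se_of_centralizers hHne T ?_ ?_ fun t ht ht2 => ?_
      · rw [even_iff_two_dvd]
        refine dvd_trans ?_ (card_dvd_of_le hEH)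
        rw [hE4]; norm_num
      · rw [hT]
        intro g hg
        refine mem_subgroupOf.2 (hNe (SEBrick.mem_normalizer_of fun y hy => ?_))
        exact mem_subgroupOf.1 (conj_mem_normalizer hg (x := ⟨y, hUL hy⟩) (mem_subgroupOf.2 hy))
      · obtain ⟨c, hc, hcE⟩ := hcl t ht ht2
        intro g hg
        have h1 := Emb.conj_comm c (mem_centralizer_singleton_iff.1 hg)
        have h2 : ((c * g * c⁻¹ : L) : X) ∈ Mb := hCe _ (mem_subgroupOf.1 hcE)
          (fun e => Invol.ne_one ht2 (conj_eq_one_iff.1 (Subtype.ext e)))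
          (mem_centralizer_singleton_iff.2 (congrArg Subtype.val h1))
        rw [show g = c⁻¹ * (c * g * c⁻¹) * c by group]
        exact mul_mem (mul_mem (inv_mem hc) (mem_subgroupOf.2 h2)) hc
    obtain ⟨hcomm, -⟩ := SEMain.stmt L H hse hHcore ⟨E, hEH, hEea, hE4.ge⟩
    -- the involutions of the smaller group are those of the four-group
    have hinv : ∀ t ∈ H, orderOf t = 2 → t ∈ E := by
      intro t ht ht2
      have hcE : t ∈ centralizer (E : Set L) := mem_centralizer_iff.2 fun y hy => by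
        by_cases hy1 : y = 1
        · rw [hy1, one_mul, mul_one]
        exact hcomm y t (hEH hy) ht
          (Invol.order_two_of_sq (by rw [← pow_two]; exact hEea.2 y hy) hy1) ht2
      have hP : IsPGroup 2 (E ⊔ zpowers t : Subgroup L) := IsPGroup.to_sup_of_normal_left' hE2
        (ClosedAbelian.twoEl_of_sq (Invol.mul_self ht2)).isPGroup
        (zpowers_le.2 (centralizer_le_normalizer _ hcE))
      have h1 := hUT ((E ⊔ zpowers t).map L.subtype) (hP.map _) (fun y hy =>
        ⟨⟨y, hUL hy⟩, mem_sup_left (mem_subgroupOf.2 hy), rfl⟩)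
      exact mem_subgroupOf.2 (h1 ▸ (⟨t, mem_sup_right (mem_zpowers t), rfl⟩ :
        (t : X) ∈ (E ⊔ zpowers t).map L.subtype))
    refine hbal (D.balO_of_small hπ hU hn fun u hu hu1 => ?_)
    have hu2 : orderOf u = 2 := Invol.order_two_of_sq (D.ubar_sq hu) hu1
    refine hsmall u (hUL hu) hu2 ?_
    set C := L ⊓ centralizer ({u} : Set X) with hC
    have hCodd : ∀ y ∈ C, Odd (orderOf y) → y = 1 := by
      intro y hy hyo
      have hyL := hy.1
      have hyu := mem_centralizer_singleton_iff.1 hy.2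
      have hyH : (⟨y, hyL⟩ : L) ∈ H := mem_subgroupOf.2 (hCe u hu hu1 hy.2)
      have hyN : ∀ w ∈ Ubar D π, y * w * y⁻¹ ∈ Ubar D π := by
        intro w hw
        by_cases hw1 : w = 1
        · simp [hw1]
        refine mem_subgroupOf.1 (hinv ((⟨y, hyL⟩ : L) * ⟨w, hUL hw⟩ * (⟨y, hyL⟩ : L)⁻¹)
          (mul_mem (mul_mem hyH (hEH (mem_subgroupOf.2 hw))) (inv_mem hyH)) ?_)
        rw [Invol.order_conj]
        exact Invol.order_two_of_sq (Subtype.ext (D.ubar_sq hw)) fun e => hw1 (congrArg Subtype.val e)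
      obtain ⟨v, hv, hv1, hvu⟩ : ∃ v ∈ Ubar D π, v ≠ 1 ∧ v ≠ u := by
        by_contra hno
        simp only [not_exists, not_and, not_not] at hno
        have hle : ((Ubar D π : Subgroup X) : Set X).ncard ≤ ({1, u} : Set X).ncard := by
          refine Set.ncard_le_ncard (fun p hp => ?_) (Set.toFinite _)
          by_cases h1 : p = 1
          · exact Or.inl h1
          · exact Or.inr (hno p hp h1)
        rw [Set.ncard_pair (Ne.symm hu1), ← Nat.card_coe_set_eq] at hle
        change Nat.card (Ubar D π) ≤ 2 at hle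
        omega
      have hcomUV : u * v = v * u := Signalizer.ea_le_centralizer (D.ubar_ea (π := π)) le_rfl hv u hu
      refine F.klein_cent u v y (hUL hu) (hUL hv) hu2 (Invol.order_two_of_sq (D.ubar_sq hv) hv1)
        (Ne.symm hvu) hcomUV hyL hyo hyu.symm ?_
      -- the odd element fixes the second involution
      have h4 : ∀ p ∈ Ubar D π, p ≠ 1 → p ≠ u → p = v ∨ p = u * v := by
        intro p hp hp1 hpu
        by_contra hcon
        simp only [not_or] at hcon
        have huv1 : u * v ≠ 1 := fun e => hvu ((inv_eq_of_mul_eq_one_right e).symm.trans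
          (inv_eq_of_mul_eq_one_right (D.ubar_sq hu)))
        have hsub : ({1, u, v, u * v, p} : Set X) ⊆ (Ubar D π : Set X) := by
          simp [Set.insert_subset_iff, one_mem, hu, hv, hp, mul_mem hu hv]
        have hc := Set.ncard_le_ncard hsub
        rw [← Nat.card_coe_set_eq (Ubar D π : Set X)] at hc
        change _ ≤ Nat.card (Ubar D π) at hc
        rw [hU4, Set.ncard_insert_of_notMem (by simp [Ne.symm hu1, Ne.symm hv1, Ne.symm huv1, Ne.symm hp1]),
          Set.ncard_insert_of_notMem (by simp [Ne.symm hvu, Ne.symm hpu, hv1]),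
          Set.ncard_insert_of_notMem (by simp [Ne.symm hcon.1, hu1]), Set.ncard_pair (Ne.symm hcon.2)] at hc
        omega
      refine (mem_centralizer_singleton_iff.1 (mem_of_sq_mem (mem_centralizer_singleton_iff.2
        (mul_inv_eq_iff_eq_mul.1 ?_) : y * y ∈ centralizer ({v} : Set X)) hyo)).symm
      have hb1 : y * v * y⁻¹ ≠ 1 := fun e => hv1 (conj_eq_one_iff.1 e)
      have hbu : y * v * y⁻¹ ≠ u := fun e =>
        hvu ((conj_inj_iff y).1 (e.trans (by rw [hyu, mul_inv_cancel_right])))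
      rw [show y * y * v * (y * y)⁻¹ = y * (y * v * y⁻¹) * y⁻¹ by group]
      rcases h4 _ (hyN v hv) hb1 hbu with e | e
      · rw [e, e]
      · rw [e, show y * (u * v) * y⁻¹ = (y * u * y⁻¹) * (y * v * y⁻¹) by group, hyu, mul_inv_cancel_right, e,
          ← mul_assoc, D.ubar_sq hu, one_mul]
    refine hπ.small C fun y => ?_
    obtain ⟨t, s, e, ht, hs, ⟨k, hk⟩, hso⟩ := ClosedAbelian.exists_parts (y : X)
    rw [hCodd s (zpowers_le.2 y.2 hs) hso, mul_one] at e
    exact ⟨k, Subtype.ext (by rw [SubmonoidClass.coe_pow, ← e, hk]; rfl)⟩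
  -- the argument of Frattini
  have htop : Mb = ⊤ := by
    obtain ⟨T, hT⟩ := (D.ubar_two (π := π)).exists_le_sylow
    have hTeq := hUT T T.2 hT
    have h := T.normalizer_sup_eq_top' (N := L) (hTeq ▸ hUL)
    rw [← T.coe_coe, hTeq] at h
    exact top_le_iff.1 (h.ge.trans (sup_le hNe hLM))
  intro x hx
  exact hback ⟨x, hx⟩ (htop ▸ mem_top _)

end Setup

end Cfsg.Agent.J2Core
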