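import Cfsg.Agent.Lib.J2Core.Gen
import Cfsg.Agent.Lib.OddChar.OddTheorem

/-!
Two commuting involutory automorphisms of a group of odd order with no element inverted by both: an element fixed
by the first and inverted by the second commutes with one for which this is reversed.
-/

set_option autoImplicit false
set_option linter.style.haveILetI false
set_option linter.unusedSectionVars false

namespace Cfsg.Agent.J2Core

open Subgroup

universe u

theorem commute_step {H : Type u} [Group H] [Finite H] (ho : Odd (Nat.card H)) {N : Subgroup H} [hNn : N.Normal]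
    (hab : ∀ a ∈ N, ∀ b ∈ N, a * b = b * a) (s t : H →* H) (hs : ∀ h, s (s h) = h) (ht : ∀ h, t (t h) = h)
    (hst : ∀ h, s (t h) = t (s h)) (hc : ∀ h, s (t h) = h → s h = h) (hsN : ∀ n ∈ N, s n ∈ N)
    (htN : ∀ n ∈ N, t n ∈ N) {x y : H} (hx : s x = x) (hx' : t x = x⁻¹) (hy : s y = y⁻¹) (hy' : t y = y)
    (hxy : x * y * x⁻¹ * y⁻¹ ∈ N) : x * y = y * x := by
  have hodd : ∀ z : H, Odd (orderOf z) := fun z => ho.of_dvd_nat (orderOf_dvd_natCard z)
  -- inverted by the first is fixed by the second
  have hA : ∀ m ∈ N, s m = m⁻¹ → t m = m := by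
    intro m hm hsm
    set w := m * (t m)⁻¹ with hw
    have htw : t w = w⁻¹ := by rw [hw, map_mul, map_inv, ht, mul_inv_rev, inv_inv]
    have hsw : s w = w⁻¹ := by
      rw [hw, map_mul, map_inv, hst, hsm, map_inv, inv_inv, mul_inv_rev, inv_inv]
      exact hab _ (inv_mem hm) _ (htN m hm)
    have h1 : s w = w := hc w (by rw [htw, map_inv, hsw, inv_inv])
    exact (mul_inv_eq_one.1 (eq_one_of_inv (hodd w) (hsw.symm.trans h1))).symm
  set c := x * y * x⁻¹ * y⁻¹ with hcdef
  clear_value c
  set m := c * (s c)⁻¹ with hm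
  clear_value m
  have hmN : m ∈ N := by rw [hm]; exact mul_mem hxy (inv_mem (hsN c hxy))
  have hsm : s m = m⁻¹ := by rw [hm, map_mul, map_inv, hs, mul_inv_rev, inv_inv]
  have htm : t m = m := hA m hmN hsm
  -- the fixed element commutes with it
  have hxm : x * m * x⁻¹ = m := by
    set p := x * m * x⁻¹
    have hp : t p = p := hA p (hNn.conj_mem m hmN x) (by
      simp only [p, map_mul, map_inv, hx, hsm]; group)
    simp only [p, map_mul, map_inv, hx', htm, inv_inv] at hp
    have h2 : x * x * m = m * (x * x) := by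
      calc x * x * m = x * (x * m * x⁻¹) * x := by group
        _ = x * (x⁻¹ * m * x) * x := by rw [hp]
        _ = m * (x * x) := by group
    rw [mul_inv_eq_iff_eq_mul]
    exact mem_centralizer_singleton_iff.1 (ClosedAbelian.mem_of_sq_mem
      (mem_centralizer_singleton_iff.2 h2) (hodd x))
  have htc : t c = x⁻¹ * c⁻¹ * x := by simp only [hcdef, map_mul, map_inv, hx', hy']; group
  have hm1 : m = 1 := by
    refine eq_one_of_inv (hodd m) ?_
    have h1 : t m = x⁻¹ * (c⁻¹ * s c) * x := by
      rw [hm, map_mul, map_inv, ← hst, htc, map_mul, map_mul, map_inv, map_inv, hx]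
      group
    have h2 : c⁻¹ * s c = m⁻¹ := by
      rw [hab _ (inv_mem hxy) _ (hsN c hxy), hm, mul_inv_rev, inv_inv]
    have hxm' : x⁻¹ * m⁻¹ * x = m⁻¹ := by
      nth_rewrite 1 [← hxm]
      group
    rw [htm, h2, hxm'] at h1
    exact h1.symm
  have hsc : s c = c := by rw [hm, mul_inv_eq_one] at hm1; exact hm1.symm
  -- hence trivial
  have hy1 : y * c * y⁻¹ = c⁻¹ := by
    have h1 : s c = y⁻¹ * c⁻¹ * y := by simp only [hcdef, map_mul, map_inv, hx, hy]; group
    rw [hsc] at h1
    nth_rewrite 1 [h1]
    group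
  have hy2 : y * c = c * y := by
    refine mem_centralizer_singleton_iff.1 (ClosedAbelian.mem_of_sq_mem
      (mem_centralizer_singleton_iff.2 ?_) (hodd y))
    calc y * y * c = y * (y * c * y⁻¹) * y := by group
      _ = y * c⁻¹ * y := by rw [hy1]
      _ = (y * c * y⁻¹)⁻¹ * (y * y) := by group
      _ = c * (y * y) := by rw [hy1, inv_inv]
  rw [hy2, mul_inv_cancel_right] at hy1
  have h0 : c = 1 := eq_one_of_inv (hodd c) hy1.symm
  rw [hcdef, mul_inv_eq_one, mul_inv_eq_iff_eq_mul] at h0
  exact h0

/-- The commuting lemma. -/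
theorem commute_of_inverted : ∀ (n : ℕ) {H : Type u} [Group H] [Finite H], Nat.card H = n → Odd (Nat.card H) →
    ∀ s t : H →* H, (∀ h, s (s h) = h) → (∀ h, t (t h) = h) → (∀ h, s (t h) = t (s h)) →
    (∀ h, s (t h) = h → s h = h) → ∀ x y : H, s x = x → t x = x⁻¹ → s y = y⁻¹ → t y = y → x * y = y * x := by
  intro n
  induction n using Nat.strong_induction_on with
  | _ n ih =>
    intro H _ _ hn ho s t hs ht hst hc x y hx hx' hy hy'
    classical
    by_cases hsub : Subsingleton H
    · exact Subsingleton.elim _ _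
    haveI : Group.IsSolvable H := OddChar.oddSolvable H ho
    -- the last term of the derived series
    have hex : ∃ j, derivedSeries H j = ⊥ := Group.IsSolvable.solvable
    obtain ⟨j, hj⟩ : ∃ j, Nat.find hex = j + 1 := by
      rcases h : Nat.find hex with _ | j
      · exfalso
        have h0 := Nat.find_spec hex
        rw [h, derivedSeries_zero] at h0
        exact hsub (Subgroup.subsingleton_iff.1 (subsingleton_of_bot_eq_top h0.symm))
      · exact ⟨j, rfl⟩
    have hnb : derivedSeries H j ≠ ⊥ := Nat.find_min hex (by omega)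
    have hbot : ⁅derivedSeries H j, derivedSeries H j⁆ = ⊥ := by
      rw [← derivedSeries_succ, ← hj]; exact Nat.find_spec hex
    set N := derivedSeries H j
    haveI : N.Normal := derivedSeries_normal H j
    have hab : ∀ a ∈ N, ∀ b ∈ N, a * b = b * a := fun a ha b hb =>
      (Subgroup.mem_centralizer_iff.1 (Subgroup.commutator_eq_bot_iff_le_centralizer.1 hbot hb) a ha)
    have hmap : ∀ φ : H →* H, ∀ a ∈ N, φ a ∈ N := fun φ a ha =>
      map_derivedSeries_le_derivedSeries φ j ⟨a, ha, rfl⟩
    let s' : H ⧸ N →* H ⧸ N := QuotientGroup.map N N s fun a ha => hmap s a ha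
    let t' : H ⧸ N →* H ⧸ N := QuotientGroup.map N N t fun a ha => hmap t a ha
    have hlt : Nat.card (H ⧸ N) < n := by
      rw [← hn, Subgroup.card_eq_card_quotient_mul_card_subgroup N]
      refine lt_mul_of_one_lt_right Nat.card_pos ?_
      by_contra h
      exact hnb (Subgroup.card_eq_one.1 (le_antisymm (not_lt.1 h) Nat.card_pos))
    have hq := ih _ hlt (H := H ⧸ N) rfl (ho.of_dvd_nat (Subgroup.card_quotient_dvd_card N)) s' t'
      (fun h => QuotientGroup.induction_on h fun a => congrArg (QuotientGroup.mk' N) (hs a))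
      (fun h => QuotientGroup.induction_on h fun a => congrArg (QuotientGroup.mk' N) (ht a))
      (fun h => QuotientGroup.induction_on h fun a => congrArg (QuotientGroup.mk' N) (hst a))
      (fun h => QuotientGroup.induction_on h fun a e => by
        have e' : a * (s (t a))⁻¹ ∈ N := by
          have e1 : (QuotientGroup.mk' N) (s (t a)) = QuotientGroup.mk' N a := e
          rw [← QuotientGroup.eq_one_iff, ← QuotientGroup.mk'_apply, map_mul, map_inv, e1, mul_inv_cancel]
        have htop : ¬ 2 ∣ Nat.card (⊤ : Subgroup H) := by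
          rw [card_top]; exact fun h => Nat.not_even_iff_odd.2 ho (even_iff_two_dvd.2 h)
        obtain ⟨b, -, hb, hab'⟩ := fixed_lift htop (s.comp t) (fun _ _ => trivial)
          (fun a _ => by show s (t (s (t a))) = a; rw [← hst (t a), ht, hs]) trivial e'
        have hmk : QuotientGroup.mk' N a = QuotientGroup.mk' N b := by
          rw [← mul_inv_eq_one, ← map_inv, ← map_mul, QuotientGroup.mk'_apply, QuotientGroup.eq_one_iff]
          exact hab'
        show s' (QuotientGroup.mk' N a) = QuotientGroup.mk' N a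
        rw [hmk]
        exact congrArg (QuotientGroup.mk' N) (hc b hb))
      (QuotientGroup.mk' N x) (QuotientGroup.mk' N y) (congrArg (QuotientGroup.mk' N) hx)
      ((congrArg (QuotientGroup.mk' N) hx').trans (map_inv _ _))
      ((congrArg (QuotientGroup.mk' N) hy).trans (map_inv _ _)) (congrArg (QuotientGroup.mk' N) hy')
    refine commute_step ho hab s t hs ht hst hc (hmap s) (hmap t) hx hx' hy hy' ?_
    rw [← QuotientGroup.eq_one_iff, ← QuotientGroup.mk'_apply, map_mul, map_mul, map_mul, map_inv, map_inv, hq]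
    group

end Cfsg.Agent.J2Core
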