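import Cfsg.Agent.Lib.GW.SectionFacts
import Cfsg.Agent.Lib.GW.Consequences
import Cfsg.Agent.Lib.GW.Main
import Cfsg.Agent.Lib.Transfer.Fusion
import Cfsg.Agent.Lib.Involutions.Basic
import Cfsg.Agent.Lib.ClosedAbelian.Basic

/-!
A group with elementary abelian Sylow 2-subgroups of order four and trivial odd core in which the ordered pairs
of involutions with product of odd order make up a third of all such pairs: the Sylow subgroup normalises no
nontrivial odd subgroup.
-/

set_option autoImplicit false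
set_option linter.style.haveILetI false

namespace Cfsg.Agent.J2Core.Socle

open Subgroup
open Cfsg.Agent

universe u

/-- The involutions. -/
def invols (X : Type u) [Group X] : Set X := {x | orderOf x = 2}

/-- Ordered pairs of involutions with product of odd order. -/
def oddPairs (X : Type u) [Group X] : Set (X × X) :=
  {p | orderOf p.1 = 2 ∧ orderOf p.2 = 2 ∧ Odd (orderOf (p.1 * p.2))}

variable {X : Type u} [Group X] [Finite X]

omit [Finite X] in
theorem sq_one {x : X} (hx : orderOf x = 2) : x * x = 1 := Invol.mul_self hx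

/-- The involution of the cyclic group of a product of two involutions. -/
theorem exists_between {x y : X} (hx : orderOf x = 2) (hy : orderOf y = 2) (hxy : x ≠ y)
    (he : ¬ Odd (orderOf (x * y))) :
    ∃ w : X, orderOf w = 2 ∧ w * x = x * w ∧ w * y = y * w ∧ w ≠ x ∧ w ≠ y := by
  have hn : 2 ∣ orderOf (x * y) := even_iff_two_dvd.1 (Nat.not_odd_iff_even.1 he)
  obtain ⟨k, hk⟩ := hn
  have hpos := orderOf_pos (x * y)
  set w := (x * y) ^ k with hw
  have hwo : orderOf w = 2 := by
    rw [hw, orderOf_pow' _ (by omega), hk, Nat.gcd_mul_left_left, Nat.mul_div_cancel _ (by omega)]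
  have hg : Commute w (x * y) := (Commute.refl (x * y)).pow_left k
  have hwx : w * x = x * w := by
    have h1 := Invol.conj_pow (Invol.conj_mul hx hy) k
    rw [← hw, Invol.inv_self hwo, mul_inv_eq_iff_eq_mul] at h1
    exact h1.symm
  have hwy : w * y = y * w := by
    have h1 : Commute w (x⁻¹ * (x * y)) := (show Commute w x from hwx).inv_right.mul_right hg
    rwa [inv_mul_cancel_left] at h1
  have hne : x * y * (x * y) ≠ 1 → w ≠ x ∧ w ≠ y := by
    intro h2
    constructor <;> intro e
    · refine h2 ?_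
      have hcx : Commute x (x * y) := by
        have h5 := hg; rwa [e] at h5
      have h3 : x * (x * y) * x⁻¹ = x * y := by
        rw [hcx.eq, mul_inv_cancel_right]
      rw [Invol.conj_mul hx hy] at h3
      nth_rewrite 1 [← h3]
      exact inv_mul_cancel _
    · refine h2 ?_
      have hcy : Commute y (x * y) := by
        have h5 := hg; rwa [e] at h5
      have h3 : x * y * y = y * (x * y) := hcy.eq.symm
      rw [mul_assoc x y y, sq_one hy, mul_one] at h3
      have h4 : x * y * (x * y) = x * (y * (x * y)) := mul_assoc _ _ _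
      rw [h4, ← h3, sq_one hx]
  refine ⟨w, hwo, hwx, hwy, ?_⟩
  by_cases h2 : x * y * (x * y) = 1
  · have ho : orderOf (x * y) = 2 := Invol.order_two_of_sq h2 fun e => hxy (by
      rw [mul_eq_one_iff_eq_inv, Invol.inv_self hy] at e; exact e)
    have hk1 : k = 1 := by omega
    rw [hw, hk1, pow_one]
    exact ⟨fun e => Invol.ne_one hy (mul_eq_left.1 e), fun e => Invol.ne_one hx (mul_eq_right.1 e)⟩
  · exact hne h2

/-- A 2-subgroup with an abelian Sylow subgroup of exponent two: at most half of the centraliser. -/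
theorem involutions_le_half (P : Sylow 2 X) (h4 : Nat.card P = 4) (hsq : ∀ x ∈ P, x * x = 1)
    {H : Subgroup X} {v : X} (hv : orderOf v = 2) (hvH : v ∈ H) (hc : H ≤ centralizer ({v} : Set X))
    (h4H : 4 ∣ Nat.card H) :
    (({w | orderOf w = 2 ∧ w ∈ H ∧ w ≠ v}) : Set X).ncard * 2 ≤ Nat.card H := by
  classical
  haveI : Fact (Nat.Prime 2) := ⟨Nat.prime_two⟩
  obtain ⟨S, hS⟩ := ((ClosedAbelian.twoEl_of_sq (sq_one hv)).isPGroup.comap_subtype (K := H)).exists_le_sylow
  have hvS : (⟨v, hvH⟩ : H) ∈ (S : Subgroup H) := hS (mem_subgroupOf.2 (mem_zpowers v))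
  obtain ⟨Q, hQ⟩ := (S.2.map H.subtype).exists_le_sylow
  obtain ⟨g, hg⟩ := MulAction.exists_smul_eq X Q P
  have hSsq : ∀ s ∈ (S : Subgroup H), s * s = 1 := by
    intro s hs
    have h1 : g * (s : X) * g⁻¹ ∈ P := by
      rw [← hg]
      exact Subgroup.smul_mem_pointwise_smul _ (MulAut.conj g) _ (hQ ⟨s, hs, rfl⟩)
    have h2 := hsq _ h1
    rw [show g * (s : X) * g⁻¹ * (g * (s : X) * g⁻¹) = g * ((s : X) * s) * g⁻¹ by group,
      conj_eq_one_iff] at h2
    exact Subtype.ext h2
  have hScard : Nat.card S = 4 := by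
    refine le_antisymm ?_ ?_
    · rw [← h4]
      refine (le_of_eq ?_).trans (Nat.le_of_dvd Nat.card_pos (show Nat.card Q ∣ Nat.card P by
        rw [Nat.card_congr (Q.equiv P).toEquiv]))
      refine le_antisymm ?_ ?_
      · calc Nat.card S = Nat.card ((S : Subgroup H).map H.subtype) := by
              rw [card_map_of_injective H.subtype_injective]
          _ ≤ Nat.card Q := card_le_of_le hQ
      · have h1 : Nat.card Q = 4 := by rw [Nat.card_congr (Q.equiv P).toEquiv, h4]
        rw [h1]
        refine Nat.le_of_dvd Nat.card_pos ?_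
        have := S.pow_dvd_card_of_pow_dvd_card (n := 2) (by simpa using h4H)
        simpa using this
    · refine Nat.le_of_dvd Nat.card_pos ?_
      have := S.pow_dvd_card_of_pow_dvd_card (n := 2) (by simpa using h4H)
      simpa using this
  have hScomm : ∀ a ∈ (S : Subgroup H), ∀ b ∈ (S : Subgroup H), a * b = b * a := by
    intro a ha b hb
    calc a * b = (a * b)⁻¹ := (inv_eq_of_mul_eq_one_right (hSsq _ (mul_mem ha hb))).symm
      _ = b * a := by
        rw [_root_.mul_inv_rev, inv_eq_of_mul_eq_one_right (hSsq a ha),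
          inv_eq_of_mul_eq_one_right (hSsq b hb)]
  set v' : H := ⟨v, hvH⟩
  have hv'c : ∀ n : H, n * v' = v' * n := fun n => Subtype.ext (mem_centralizer_singleton_iff.1 (hc n.2))
  have hv'1 : v' ≠ 1 := fun e => Invol.ne_one hv (congrArg Subtype.val e)
  -- four elements
  obtain ⟨a, haS, ha⟩ : ∃ a ∈ (S : Subgroup H), a ≠ 1 ∧ a ≠ v' := by
    by_contra hno
    push Not at hno
    have hle : ((S : Subgroup H) : Set H).ncard ≤ ({1, v'} : Set H).ncard := by
      refine Set.ncard_le_ncard (fun x hx => ?_) (Set.toFinite _)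
      by_cases h1 : x = 1
      · exact Or.inl h1
      · exact Or.inr (hno x hx h1)
    rw [← Nat.card_coe_set_eq] at hle
    have h2 : ({1, v'} : Set H).ncard ≤ 2 := (Set.ncard_insert_le _ _).trans (by simp)
    have h3 : Nat.card ((S : Subgroup H) : Set H) = 4 := hScard
    omega
  have hS4 : ∀ x ∈ (S : Subgroup H), x = 1 ∨ x = v' ∨ x = a ∨ x = v' * a := by
    intro x hx
    by_contra hno
    push Not at hno
    have hle : ({1, v', a, v' * a, x} : Finset H).card ≤ 4 := by
      rw [← hScard, ← Set.ncard_coe_finset,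
        show Nat.card (S : Subgroup H) = ((S : Subgroup H) : Set H).ncard from Nat.card_coe_set_eq _]
      refine Set.ncard_le_ncard ?_ (Set.toFinite _)
      intro y hy
      simp only [Finset.coe_insert, Finset.coe_singleton, Set.mem_insert_iff, Set.mem_singleton_iff] at hy
      rcases hy with rfl | rfl | rfl | rfl | rfl
      exacts [one_mem _, hvS, haS, mul_mem hvS haS, hx]
    have hva1 : v' * a ≠ 1 := fun e => ha.2 (by
      rw [mul_eq_one_iff_inv_eq, inv_eq_of_mul_eq_one_right (hSsq v' hvS)] at e; exact e.symm)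
    have h5 : ({1, v', a, v' * a, x} : Finset H).card = 5 := by
      rw [Finset.card_insert_of_notMem, Finset.card_insert_of_notMem, Finset.card_insert_of_notMem,
        Finset.card_pair]
      · exact fun e => hno.2.2.2 e.symm
      · simp only [Finset.mem_insert, Finset.mem_singleton]
        rintro (e | e)
        · exact hv'1 (right_eq_mul.1 e)
        · exact hno.2.2.1 e.symm
      · simp only [Finset.mem_insert, Finset.mem_singleton]
        rintro (e | e | e)
        · exact ha.2 e.symm
        · exact ha.1 (left_eq_mul.1 e)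
        · exact hno.2.1 e.symm
      · simp only [Finset.mem_insert, Finset.mem_singleton]
        rintro (e | e | e | e)
        · exact hv'1 e.symm
        · exact ha.1 e.symm
        · exact hva1 e.symm
        · exact hno.1 e.symm
    omega
  have hNC : normalizer ((S : Subgroup H) : Set H) ≤ centralizer ((S : Subgroup H) : Set H) := by
    intro n hn
    have hfix : ∀ m : H, m ∈ zpowers n → m * a * m⁻¹ = a := by
      intro m hm
      have hmN : m ∈ normalizer ((S : Subgroup H) : Set H) := zpowers_le.2 hn hm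
      have key : ∀ p ∈ normalizer ((S : Subgroup H) : Set H), p * a * p⁻¹ = a ∨ p * a * p⁻¹ = v' * a := by
        intro p hp
        rcases hS4 _ ((mem_normalizer_iff.1 hp a).1 haS) with e | e | e | e
        · exact absurd (conj_eq_one_iff.1 e) ha.1
        · exfalso
          refine ha.2 (mul_left_cancel (a := p) (mul_right_cancel (b := p⁻¹) ?_))
          rw [e, hv'c p, mul_inv_cancel_right]
        · exact Or.inl e
        · exact Or.inr e
      refine mul_inv_eq_iff_eq_mul.2 (mem_centralizer_singleton_iff.1 ?_)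
      obtain ⟨x, y, e, hx, hy, hx2, hyo⟩ := ClosedAbelian.exists_parts m
      rw [← e]
      refine mul_mem ?_ ?_
      · have hxS : x ∈ (S : Subgroup H) := by
          have hxN : x ∈ normalizer ((S : Subgroup H) : Set H) := zpowers_le.2 hmN hx
          have hp : IsPGroup 2 ((S : Subgroup H) ⊔ zpowers x : Subgroup H) :=
            IsPGroup.to_sup_of_normal_left' S.2 hx2.isPGroup (zpowers_le.2 hxN)
          rw [← S.3 hp le_sup_left]
          exact mem_sup_right (mem_zpowers x)
        exact mem_centralizer_singleton_iff.2 (hScomm x hxS a haS)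
      · refine ClosedAbelian.mem_of_sq_mem ?_ hyo
        rw [mem_centralizer_singleton_iff, ← mul_inv_eq_iff_eq_mul,
          show y * y * a * (y * y)⁻¹ = y * (y * a * y⁻¹) * y⁻¹ by group]
        rcases key y (zpowers_le.2 hmN hy) with e | e
        · rw [e, e]
        · rw [e, show y * (v' * a) * y⁻¹ = y * v' * y⁻¹ * (y * a * y⁻¹) by group, hv'c y,
            mul_inv_cancel_right, e, ← mul_assoc, hSsq v' hvS, one_mul]
    refine mem_centralizer_iff.2 fun x hx => ?_
    have hna : n * a = a * n := mul_inv_eq_iff_eq_mul.1 (hfix n (mem_zpowers n))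
    rcases hS4 x hx with rfl | rfl | rfl | rfl
    · simp
    · exact (hv'c n).symm
    · exact hna.symm
    · exact ((show Commute n v' from hv'c n).mul_right hna).eq.symm
  haveI : IsMulCommutative (S : Subgroup H) := ⟨⟨fun p q => Subtype.ext (hScomm p p.2 q q.2)⟩⟩
  obtain ⟨P', N, hN, hcompl⟩ := Fusion.hasNormalPComplement_of_normalizer_le_centralizer S hNC
  have hP'card : Nat.card P' = 4 := by rw [← hScard, Nat.card_congr (P'.equiv S).toEquiv]
  have hmul : Nat.card N * 4 = Nat.card H := hP'card ▸ hcompl.card_mul_card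
  have hNodd : ∀ y ∈ N, y * y = 1 → y = 1 := by
    intro y hy hy2
    by_contra hy1
    obtain ⟨Q', hQ'⟩ := ((ClosedAbelian.twoEl_of_sq hy2).isPGroup).exists_le_sylow
    obtain ⟨c, hc'⟩ := MulAction.exists_smul_eq H Q' P'
    have h1 : c * y * c⁻¹ ∈ (P' : Subgroup H) := by
      rw [← hc']
      exact Subgroup.smul_mem_pointwise_smul _ (MulAut.conj c) _ (hQ' (mem_zpowers y))
    have h2 : c * y * c⁻¹ ∈ (P' : Subgroup H) ⊓ N := ⟨h1, hN.conj_mem y hy c⟩
    rw [inf_comm, hcompl.disjoint.eq_bot, mem_bot, conj_eq_one_iff] at h2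
    exact hy1 h2
  -- coordinates
  let π := QuotientGroup.mk' N
  have hpi : ∀ x : H, ∃ s ∈ (S : Subgroup H), π x = π s := by
    have hinj : Function.Injective fun s : (S : Subgroup H) => π (s : H) := by
      intro s t e
      have h1 : π ((s : H) * (t : H)⁻¹) = 1 := by rw [map_mul, map_inv, show π (s : H) = π (t : H) from e,
        mul_inv_cancel]
      have h2 : (s : H) * (t : H)⁻¹ ∈ N := (QuotientGroup.eq_one_iff _).1 h1
      exact Subtype.ext (mul_inv_eq_one.1 (hNodd _ h2 (hSsq _ (mul_mem s.2 (inv_mem t.2)))))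
    have hcard : Nat.card (H ⧸ N) ≤ Nat.card (S : Subgroup H) := by
      rw [show Nat.card (S : Subgroup H) = 4 from hScard, ← Subgroup.index_eq_card]
      have h1 := N.card_mul_index
      rw [← hmul] at h1
      exact le_of_eq (Nat.eq_of_mul_eq_mul_left Nat.card_pos h1)
    intro x
    obtain ⟨s, hs⟩ := (hinj.bijective_of_nat_card_le hcard).2 (π x)
    exact ⟨s, s.2, hs.symm⟩
  -- the two cosets
  have hsub : ({w | orderOf w = 2 ∧ w ∈ H ∧ w ≠ v} : Set X) ⊆
      (fun p : H × Bool => ((if p.2 then p.1 * a else p.1 * (v' * a) : H) : X)) '' {p | p.1 ∈ N} := by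
    rintro w ⟨hw, hwH, hwv⟩
    set w' : H := ⟨w, hwH⟩
    obtain ⟨s, hs, e⟩ := hpi w'
    have hmem : w' * s⁻¹ ∈ N := by
      rw [← QuotientGroup.eq_one_iff]
      show π (w' * s⁻¹) = 1
      rw [map_mul, map_inv, e, mul_inv_cancel]
    have hw2 : w' * w' = 1 := Subtype.ext (sq_one hw)
    rcases hS4 s hs with es | es | es | es <;> rw [es] at hmem
    · rw [inv_one, mul_one] at hmem
      exact absurd (congrArg Subtype.val (hNodd w' hmem hw2)) (Invol.ne_one hw)
    · rw [inv_eq_of_mul_eq_one_right (hSsq v' hvS)] at hmem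
      have h1 := hNodd _ hmem (by
        rw [show w' * v' * (w' * v') = w' * (v' * w') * v' by group, ← hv'c w', ← mul_assoc, hw2, one_mul,
          hSsq v' hvS])
      refine absurd (congrArg Subtype.val (mul_eq_one_iff_eq_inv.1 h1)) ?_
      show w ≠ v⁻¹
      rw [Invol.inv_self hv]; exact hwv
    · exact ⟨(w' * a⁻¹, true), hmem, by simp [w']⟩
    · exact ⟨(w' * (v' * a)⁻¹, false), hmem, by simp [w', mul_assoc]⟩
  have hb := (Set.ncard_le_ncard hsub (Set.toFinite _)).trans (Set.ncard_image_le (Set.toFinite _))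
  have hp : ({p : H × Bool | p.1 ∈ N} : Set (H × Bool)).ncard = Nat.card N * 2 := by
    rw [show {p : H × Bool | p.1 ∈ N} = (N : Set H) ×ˢ (Set.univ : Set Bool) by ext; simp,
      Set.ncard_prod, Set.ncard_univ, ← Nat.card_coe_set_eq]
    simp
  rw [hp] at hb
  omega

/-- The statement. -/
theorem four_trivial (P : Sylow 2 X) (h4 : Nat.card P = 4) (hsq : ∀ x ∈ P, x * x = 1)
    (hO : Cfsg.oddCore X = ⊥)
    (hcount : (∀ u v : X, orderOf u = 2 → orderOf v = 2 → IsConj u v) →
      (invols X).ncard ^ 2 = 3 * (oddPairs X).ncard)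
    {Y : Subgroup X} (hY : ¬ 2 ∣ Nat.card Y) (hPY : (P : Subgroup X) ≤ normalizer (Y : Set X)) : Y = ⊥ := by
  classical
  haveI : Fact (Nat.Prime 2) := ⟨Nat.prime_two⟩
  haveI hK4 : IsKleinFour (P : Subgroup X) := by
    refine ⟨h4, ?_⟩
    have hd : Monoid.exponent (P : Subgroup X) ∣ 2 := Monoid.exponent_dvd_of_forall_pow_eq_one fun g =>
      Subtype.ext (by rw [SubmonoidClass.coe_pow, pow_two]; exact hsq g g.2)
    rcases (Nat.dvd_prime Nat.prime_two).1 hd with h | h
    · haveI : Subsingleton (P : Subgroup X) := Monoid.exp_eq_one_iff.1 h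
      have := Nat.card_of_subsingleton (1 : (P : Subgroup X))
      omega
    · exact h
  have hD : GW.DihSylow X := ⟨P, 2, le_rfl, IsKleinFour.nonempty_mulEquiv⟩
  have hS : GW.Shape X := GW.shape hD hO fun L _ hL hd => by
    haveI := hL
    exact GW.knownBelow_target (GW.knownBelow_of_simple GW.simpleDihedral (Nat.card L + 1)) hd
      (Nat.lt_succ_self _)
  rcases hS with h2 | ⟨V, hV, hKV, hVc, -⟩ | ⟨L, hLn, hLs, hLnc, hLt, hLC⟩
  · refine (Subgroup.eq_bot_iff_forall Y).2 fun y hy => ?_
    exact (ClosedAbelian.TwoEl.of_group (P := ⊤) (h2.to_subgroup ⊤) (mem_top y)).eq_one_of_odd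
      (ClosedAbelian.odd_orderOf_of_mem hY hy)
  · -- the normal four-group is the Sylow subgroup
    haveI := hV
    have hVP : V ≤ P := by
      have h1 : IsPGroup 2 (V ⊔ (P : Subgroup X) : Subgroup X) :=
        IsPGroup.to_sup_of_normal_left (IsPGroup.of_card (n := 2) hKV.card_four) P.2
      rw [← P.3 h1 le_sup_right]
      exact le_sup_left
    refine (Subgroup.eq_bot_iff_forall Y).2 fun y hy => ?_
    have hyV : y ∈ V := by
      rw [← hVc]
      refine mem_centralizer_iff.2 fun w hw => mul_inv_eq_iff_eq_mul.1 (mul_inv_eq_one.1 ?_)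
      have h1 : w * y * w⁻¹ * y⁻¹ ∈ Y :=
        mul_mem ((mem_normalizer_iff.1 (hPY (hVP hw)) y).1 hy) (inv_mem hy)
      have h2 : w * y * w⁻¹ * y⁻¹ ∈ V := by
        rw [show w * y * w⁻¹ * y⁻¹ = w * (y * w⁻¹ * y⁻¹) by group]
        exact mul_mem hw (hV.conj_mem _ (inv_mem hw) y)
      exact (ClosedAbelian.twoEl_of_sq (hsq _ (hVP h2))).eq_one_of_odd
        (ClosedAbelian.odd_orderOf_of_mem hY h1)
    exact (ClosedAbelian.twoEl_of_sq (hsq _ (hVP hyV))).eq_one_of_odd
      (ClosedAbelian.odd_orderOf_of_mem hY hy)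
  -- simple socle
  exfalso
  haveI := hLn
  haveI := hLs
  rcases GW.sectionFacts X hD hO L hLn hLs hLnc hLt hLC with ⟨-, ⟨e⟩⟩ | F
  · refine P.not_dvd_index ?_
    have h1 := (P : Subgroup X).index_mul_card
    rw [h4, Nat.card_congr e.toEquiv] at h1
    have h2 : Nat.card (alternatingGroup (Fin 7)) = 2520 := by
      rw [nat_card_alternatingGroup, Nat.card_eq_fintype_card, Fintype.card_fin]; rfl
    omega
  -- every involution lies in the socle
  have h4L : 4 ∣ Nat.card L := by
    obtain ⟨R, n, hn, ⟨e⟩⟩ := hD.of_normal L hLs hLnc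
    have h1 : Nat.card R = 2 * n := by rw [Nat.card_congr e.toEquiv, DihedralGroup.nat_card]
    obtain ⟨k, hk⟩ := IsPGroup.iff_card.1 R.2
    refine dvd_trans ?_ (Subgroup.card_subgroup_dvd_card (R : Subgroup L))
    change 4 ∣ Nat.card R
    rw [hk]
    refine (Nat.pow_dvd_pow 2 (show 2 ≤ k by
      by_contra hk2
      have : k = 0 ∨ k = 1 := by omega
      rcases this with rfl | rfl <;> omega))
  have hLodd : ¬ 2 ∣ L.index := by
    intro hd
    refine P.not_dvd_index ?_
    have h1 := (P : Subgroup X).index_mul_card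
    obtain ⟨c, hc⟩ := h4L
    obtain ⟨d, hd'⟩ := hd
    have h2 := L.index_mul_card
    rw [hc, hd'] at h2
    rw [h4] at h1
    exact ⟨c * d, by linarith⟩
  have hinL : ∀ v : X, orderOf v = 2 → v ∈ L := by
    intro v hv
    rw [← QuotientGroup.eq_one_iff]
    refine orderOf_eq_one_iff.1 (Nat.eq_one_of_dvd_coprimes (Nat.coprime_two_left.2 ?_)
      ((orderOf_map_dvd (QuotientGroup.mk' L) v).trans hv.dvd) (_root_.orderOf_dvd_natCard _))
    rw [← Nat.not_even_iff_odd, even_iff_two_dvd]
    exact hLodd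
  have hcl : ∀ u v : X, orderOf u = 2 → orderOf v = 2 → IsConj u v := fun u v hu hv => by
    obtain ⟨g, -, e⟩ := F.one_class u v (hinL u hu) (hinL v hv) hu hv
    exact isConj_iff.2 ⟨g, e⟩
  have hN3 := hcount hcl
  set I := invols X
  set N := I.ncard with hNdef
  let C : X → Subgroup X := fun v => L ⊓ centralizer ({v} : Set X)
  have hindex : ∀ v ∈ I, Nat.card (C v) * N = Nat.card L ∧ (C v).relIndex L = N := by
    intro v hv
    have e : Nat.card (L ⧸ (C v).subgroupOf L) = N := by
      rw [hNdef, ← Nat.card_coe_set_eq]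
      refine Nat.card_congr (Equiv.ofBijective
        (Quotient.lift (fun l : L => (⟨(l : X) * v * (l : X)⁻¹, by
          show orderOf _ = 2; rw [Invol.order_conj]; exact hv⟩ : I)) ?_) ⟨?_, ?_⟩)
      · intro l m hlm
        have h1 : l⁻¹ * m ∈ (C v).subgroupOf L := QuotientGroup.leftRel_apply.1 hlm
        have h2 : ((l : X)⁻¹ * m) * v = v * ((l : X)⁻¹ * m) :=
          mem_centralizer_singleton_iff.1 (mem_subgroupOf.1 h1).2
        refine Subtype.ext ?_
        calc (l : X) * v * (l : X)⁻¹ = (l : X) * (v * ((l : X)⁻¹ * m)) * (m : X)⁻¹ := by group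
          _ = (m : X) * v * (m : X)⁻¹ := by rw [← h2]; group
      · intro a b
        induction a using Quotient.inductionOn with | h l => ?_
        induction b using Quotient.inductionOn with | h m => ?_
        intro h
        refine Quotient.sound (QuotientGroup.leftRel_apply.2 (mem_subgroupOf.2 ⟨(l⁻¹ * m).2, ?_⟩))
        have h' : (l : X) * v * (l : X)⁻¹ = (m : X) * v * (m : X)⁻¹ := congrArg Subtype.val h
        show ((l⁻¹ * m : L) : X) ∈ centralizer ({v} : Set X)
        rw [mem_centralizer_singleton_iff, coe_mul, coe_inv]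
        calc (l : X)⁻¹ * m * v = (l : X)⁻¹ * ((m : X) * v * (m : X)⁻¹) * m := by group
          _ = v * ((l : X)⁻¹ * m) := by rw [← h']; group
      · rintro ⟨w, hw⟩
        obtain ⟨g, hg, e⟩ := F.one_class v w (hinL v hv) (hinL w hw) hv hw
        exact ⟨Quotient.mk _ (⟨g, hg⟩ : L), Subtype.ext e⟩
    have hrel : (C v).relIndex L = N := by rw [relIndex, Subgroup.index_eq_card]; exact e
    refine ⟨?_, hrel⟩
    rw [← hrel, relIndex, ← Nat.card_congr (Subgroup.subgroupOfEquivOfLe (inf_le_left : C v ≤ L)).toEquiv]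
    exact Subgroup.card_mul_index _
  have hIne : I.Nonempty := by
    obtain ⟨x, hx⟩ := exists_prime_orderOf_dvd_card' 2 hD.two_dvd
    exact ⟨x, hx⟩
  obtain ⟨v0, hv0⟩ := hIne
  have hNpos : 0 < N := (Set.ncard_pos (Set.toFinite _)).2 ⟨v0, hv0⟩
  set c := Nat.card (C v0) with hcdef
  have hCeq : ∀ v ∈ I, Nat.card (C v) = c := fun v hv =>
    Nat.eq_of_mul_eq_mul_right hNpos ((hindex v hv).1.trans (hindex v0 hv0).1.symm)
  have h4c : 4 ∣ c ∧ ¬ 8 ∣ c := by
    obtain ⟨R, hR⟩ := (ClosedAbelian.twoEl_of_sq (sq_one hv0)).isPGroup.exists_le_sylow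
    obtain ⟨g, hg⟩ := MulAction.exists_smul_eq X R P
    have hR4 : Nat.card R = 4 := by rw [Nat.card_congr (R.equiv P).toEquiv, h4]
    constructor
    · rw [← hR4]
      refine card_dvd_of_le fun r hr => ⟨?_, ?_⟩
      · by_cases hr1 : r = 1
        · rw [hr1]; exact one_mem L
        refine hinL r (Invol.order_two_of_sq ?_ hr1)
        have h1 : g * r * g⁻¹ ∈ P := by
          rw [← hg]; exact Subgroup.smul_mem_pointwise_smul _ (MulAut.conj g) _ hr
        have h2 := hsq _ h1
        rwa [show g * r * g⁻¹ * (g * r * g⁻¹) = g * (r * r) * g⁻¹ by group, conj_eq_one_iff] at h2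
      · have h1 : g * r * g⁻¹ * (g * v0 * g⁻¹) = g * v0 * g⁻¹ * (g * r * g⁻¹) := by
          have hrP : g * r * g⁻¹ ∈ (P : Subgroup X) := by
            rw [← hg]; exact Subgroup.smul_mem_pointwise_smul _ (MulAut.conj g) _ hr
          have hvP : g * v0 * g⁻¹ ∈ (P : Subgroup X) := by
            rw [← hg]; exact Subgroup.smul_mem_pointwise_smul _ (MulAut.conj g) _ (hR (mem_zpowers v0))
          haveI := GW.klein_comm hK4
          exact congrArg Subtype.val (mul_comm' (⟨_, hrP⟩ : (P : Subgroup X)) ⟨_, hvP⟩)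
        show r ∈ centralizer ({v0} : Set X)
        rw [mem_centralizer_singleton_iff]
        calc r * v0 = g⁻¹ * (g * r * g⁻¹ * (g * v0 * g⁻¹)) * g := by group
          _ = v0 * r := by rw [h1]; group
    · intro h8
      have h1 := P.card_eq_multiplicity
      have h2 : 2 ^ 3 ∣ Nat.card X := (show (2:ℕ) ^ 3 ∣ c from h8).trans (Subgroup.card_subgroup_dvd_card _)
      have h3 := P.pow_dvd_card_of_pow_dvd_card h2
      rw [h4] at h3
      omega
  have hhalf : ∀ v ∈ I, ({w | orderOf w = 2 ∧ w ∈ C v ∧ w ≠ v} : Set X).ncard * 2 ≤ c := fun v hv => by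
    rw [← hCeq v hv]
    exact involutions_le_half P h4 hsq hv ⟨hinL v hv, mem_centralizer_singleton_iff.2 rfl⟩ inf_le_right
      (hCeq v hv ▸ h4c.1)
  -- an involution with many partners of even product
  haveI := Fintype.ofFinite X
  set IF := I.toFinset with hIF
  have hIFc : IF.card = N := (Set.ncard_eq_toFinset_card' I).symm
  have hmemIF : ∀ {x}, x ∈ IF ↔ orderOf x = 2 := Set.mem_toFinset
  obtain ⟨x, hx, hbig⟩ : ∃ x ∈ I, 2 * N ≤ 3 * (IF.filter fun y => ¬ Odd (orderOf (x * y))).card := by
    by_contra hno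
    push Not at hno
    have hodd : (oddPairs X).ncard = ∑ x ∈ IF, (IF.filter fun y => Odd (orderOf (x * y))).card := by
      rw [Set.ncard_eq_toFinset_card', Finset.card_eq_sum_card_fiberwise (f := Prod.fst) (t := IF)
        fun p hp => hmemIF.2 (Set.mem_toFinset.1 hp).1]
      refine Finset.sum_congr rfl fun x hx => Finset.card_bij (fun p _ => p.2) ?_ ?_ ?_
      · intro p hp
        rw [Finset.mem_filter, Set.mem_toFinset] at hp
        rw [Finset.mem_filter]
        exact ⟨hmemIF.2 hp.1.2.1, hp.2 ▸ hp.1.2.2⟩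
      · intro p hp q hq e
        rw [Finset.mem_filter] at hp hq
        exact Prod.ext (hp.2.trans hq.2.symm) e
      · intro y hy
        rw [Finset.mem_filter] at hy
        exact ⟨(x, y), Finset.mem_filter.2 ⟨Set.mem_toFinset.2 ⟨hmemIF.1 hx, hmemIF.1 hy.1, hy.2⟩, rfl⟩, rfl⟩
    have h2 : ∑ x ∈ IF, 3 * (IF.filter fun y => ¬ Odd (orderOf (x * y))).card < ∑ x ∈ IF, 2 * N :=
      Finset.sum_lt_sum_of_nonempty ⟨v0, hmemIF.2 hv0⟩ fun x hx => hno x (hmemIF.1 hx)
    rw [Finset.sum_const, smul_eq_mul, hIFc, ← Finset.mul_sum] at h2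
    have hsum : ∑ x ∈ IF, ((IF.filter fun y => Odd (orderOf (x * y))).card +
        (IF.filter fun y => ¬ Odd (orderOf (x * y))).card) = N * N := by
      rw [Finset.sum_congr rfl fun x _ => Finset.card_filter_add_card_filter_not _,
        Finset.sum_const, smul_eq_mul, hIFc]
    rw [Finset.sum_add_distrib, ← hodd] at hsum
    nlinarith
  set E := IF.filter fun y => ¬ Odd (orderOf (x * y)) with hE
  let Sset : X → Finset X := fun v => IF.filter fun w => w ∈ C v ∧ w ≠ v
  have hSset : ∀ v ∈ I, (Sset v).card * 2 ≤ c := by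
    intro v hv
    refine le_trans (le_of_eq ?_) (hhalf v hv)
    rw [← Set.ncard_coe_finset]
    congr 2
    ext w
    simp [Sset, hmemIF]
  have hcover : E ⊆ (Sset x).biUnion fun w => (Sset w).erase x := by
    intro y hy
    rw [hE, Finset.mem_filter] at hy
    have hy2 := hmemIF.1 hy.1
    have hxy : x ≠ y := fun e => hy.2 (by rw [← e, sq_one hx, orderOf_one]; exact odd_one)
    obtain ⟨w, hw, hwx, hwy, hne, hne'⟩ := exists_between hx hy2 hxy hy.2
    simp only [Finset.mem_biUnion, Finset.mem_erase, Sset, Finset.mem_filter]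
    exact ⟨w, ⟨hmemIF.2 hw, ⟨hinL w hw, mem_centralizer_singleton_iff.2 hwx⟩, hne⟩, hxy.symm, hy.1,
      ⟨hinL y hy2, mem_centralizer_singleton_iff.2 hwy.symm⟩, hne'.symm⟩
  have hbound : 4 * E.card ≤ c * (c - 2) := by
    have h1 : ∀ w ∈ Sset x, ((Sset w).erase x).card * 2 + 2 ≤ c := by
      intro w hw
      simp only [Sset, Finset.mem_filter] at hw
      have hxw : x ∈ Sset w := Finset.mem_filter.2 ⟨hmemIF.2 hx, ⟨hinL x hx, mem_centralizer_singleton_iff.2
        (mem_centralizer_singleton_iff.1 hw.2.1.2).symm⟩, hw.2.2.symm⟩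
      rw [Finset.card_erase_of_mem hxw]
      have := hSset w (hmemIF.1 hw.1)
      have := Finset.card_pos.2 ⟨x, hxw⟩
      omega
    have h2 := (Finset.card_le_card hcover).trans Finset.card_biUnion_le
    have h3 : 2 * E.card ≤ (Sset x).card * (c - 2) := by
      refine (Nat.mul_le_mul_left 2 h2).trans ?_
      rw [Finset.mul_sum, ← smul_eq_mul (Sset x).card]
      exact Finset.sum_le_card_nsmul _ _ _ fun w hw => by have := h1 w hw; omega
    have := hSset x hx
    nlinarith
  have hmany := F.many v0 (hinL v0 hv0) hv0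
  rw [(hindex v0 hv0).2] at hmany
  change (c - 1) * (c - 2) ≤ 2 * N at hmany
  have hc4 : c = 4 := by
    obtain ⟨d, hd⟩ := h4c.1
    have hodd : ¬ 2 ∣ d := fun ⟨m, hm⟩ => h4c.2 ⟨m, by omega⟩
    have hd3 : d < 3 := by
      by_contra hge
      obtain ⟨j, rfl⟩ : ∃ j, d = j + 3 := ⟨d - 3, by omega⟩
      rw [hd, show 4 * (j + 3) - 1 = 4 * j + 11 by omega, show 4 * (j + 3) - 2 = 4 * j + 10 by omega] at hmany
      rw [hd, show 4 * (j + 3) - 2 = 4 * j + 10 by omega] at hbound
      nlinarith
    interval_cases d <;> omega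
  rw [hc4] at hbound hmany
  have hE2 : E.card ≤ 2 := by omega
  have hNle : N ≤ 3 := by omega
  have hIP : ∀ y ∈ I, y ∈ (P : Subgroup X) := by
    have hsub : ({y | y ∈ (P : Subgroup X) ∧ y ≠ 1} : Set X) ⊆ I := fun y hy =>
      Invol.order_two_of_sq (hsq y hy.1) hy.2
    have hc3 : ({y | y ∈ (P : Subgroup X) ∧ y ≠ 1} : Set X).ncard = 3 := by
      rw [show {y | y ∈ (P : Subgroup X) ∧ y ≠ 1} = ((P : Subgroup X) : Set X) \ {1} from Set.ext fun _ => Iff.rfl,
        Set.ncard_sdiff_singleton_of_mem (one_mem (P : Subgroup X)), ← Nat.card_coe_set_eq]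
      show Nat.card P - 1 = 3
      rw [h4]
    intro y hy
    have := Set.eq_of_subset_of_ncard_le hsub (by rw [hc3]; exact hNle)
    rw [← this] at hy
    exact hy.1
  have hPL : (P : Subgroup X) ≤ L := fun y hy => by
    by_cases hy1 : y = 1
    · rw [hy1]; exact one_mem _
    · exact hinL y (Invol.order_two_of_sq (hsq y hy) hy1)
  have hPn : ((P : Subgroup X).subgroupOf L).Normal := ⟨fun p hp l => by
    rw [mem_subgroupOf] at hp ⊢
    by_cases hp1 : (p : X) = 1
    · simp [hp1]
    · refine hIP _ ?_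
      show orderOf _ = 2
      rw [coe_mul, coe_mul, coe_inv, Invol.order_conj]
      exact Invol.order_two_of_sq (hsq _ hp) hp1⟩
  rcases IsSimpleGroup.eq_bot_or_eq_top_of_normal _ hPn with e | e
  · rw [subgroupOf_eq_bot, disjoint_iff, inf_eq_left.2 hPL] at e
    rw [show Nat.card P = Nat.card (P : Subgroup X) from rfl, e, card_bot] at h4
    omega
  · rw [subgroupOf_eq_top] at e
    have hLP : L = P := le_antisymm e hPL
    exact hLnc (hLP ▸ GW.klein_comm hK4)

end Cfsg.Agent.J2Core.Socle
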