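import Cfsg.Agent.Lib.J2Core.Bal
import Cfsg.Agent.Lib.GW.SectionFacts
import Cfsg.Agent.Lib.GW.Main
import Cfsg.Agent.Lib.GW.OddInvariant
import Cfsg.Agent.S0204

/-!
The centraliser of an outside involution over its core and complement: a group with a four-group as Sylow
2-subgroup and no odd core, hence solvable with small centralisers or with a linear socle.
-/

set_option autoImplicit false
set_option linter.style.haveILetI false
set_option linter.unusedSectionVars false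

namespace Cfsg.Agent.J2Core

open Subgroup
open Cfsg.Agent.J2Type
open Cfsg.Agent.ClosedAbelian (TwoEl core mem_of_sq_mem odd_orderOf_of_mem)

universe u

variable {G : Type u} [Group G] [Finite G] {f : ℕ → G}

/-- The data of the section. -/
structure SecData (D : Setup f) {X : Type u} [Group X] (π : ↥(centralizer ({f 26} : Set G)) →* X) : Prop where
  surj : Function.Surjective π
  ker : ∀ x : ↥(centralizer ({f 26} : Set G)), π x = 1 ↔ (x : G) ∈ Kf (f 26) ⊔ D.Vof (f 26)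
  core : Cfsg.oddCore X = ⊥
  dih : GW.DihSylow X
  small : ∀ Q : Subgroup X, IsPGroup 2 Q → Nat.card Q ≤ 4

/-- The second centre in the section. -/
def Ubar (D : Setup f) {X : Type u} [Group X] (π : ↥(centralizer ({f 26} : Set G)) →* X) : Subgroup X :=
  (D.U.subgroupOf (centralizer ({f 26} : Set G))).map π

theorem mk_one_iff {H : Subgroup G} {x : G} (hx : x ∈ H) :
    QuotientGroup.mk' (Cfsg.oddCore ↥H) ⟨x, hx⟩ = 1 ↔ x ∈ core H := by
  rw [QuotientGroup.mk'_apply, QuotientGroup.eq_one_iff]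
  exact ⟨fun h => ⟨_, h, rfl⟩, fun ⟨y, hy, e⟩ => Subtype.ext (a1 := y) (a2 := ⟨x, hx⟩) e ▸ hy⟩

namespace Setup

variable (D : Setup f)
include D

theorem U_le_co : D.U ≤ centralizer ({f 26} : Set G) := D.U_le_A.trans (D.A_le_centralizer D.o_mem_A)

theorem V_le_co (a : G) (ha : a ∈ D.A) : D.Vof a ≤ centralizer ({a} : Set G) :=
  (D.Vof_le a).trans (D.A_le_centralizer ha)

/-- An element of odd order in the core times the complement is in the core. -/
theorem odd_mem_of_mem_sup {a x : G} (ha : a ∈ D.A) (hx : x ∈ Kf a ⊔ D.Vof a) (ho : Odd (orderOf x)) :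
    x ∈ Kf a := by
  obtain ⟨k, hk, v, hv, rfl⟩ := (SolvBasic.mem_sup_iff_of_le_normalizer
    ((D.Vof_le a).trans (D.A_le_normalizer_Kf ha))).1 hx
  set C := centralizer ({a} : Set G)
  set π := QuotientGroup.mk' (Cfsg.oddCore ↥C)
  have hkC := ClosedAbelian.core_le _ hk
  have hvC := D.V_le_co a ha hv
  have hxC : k * v ∈ C := mul_mem hkC hvC
  have e : π ⟨k * v, hxC⟩ = π ⟨v, hvC⟩ := by
    rw [show (⟨k * v, hxC⟩ : ↥C) = ⟨k, hkC⟩ * ⟨v, hvC⟩ from rfl, map_mul, (mk_one_iff hkC).2 hk, one_mul]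
  refine (mk_one_iff hxC).1 (TwoEl.eq_one_of_odd ?_ ?_)
  · refine ⟨1, ?_⟩
    rw [e, ← map_pow, show (⟨v, hvC⟩ : ↥C) ^ 2 ^ 1 = 1 from Subtype.ext (by
      rw [SubmonoidClass.coe_pow, pow_one, pow_two]; exact D.A_mul_self (D.Vof_le a hv)), map_one]
  · exact ho.of_dvd_nat ((orderOf_map_dvd π _).trans (by rw [Subgroup.orderOf_mk]))

theorem co_normalizes (hU : D.StabU) {a : G} (ha : a ∈ D.A) (haU : a ∉ D.U) :
    centralizer ({a} : Set G) ≤ normalizer ((Kf a ⊔ D.Vof a : Subgroup G) : Set G) := by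
  intro x hx
  refine SEBrick.mem_normalizer_of fun y hy => ?_
  have hmap : (Kf a ⊔ D.Vof a).map (MulAut.conj x).toMonoidHom ≤ Kf a ⊔ D.Vof a := by
    rw [Subgroup.map_sup]
    refine sup_le ?_ ?_
    · rintro _ ⟨k, hk, rfl⟩
      exact mem_sup_left (ClosedAbelian.conj_mem_core hx hk)
    · rintro _ ⟨v, hv, rfl⟩
      show x * v * x⁻¹ ∈ _
      rw [show x * v * x⁻¹ = x * v * x⁻¹ * v⁻¹ * v by group]
      exact mul_mem (mem_sup_left (D.Vof_central hU ha haU hv (mem_centralizer_singleton_iff.1 hx)))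
        (mem_sup_right hv)
  exact hmap ⟨y, hy, rfl⟩

theorem A_inf_sup {a p : G} (ha : a ∈ D.A) (hp : p ∈ D.A) (hpN : p ∈ Kf a ⊔ D.Vof a) : p ∈ D.Vof a := by
  obtain ⟨k, hk, v, hv, e⟩ := (SolvBasic.mem_sup_iff_of_le_normalizer
    ((D.Vof_le a).trans (D.A_le_normalizer_Kf ha))).1 hpN
  have hk1 : k = 1 := (ClosedAbelian.twoEl_of_sq (D.A_mul_self (show k ∈ D.A by
    rw [show k = p * v⁻¹ by rw [e, mul_inv_cancel_right]]
    exact mul_mem hp (inv_mem (D.Vof_le _ hv))))).eq_one_of_odd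
      (odd_orderOf_of_mem (ClosedAbelian.core_odd _) hk)
  rw [e, hk1, one_mul]; exact hv

/-- Balance at the outside representative. -/
def BalO : Prop := ∀ X : Subgroup G, ¬ 2 ∣ Nat.card X → X ≤ centralizer ({f 26} : Set G) →
  D.A ≤ normalizer (X : Set G) → X ≤ Kf (f 26)

theorem bal_of_balO (h : D.BalO) : D.Bal := by
  intro a ha ha1 X hX hXC hAX
  by_cases haU : a ∈ D.U
  · exact D.lemR_U haU ha1 hX hXC hAX
  obtain ⟨k, hk, -, e⟩ := D.conj_out ha haU D.o_mem_A D.o_not_U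
  have h1 := h (X.map (MulAut.conj k).toMonoidHom)
    (by rwa [card_map_of_injective (MulAut.conj k).injective])
    (by rw [← e, ← centralizer_conj]; exact map_mono hXC) (fun p hp => by
      have hp' : k⁻¹ * p * k ∈ D.A := (mem_normalizer_iff''.1 hk _).1 hp
      have h2 := le_normalizer_map (H := X) (MulAut.conj k).toMonoidHom ⟨_, hAX hp', rfl⟩
      rwa [show (MulAut.conj k).toMonoidHom (k⁻¹ * p * k) = p by
        show k * (k⁻¹ * p * k) * k⁻¹ = p
        group] at h2)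
  intro x hx
  have h2 := conj_Kf (g := k⁻¹) (h1 ⟨x, hx, rfl⟩)
  rw [← e, show k⁻¹ * (k * a * k⁻¹) * k⁻¹⁻¹ = a by group] at h2
  rwa [show k⁻¹ * (MulAut.conj k).toMonoidHom x * k⁻¹⁻¹ = x by
    show k⁻¹ * (k * x * k⁻¹) * k⁻¹⁻¹ = x
    group] at h2

/-- The section exists. -/
theorem exists_sec (hU : D.StabU) (hn : D.NT (f 26)) : ∃ (X : Type u) (_ : Group X) (_ : Finite X)
    (π : ↥(centralizer ({f 26} : Set G)) →* X), SecData D π := by
  classical
  haveI : Fact (Nat.Prime 2) := ⟨Nat.prime_two⟩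
  set C := centralizer ({f 26} : Set G)
  have ho := D.o_mem_A
  have ho' := D.o_not_U
  set V := D.Vof (f 26)
  set N := (Kf (f 26) ⊔ V).subgroupOf C
  haveI hN : N.Normal := normal_subgroupOf_of_le_normalizer (D.co_normalizes hU ho ho')
  set π := QuotientGroup.mk' N
  have hker : ∀ x : ↥C, π x = 1 ↔ (x : G) ∈ Kf (f 26) ⊔ V := fun x => by
    rw [QuotientGroup.mk'_apply, QuotientGroup.eq_one_iff, mem_subgroupOf]
  have hVn : V ≤ normalizer (Kf (f 26) : Set G) := (D.Vof_le _).trans (D.A_le_normalizer_Kf ho)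
  have hA_inf : ∀ p ∈ D.A, p ∈ Kf (f 26) ⊔ V → p ∈ V := fun p hp => D.A_inf_sup ho hp
  -- the Sylow subgroup is the image of the second centre
  obtain ⟨P, hP⟩ := (D.A_two.comap_subtype (K := C)).exists_le_sylow
  have hPA : ((P : Subgroup ↥C).map C.subtype) ≤ D.A := by
    refine D.sylow_out hU ho ho' (P.2.map _) ?_ (map_subtype_le _)
    intro p hp
    exact ⟨⟨p, D.A_le_centralizer ho hp⟩, hP (mem_subgroupOf.2 hp), rfl⟩
  let Q : Sylow 2 (↥C ⧸ N) := P.mapSurjective (QuotientGroup.mk'_surjective N)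
  let g : (D.U.subgroupOf C) →* (Q : Subgroup (↥C ⧸ N)) :=
    (π.comp (D.U.subgroupOf C).subtype).codRestrict _ fun x =>
      mem_map_of_mem π (hP (mem_subgroupOf.2 (D.U_le_A (mem_subgroupOf.1 x.2))))
  have hg : Function.Bijective g := by
    constructor
    · refine (injective_iff_map_eq_one g).2 fun x hx => ?_
      have h1 : π x.1 = 1 := congrArg Subtype.val hx
      have hxU := mem_subgroupOf.1 x.2
      have h2 := hA_inf _ (D.U_le_A hxU) ((hker x.1).1 h1)
      refine Subtype.ext (Subtype.ext ?_)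
      show ((x.1 : ↥C) : G) = 1
      rw [← mem_bot, ← D.Vof_inf_U hU ho ho' hn]
      exact ⟨h2, hxU⟩
    · rintro ⟨y, hy⟩
      obtain ⟨⟨p, hpC⟩, hp, rfl⟩ := hy
      have hpA : p ∈ D.A := hPA ⟨⟨p, hpC⟩, hp, rfl⟩
      obtain ⟨v, hv, w, hw, rfl⟩ := (SolvBasic.mem_sup_iff_of_le_normalizer
        ((D.U_le_A.trans (Signalizer.ea_le_centralizer D.A_ea (D.Vof_le _))).trans
          (centralizer_le_normalizer _))).1 (D.A_le_Vof_sup hU ho ho' hpA)
      refine ⟨⟨⟨w, D.U_le_co hw⟩, mem_subgroupOf.2 hw⟩, Subtype.ext ?_⟩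
      show π ⟨w, D.U_le_co hw⟩ = π ⟨v * w, hpC⟩
      rw [show (⟨v * w, hpC⟩ : ↥C) = ⟨v, D.V_le_co _ ho hv⟩ * ⟨w, D.U_le_co hw⟩ from rfl, map_mul,
        (hker ⟨v, D.V_le_co _ ho hv⟩).2 (mem_sup_right hv), one_mul]
  have hQ4 : Nat.card (Q : Subgroup (↥C ⧸ N)) = 4 := by
    rw [← Nat.card_congr (Equiv.ofBijective g hg), Nat.card_congr (subgroupOfEquivOfLe D.U_le_co).toEquiv, D.card_U]
  have hQsq : ∀ y : (Q : Subgroup (↥C ⧸ N)), y * y = 1 := by
    intro y
    obtain ⟨x, rfl⟩ := hg.2 y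
    rw [← map_mul, show x * x = 1 from Subtype.ext (Subtype.ext (D.A_mul_self (D.U_le_A (mem_subgroupOf.1 x.2)))),
      map_one]
  haveI : IsKleinFour (Q : Subgroup (↥C ⧸ N)) := by
    refine ⟨hQ4, ?_⟩
    refine (Nat.prime_two.eq_one_or_self_of_dvd _ (Monoid.exponent_dvd_of_forall_pow_eq_one fun y => by
      rw [pow_two]; exact hQsq y)).resolve_left fun h1 => ?_
    have hsub : Subsingleton (Q : Subgroup (↥C ⧸ N)) := Monoid.exp_eq_one_iff.1 h1
    have := @Nat.card_unique _ ⟨1⟩ hsub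
    omega
  refine ⟨↥C ⧸ N, inferInstance, inferInstance, π, QuotientGroup.mk'_surjective N, hker, ?_,
    ⟨Q, 2, le_rfl, IsKleinFour.nonempty_mulEquiv⟩, fun R hR => ?_⟩
  swap
  · obtain ⟨T, hT⟩ := hR.exists_le_sylow
    exact (card_le_of_le hT).trans (by rw [Nat.card_congr (Sylow.equiv T Q).toEquiv, hQ4])
  -- no odd core
  rw [eq_bot_iff]
  intro y hy
  obtain ⟨x0, rfl⟩ := QuotientGroup.mk'_surjective N y
  rw [mem_bot]
  set R := (Cfsg.oddCore (↥C ⧸ N)).comap π
  set M := (R.map C.subtype) ⊓ centralizer (V : Set G)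
  have hMC : M ≤ C := inf_le_left.trans (map_subtype_le _)
  have hVker : ∀ x (hx : x ∈ V), π ⟨x, D.V_le_co _ ho hx⟩ = 1 := fun x hx => (hker _).2 (mem_sup_right hx)
  have hMR : ∀ x (hx : x ∈ M), π ⟨x, hMC hx⟩ ∈ Cfsg.oddCore (↥C ⧸ N) := by
    intro x hx
    obtain ⟨x', hx', e⟩ := hx.1
    rwa [show (⟨x, hMC hx⟩ : ↥C) = x' from Subtype.ext e.symm]
  have htwo : ∀ t ∈ M, TwoEl t → t ∈ V := by
    intro t ht h2
    have h1 : π ⟨t, hMC ht⟩ = 1 := by
      refine TwoEl.eq_one_of_odd ?_ ?_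
      · obtain ⟨k, hk⟩ := h2
        exact ⟨k, by rw [← map_pow, show (⟨t, hMC ht⟩ : ↥C) ^ 2 ^ k = 1 from Subtype.ext hk, map_one]⟩
      · rw [← Nat.not_even_iff_odd, even_iff_two_dvd]
        exact fun hd => Nat.prime_two.coprime_iff_not_dvd.1 (PBasic.pPrimeCore_coprime 2 (↥C ⧸ N)).symm
          (hd.trans (Subgroup.orderOf_dvd_natCard _ (hMR t ht)))
    obtain ⟨k, hk, v, hv, rfl⟩ := (SolvBasic.mem_sup_iff_of_le_normalizer hVn).1 ((hker _).1 h1)
    have hkv : Commute k v := by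
      have hvv : v * (k * v) = k * v * v := mem_centralizer_iff.1 ht.2 v hv
      show k * v = v * k
      rw [← mul_left_inj v, ← hvv, mul_assoc]
    obtain ⟨j, hj⟩ := h2
    have hk1 : k = 1 := TwoEl.eq_one_of_odd ⟨j + 1, by
      have hv2 : v ^ 2 = 1 := by rw [pow_two, D.A_mul_self (D.Vof_le _ hv)]
      have h := congrArg (fun y => y ^ 2) hj
      simp only [one_pow] at h
      rw [← pow_mul, ← pow_succ, hkv.mul_pow, pow_succ' 2 j, pow_mul v, hv2, one_pow, mul_one,
        ← pow_succ'] at h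
      exact h⟩ (odd_orderOf_of_mem (ClosedAbelian.core_odd _) hk)
    rw [hk1, one_mul]; exact hv
  have hVM : V ≤ M := fun v hv => mem_inf.2 ⟨⟨⟨v, D.V_le_co _ ho hv⟩,
    show π _ ∈ Cfsg.oddCore (↥C ⧸ N) by rw [hVker v hv]; exact one_mem _, rfl⟩,
    mem_centralizer_iff.2 fun w hw => D.A_comm (D.Vof_le _ hw) (D.Vof_le _ hv)⟩
  have hoddM : ∀ s ∈ M, Odd (orderOf s) → s ∈ Kf (f 26) := by
    intro s hs hso
    obtain ⟨T, hT⟩ := ((D.A_two.to_le (D.Vof_le (f 26))).comap_subtype (K := M)).exists_le_sylow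
    have hTV : ∀ x : ↥M, x ∈ (T : Subgroup ↥M) → (x : G) ∈ V := fun x hx => by
      obtain ⟨k, hk⟩ := T.2 ⟨x, hx⟩
      exact htwo _ x.2 ⟨k, by
        have := congrArg Subtype.val (congrArg Subtype.val hk)
        simpa using this⟩
    have hnpc := Fusion.hasNormalPComplement_of_normalizer_le_centralizer (p := 2) T fun x _ =>
      mem_centralizer_iff.2 fun y hy => Subtype.ext (mem_centralizer_iff.1 x.2.2 y (hTV y hy))
    have hres : (⟨s, hs⟩ : ↥M) ∈ Cfsg.pResidual 2 _ :=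
      PBasic.mem_pResidual (by rw [orderOf_mk]; exact Nat.coprime_two_right.2 hso)
    have hc : s ∈ core M := ⟨⟨s, hs⟩, PBasic.le_pPrimeCore (PBasic.pResidual_normal_inst 2 _)
      ((PBasic.coprime_card_iff _).2 fun x hx => (PBasic.mem_pResidual_iff hnpc).1 hx) hres, rfl⟩
    refine ClosedAbelian.le_core (N := core M ⊔ Kf (f 26))
      (sup_le ((ClosedAbelian.core_le _).trans hMC) (ClosedAbelian.core_le _)) (fun x hx => ?_)
      (ClosedAbelian.sup_core_odd ((ClosedAbelian.core_le _).trans hMC) (ClosedAbelian.core_odd _))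
      (mem_sup_left hc)
    obtain ⟨k, hk, hkx⟩ := D.cent_split hU ho ho' (mem_centralizer_singleton_iff.1 hx)
    have hkxC : k * x ∈ C := mul_mem (ClosedAbelian.core_le _ hk) hx
    have hRn : (R.map C.subtype) ≤ C := map_subtype_le _
    have hnM : k * x ∈ normalizer (M : Set G) := by
      refine normalizer_inf_le ?_ (le_normalizer hkx)
      refine SEBrick.mem_normalizer_of ?_
      rintro _ ⟨r, hr, rfl⟩
      refine ⟨⟨k * x, hkxC⟩ * r * ⟨k * x, hkxC⟩⁻¹, ?_, rfl⟩
      show π _ ∈ Cfsg.oddCore (↥C ⧸ N)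
      rw [map_mul, map_mul, map_inv]
      exact (FittingCores.pPrimeCore_normal (G := ↥C ⧸ N) 2).conj_mem _ hr _
    rw [show x = k⁻¹ * (k * x) by group]
    exact mul_mem (inv_mem (le_normalizer (mem_sup_right hk)))
      (Subgroup.normalizer_inf_normalizer_le_normalizer_sup _ _
        (mem_inf.2 ⟨ClosedAbelian.normalizer_le_normalizer_core M hnM,
          ClosedAbelian.core_normalized _ hkxC⟩))
  obtain ⟨k, hk, hkx⟩ := D.cent_split hU ho ho' (mem_centralizer_singleton_iff.1 x0.2)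
  have hkxM : k * x0 ∈ M := by
    refine mem_inf.2 ⟨⟨⟨k, ClosedAbelian.core_le _ hk⟩ * x0, ?_, rfl⟩, hkx⟩
    show π _ ∈ Cfsg.oddCore (↥C ⧸ N)
    rw [map_mul, (hker ⟨k, _⟩).2 (mem_sup_left hk), one_mul]
    exact hy
  obtain ⟨t, s, e, ht, hs, ht2, hso⟩ := ClosedAbelian.exists_parts (k * (x0 : G))
  have hts : k * (x0 : G) ∈ Kf (f 26) ⊔ V := e ▸ mul_mem
    (mem_sup_right (htwo t (zpowers_le.2 hkxM ht) ht2)) (mem_sup_left (hoddM s (zpowers_le.2 hkxM hs) hso))
  refine (hker x0).2 ?_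
  rw [show (x0 : G) = k⁻¹ * (k * x0) by group]
  exact mul_mem (inv_mem (mem_sup_left hk)) hts

section

variable {X : Type u} [Group X] [Finite X] {π : ↥(centralizer ({f 26} : Set G)) →* X} (hπ : SecData D π)
variable (hU : D.StabU) (hn : D.NT (f 26))
include hπ hU hn

theorem ubar_inj {w : G} (hw : w ∈ D.U) (h : π ⟨w, D.U_le_co hw⟩ = 1) : w = 1 := by
  have h2 := D.A_inf_sup D.o_mem_A (D.U_le_A hw) ((hπ.ker _).1 h)
  rw [← mem_bot, ← D.Vof_inf_U hU D.o_mem_A D.o_not_U hn]; exact ⟨h2, hw⟩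

theorem card_ubar : Nat.card (Ubar D π) = 4 := by
  rw [← D.card_U, ← Nat.card_congr (subgroupOfEquivOfLe D.U_le_co).toEquiv]
  refine (Nat.card_congr (Equiv.ofBijective (fun x : D.U.subgroupOf (centralizer ({f 26} : Set G)) =>
    (⟨π x, mem_map_of_mem π x.2⟩ : Ubar D π)) ⟨fun x y e => ?_, ?_⟩)).symm
  · have e' : π x.1 = π y.1 := congrArg Subtype.val e
    have h1 : π (x.1 * y.1⁻¹) = 1 := by rw [map_mul, map_inv, e', mul_inv_cancel]
    have h2 := D.ubar_inj hπ hU hn (w := ((x.1 * y.1⁻¹ : ↥(centralizer ({f 26} : Set G))) : G))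
      (mul_mem (mem_subgroupOf.1 x.2) (inv_mem (mem_subgroupOf.1 y.2))) h1
    exact Subtype.ext (mul_inv_eq_one.1 (Subtype.ext h2))
  · rintro ⟨_, x, hx, rfl⟩
    exact ⟨⟨x, hx⟩, rfl⟩

omit hπ hU hn in
theorem ubar_sq {u : X} (hu : u ∈ Ubar D π) : u * u = 1 := by
  obtain ⟨x, hx, rfl⟩ := hu
  rw [← map_mul, show x * x = 1 from Subtype.ext (D.A_mul_self (D.U_le_A (mem_subgroupOf.1 hx))), map_one]

omit hπ hU hn in
theorem ubar_two : IsPGroup 2 (Ubar D π) := fun u => ⟨1, Subtype.ext (by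
  rw [pow_one, SubmonoidClass.coe_pow, pow_two, Subgroup.coe_one]; exact D.ubar_sq u.2)⟩

omit hπ hU hn in
theorem ubar_ea : Cfsg.IsElementaryAbelian 2 (Ubar D π) :=
  ⟨.of_setLike_mul_comm fun a ha b hb => by
    obtain ⟨x, hx, rfl⟩ := ha
    obtain ⟨y, hy, rfl⟩ := hb
    rw [← map_mul, ← map_mul]
    exact congrArg π (Subtype.ext (D.A_comm (D.U_le_A (mem_subgroupOf.1 hx)) (D.U_le_A (mem_subgroupOf.1 hy)))),
    fun a ha => by rw [pow_two]; exact D.ubar_sq ha⟩

/-- Small centralisers of the involutions give balance. -/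
theorem balO_of_small (h : ∀ u ∈ Ubar D π, u ≠ 1 → ∀ y : X, y * u = u * y → Odd (orderOf y) → y = 1) : D.BalO := by
  haveI : Fact (Nat.Prime 2) := ⟨Nat.prime_two⟩
  intro Y hY hYC hAY
  set Y' := (Y.subgroupOf (centralizer ({f 26} : Set G))).map π
  have hY' : ¬ 2 ∣ Nat.card Y' := fun hd => hY (hd.trans ((card_map_dvd _ π).trans
    (Nat.card_congr (subgroupOfEquivOfLe hYC).toEquiv).dvd))
  have hnorm : Ubar D π ≤ normalizer (Y' : Set X) := by
    rintro _ ⟨w, hw, rfl⟩
    refine SEBrick.mem_normalizer_of ?_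
    rintro _ ⟨y, hy, rfl⟩
    refine ⟨w * y * w⁻¹, mem_subgroupOf.2 ?_,
      by rw [map_mul, map_mul, map_inv]⟩
    exact conj_mem_normalizer (hAY (D.U_le_A (mem_subgroupOf.1 hw))) (mem_subgroupOf.1 hy)
  have hbot : Y' ≤ ⊥ := Signalizer.le_of_centralizer_le D.ubar_ea
    (by rw [D.card_ubar hπ hU hn]; norm_num) hnorm hY' fun b hb hb1 y hy =>
      mem_bot.2 (h b hb hb1 y (mem_centralizer_singleton_iff.1 hy.2) (odd_orderOf_of_mem hY' hy.1))
  intro y hy
  exact D.odd_mem_of_mem_sup D.o_mem_A ((hπ.ker ⟨y, hYC hy⟩).1 (mem_bot.1 (hbot ⟨⟨y, hYC hy⟩, hy, rfl⟩)))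
    (odd_orderOf_of_mem hY hy)

omit hπ hU hn in
/-- A field of five elements has no automorphism. -/
theorem field_five {F : Type} [Field F] [Fintype F] (h : Fintype.card F = 5) (σ : F ≃+* F) : σ = 1 := by
  haveI : Fact (Nat.Prime 5) := ⟨by norm_num⟩
  haveI : CharP F 5 := charP_of_card_eq_prime h
  have hs : Function.Surjective (ZMod.castHom (dvd_refl 5) F) := by
    refine ((Fintype.bijective_iff_injective_and_card _).2 ⟨?_, ?_⟩).2
    · exact RingHom.injective _
    · rw [ZMod.card, h]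
  refine RingEquiv.ext fun x => ?_
  obtain ⟨k, rfl⟩ := hs x
  exact RingHom.congr_fun (Subsingleton.elim (σ.toRingHom.comp (ZMod.castHom (dvd_refl 5) F))
    (ZMod.castHom (dvd_refl 5) F)) k

/-- Either the section has small centralisers, or it has a linear socle. -/
theorem sec_cases : D.BalO ∨ ∃ L : Subgroup X, GW.SocleFacts X L ∧ Ubar D π ≤ L ∧
    ∀ v : X, v ∈ L → orderOf v = 2 → Nat.card (L ⊓ centralizer ({v} : Set X) : Subgroup X) ≤ 4 →
      ∀ y : X, y * v = v * y → Odd (orderOf y) → y = 1 := by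
  classical
  haveI : Fact (Nat.Prime 2) := ⟨Nat.prime_two⟩
  have hU4 := D.card_ubar hπ hU hn
  have hshape := GW.shape hπ.dih hπ.core fun L _ hL hd => by
    haveI := hL
    exact GW.knownBelow_target (GW.knownBelow_of_simple GW.simpleDihedral (Nat.card L + 1)) hd (Nat.lt_succ_self _)
  rcases hshape with h2 | ⟨W, hWn, hW, hWc, -⟩ | ⟨L, hLn, hLs, hLnc, hLt, hLC⟩
  · refine Or.inl (D.balO_of_small hπ hU hn fun u _ _ y _ hyo => ?_)
    exact (TwoEl.eq_one_of_odd (by obtain ⟨k, hk⟩ := h2 y; exact ⟨k, hk⟩) hyo)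
  · refine Or.inl (D.balO_of_small hπ hU hn fun u hu hu1 y hyu hyo => ?_)
    haveI := hWn
    haveI := hW
    have hsup : IsPGroup 2 ↥(W ⊔ Ubar D π) := IsPGroup.to_sup_of_normal_left
      (IsPGroup.of_card (n := 2) (by rw [hW.card_four]; norm_num)) D.ubar_two
    have hEq : Ubar D π = W := (eq_of_le_of_card_ge le_sup_right ((hπ.small _ hsup).trans hU4.ge)).trans
      (eq_of_le_of_card_ge le_sup_left ((hπ.small _ hsup).trans hW.card_four.ge)).symm
    rw [hEq] at hu
    have hyW : y ∈ centralizer (W : Set X) := by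
      refine mem_centralizer_iff.2 fun w hw => ?_
      by_cases hw1 : w = 1
      · rw [hw1, one_mul, mul_one]
      by_cases hwu : w = u
      · rw [hwu, hyu]
      refine (mem_centralizer_singleton_iff.1 (mem_of_sq_mem (mem_centralizer_singleton_iff.2
        (mul_inv_eq_iff_eq_mul.1 ?_) : y * y ∈ centralizer ({w} : Set X)) hyo)).symm
      set b := y * w * y⁻¹ with hb
      have hbW : b ∈ W := hWn.conj_mem w hw y
      have hb1 : b ≠ 1 := fun e => hw1 (conj_eq_one_iff.1 e)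
      have hbu : b ≠ u := fun e => hwu ((conj_inj_iff y).1 (e.trans (by rw [hyu, mul_inv_cancel_right])))
      have h4 : ∀ p ∈ W, p ≠ 1 → p ≠ u → p = w ∨ p = u * w := by
        intro p hp hp1 hpu
        rw [← hEq] at hp hu hw
        by_contra hcon
        simp only [not_or] at hcon
        have huw1 : u * w ≠ 1 := fun e => hwu ((inv_eq_of_mul_eq_one_right e).symm.trans
          (inv_eq_of_mul_eq_one_right (D.ubar_sq hu)))
        have hsub : ({1, u, w, u * w, p} : Set X) ⊆ (Ubar D π : Set X) := by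
          simp [Set.insert_subset_iff, one_mem, hu, hw, hp, mul_mem hu hw]
        have hc := Set.ncard_le_ncard hsub
        rw [← Nat.card_coe_set_eq (Ubar D π : Set X)] at hc
        change _ ≤ Nat.card (Ubar D π) at hc
        rw [hU4, Set.ncard_insert_of_notMem (by simp [Ne.symm hu1, Ne.symm hw1, Ne.symm huw1, Ne.symm hp1]),
          Set.ncard_insert_of_notMem (by simp [Ne.symm hwu, Ne.symm hpu, hw1]),
          Set.ncard_insert_of_notMem (by simp [Ne.symm hcon.1, hu1]), Set.ncard_pair (Ne.symm hcon.2)] at hc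
        omega
      rw [show y * y * w * (y * y)⁻¹ = y * b * y⁻¹ by rw [hb]; group]
      rcases h4 b hbW hb1 hbu with e | e
      · rw [e, ← hb, e]
      · rw [e, show y * (u * w) * y⁻¹ = (y * u * y⁻¹) * (y * w * y⁻¹) by group, hyu, mul_inv_cancel_right, ← hb, e,
          ← mul_assoc, D.ubar_sq (hEq.symm ▸ hu), one_mul]
    rw [hWc] at hyW
    refine TwoEl.eq_one_of_odd (ClosedAbelian.twoEl_of_sq ?_) hyo
    exact congrArg Subtype.val (IsKleinFour.mul_self (⟨y, hyW⟩ : W))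
  · haveI := hLn
    haveI := hLs
    have h7 : ¬ Nonempty (X ≃* alternatingGroup (Fin 7)) := by
      rintro ⟨e⟩
      have h8 : 2 ^ 3 ∣ Nat.card X := by
        rw [Nat.card_congr e.toEquiv, nat_card_alternatingGroup, Nat.card_eq_fintype_card, Fintype.card_fin]
        decide
      obtain ⟨Q, hQ⟩ := Sylow.exists_subgroup_card_pow_prime 2 h8
      have := hπ.small Q (IsPGroup.of_card hQ)
      omega
    have hfacts : GW.SocleFacts X L := (GW.sectionFacts X hπ.dih hπ.core L hLn hLs hLnc hLt hLC).resolve_left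
      fun h => h7 h.2
    have hUL : Ubar D π ≤ L := by
      obtain ⟨K, hK⟩ := S0204.result (G := L) fun hcyc => hLnc hcyc.isMulCommutative
      haveI := hK
      set K' := K.map L.subtype
      have hK' : Nat.card K' = 4 := by
        rw [card_map_of_injective L.subtype_injective, hK.card_four]
      obtain ⟨S, hS⟩ := (IsPGroup.of_card (n := 2) (hK'.trans (by norm_num)) : IsPGroup 2 K').exists_le_sylow
      obtain ⟨T, hT⟩ := (D.ubar_two (π := π)).exists_le_sylow
      obtain ⟨g, hg⟩ := MulAction.exists_smul_eq X S T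
      have hSL : (S : Subgroup X) ≤ L := by
        rw [← eq_of_le_of_card_ge hS ((hπ.small _ S.2).trans hK'.ge)]
        exact map_subtype_le _
      intro x hx
      have hxT : x ∈ ((g • S : Sylow 2 X) : Subgroup X) := hg ▸ hT hx
      obtain ⟨y, hy, rfl⟩ := hxT
      exact hLn.conj_mem y (hSL hy) g
    refine Or.inr ⟨L, hfacts, hUL, fun v hv hvo hle y hyv hyo => ?_⟩
    obtain h | ⟨F, i1, i2, hs, ι, hnc, hodd, h3, hι, hL, hfld⟩ := GW.psl_data hπ.dih L hLnc hLC hLt
    · exact absurd h h7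
    have hmemL : ∀ x : X, x ∈ L ↔ ι x ∈ Cfsg.Inn (Matrix.ProjectiveSpecialLinearGroup (Fin 2) F) := fun x => by
      rw [← hL, Subgroup.mem_map_iff_mem hι]
    have h2 : (2 : F) ≠ 0 := fun e => by
      have hc : CharP F 2 := CharP.ringChar_of_prime_eq_zero Nat.prime_two (by exact_mod_cast e) ▸
        ringChar.charP F
      obtain ⟨n, -, hn⟩ := FiniteField.card F 2
      rw [hn] at hodd
      exact Nat.not_odd_iff_even.2 (Even.pow_of_ne_zero (by norm_num) n.2.ne') hodd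
    obtain ⟨p, hp⟩ := (hmemL v).1 hv
    have hv2 : v * v = 1 := by rw [← pow_two, ← hvo, pow_orderOf_eq_one]
    have hp2 : p * p = 1 := GW.conj_injective hnc (by rw [map_mul, hp, ← map_mul, hv2, map_one, map_one])
    have hp1 : p ≠ 1 := fun e => Invol.ne_one hvo (hι (by rw [← hp, e, map_one, map_one]))
    set C := L ⊓ centralizer ({v} : Set X) with hC
    have hmap : C.map ι = (centralizer ({p} : Set (Matrix.ProjectiveSpecialLinearGroup (Fin 2) F))).map
        MulAut.conj := by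
      ext β
      simp only [Subgroup.mem_map, hC, Subgroup.mem_inf, Subgroup.mem_centralizer_singleton_iff]
      constructor
      · rintro ⟨x, ⟨hx, hxv⟩, rfl⟩
        obtain ⟨r, hr⟩ := (hmemL x).1 hx
        refine ⟨r, GW.conj_injective hnc ?_, hr⟩
        rw [map_mul, map_mul, hr, hp, ← map_mul, ← map_mul, hxv]
      · rintro ⟨r, hr, rfl⟩
        obtain ⟨x, hx, hxr⟩ := Subgroup.mem_map.1 (show MulAut.conj r ∈ L.map ι by rw [hL]; exact ⟨r, rfl⟩)
        refine ⟨x, ⟨hx, hι ?_⟩, hxr⟩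
        rw [map_mul, map_mul, hxr, ← hp, ← map_mul, ← map_mul, hr]
    have hcardC : Nat.card C = Nat.card (centralizer ({p} : Set (Matrix.ProjectiveSpecialLinearGroup (Fin 2) F))) := by
      rw [← Subgroup.card_map_of_injective (K := C) hι, hmap,
        Subgroup.card_map_of_injective (GW.conj_injective hnc)]
    obtain ⟨c, hc⟩ := isConj_iff.1 (PSL2Inv.isConj_pr_w h2 hp2 hp1)
    obtain ⟨e⟩ := AutPSL.centralizer_conj_equiv (⊤ : Subgroup (Matrix.ProjectiveSpecialLinearGroup (Fin 2) F))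
      (PSL2Inv.pr SL2Inv.w) c trivial
    rw [hc, top_inf_eq, top_inf_eq] at e
    rw [Nat.card_congr e.toEquiv, PSL2Inv.card_centralizer h2, SL2Inv.card_C h2, Nat.card_eq_fintype_card (α := F)] at hcardC
    have hq : Fintype.card F = 5 ∧ Nat.card C = 4 := by
      obtain ⟨m, hm⟩ := hodd
      split_ifs at hcardC <;> omega
    have hyC : y ∈ C := by
      refine ⟨(hmemL y).2 (GW.mem_inn_of_odd hodd ((GW.mem_inndiag_iff_fld _).2 (D.field_five hq.1 _))
        (by rwa [orderOf_injective _ hι])), mem_centralizer_singleton_iff.2 hyv⟩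
    have hd := Subgroup.orderOf_dvd_natCard C hyC
    rw [hq.2] at hd
    exact TwoEl.eq_one_of_odd ⟨2, orderOf_dvd_iff_pow_eq_one.1 hd⟩ hyo

end

end Setup

end Cfsg.Agent.J2Core
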