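import Cfsg.Agent.Lib.J2Core.CountEq
import Cfsg.Agent.Lib.J2Core.CountSocle
import Cfsg.Agent.Lib.J2Core.Sec

/-!
The count: an overgroup of the normaliser of the second centre with the stabiliser condition forces balance.
-/

set_option autoImplicit false
set_option linter.style.haveILetI false
set_option linter.unusedSectionVars false

namespace Cfsg.Agent.J2Core

open Subgroup
open Cfsg.Agent.J2Type
open Cfsg.Agent.ClosedAbelian (TwoEl mem_of_sq_mem odd_orderOf_of_mem)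

universe u

variable {G : Type u} [Group G] [Finite G] {f : ℕ → G} {D : Setup f}

namespace Half

variable {M M₀ : Subgroup G} (H : CountHyp D M) (P : Half D M M₀)
variable {X : Type u} [Group X] [Finite X] {π : ↥(centralizer ({f 26} : Set G)) →* X}
variable (hπ : SecData D π) (hn : D.NT (f 26))
include H P hπ hn

theorem zco_ne_ker {x : G} (hx : x ∈ zco M₀ f) :
    π ⟨x, mem_centralizer_singleton_iff.2 hx.2⟩ ≠ 1 := by
  intro h
  have hx2 := P.order_two H (P.z_two H) hx.1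
  obtain ⟨c, hc, hcA⟩ := P.cent_o_invol H hx.2 hx2
  have hU : c * x * c⁻¹ ∈ D.U := by
    by_contra hU
    exact P.ne_Z_O1 H (cls_conj (P.cO hc) hx.1) (P.A_cls H hcA hU)
  have h1 : π ⟨c * x * c⁻¹, D.U_le_co hU⟩ = 1 := by
    rw [show (⟨c * x * c⁻¹, D.U_le_co hU⟩ : ↥(centralizer ({f 26} : Set G))) =
      ⟨c, hc⟩ * ⟨x, mem_centralizer_singleton_iff.2 hx.2⟩ * ⟨c, hc⟩⁻¹ from rfl, map_mul, map_mul, map_inv, h,
      mul_one, mul_inv_cancel]
  exact Invol.ne_one hx2 (conj_eq_one_iff.1 (D.ubar_inj hπ H.stab hn hU h1))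

theorem zco_image {x : G} (hx : x ∈ zco M₀ f) :
    orderOf (π ⟨x, mem_centralizer_singleton_iff.2 hx.2⟩) = 2 := by
  refine Invol.order_two_of_sq ?_ (P.zco_ne_ker H hπ hn hx)
  rw [← map_mul, ← map_one π]
  exact congrArg π (Subtype.ext (Invol.mul_self (P.order_two H (P.z_two H) hx.1)))

theorem parity {x y : G} (hx : x ∈ zco M₀ f) (hy : y ∈ zco M₀ f)
    (ho : Odd (orderOf (π ⟨x, mem_centralizer_singleton_iff.2 hx.2⟩ * π ⟨y, mem_centralizer_singleton_iff.2 hy.2⟩))) :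
    Odd (orderOf (x * y)) := by
  haveI : Fact (Nat.Prime 2) := ⟨Nat.prime_two⟩
  by_contra hne
  have hx2 := P.order_two H (P.z_two H) hx.1
  have hy2 := P.order_two H (P.z_two H) hy.1
  have hxC : x ∈ (centralizer ({f 26} : Set G)) := mem_centralizer_singleton_iff.2 hx.2
  have hyC : y ∈ (centralizer ({f 26} : Set G)) := mem_centralizer_singleton_iff.2 hy.2
  obtain ⟨ht2, htx, hty⟩ := mid_spec hx2 hy2 hne
  obtain ⟨m, hm⟩ := even_iff_two_dvd.1 (Nat.not_odd_iff_even.1 hne)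
  have hgo : x * y * f 26 = f 26 * (x * y) := ((show Commute x (f 26) from hx.2).mul_left hy.2).eq
  have hmodd : Odd m := by
    rw [← Nat.not_even_iff_odd]
    rintro ⟨d, rfl⟩
    exact P.cent_o_order H hgo ⟨d, by omega⟩
  set t := mid x y with ht
  have htm : t = (x * y) ^ m := by rw [ht, mid, hm, Nat.mul_div_cancel_left _ two_pos]
  have htC : t ∈ (centralizer ({f 26} : Set G)) := by rw [htm]; exact pow_mem (mul_mem hxC hyC) m
  have hπt : π ⟨t, htC⟩ = 1 := by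
    have e : π ⟨t, htC⟩ = (π ⟨x, hxC⟩ * π ⟨y, hyC⟩) ^ m := by
      rw [← map_mul, ← map_pow]
      exact congrArg π (Subtype.ext (htm.trans (by simp)))
    refine TwoEl.eq_one_of_odd ⟨1, ?_⟩ ?_
    · rw [← map_pow, show (⟨t, htC⟩ : ↥(centralizer ({f 26} : Set G))) ^ 2 ^ 1 = 1 from Subtype.ext (by
        rw [SubmonoidClass.coe_pow, pow_one, pow_two]; exact Invol.mul_self ht2), map_one]
    · rw [e]
      exact ho.of_dvd_nat (orderOf_pow_dvd m)
  have hxt : x * t ≠ 1 := fun e => P.zco_ne_ker H hπ hn hx (by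
    rw [show (⟨x, mem_centralizer_singleton_iff.2 hx.2⟩ : ↥(centralizer ({f 26} : Set G))) = ⟨t, htC⟩ from Subtype.ext ((mul_eq_one_iff_eq_inv.1 e).trans (Invol.inv_self ht2)), hπt])
  have hxt2 : orderOf (x * t) = 2 := Invol.order_two_of_sq (by
    rw [mul_assoc, ← mul_assoc t, htx, mul_assoc, Invol.mul_self ht2, mul_one, Invol.mul_self hx2]) hxt
  have hodd : Odd (orderOf (x * t * y)) := by
    refine hmodd.of_dvd_nat (orderOf_dvd_of_pow_eq_one ?_)
    have hgt : Commute (x * y) t := (show Commute x t from htx.symm).mul_left hty.symm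
    rw [show x * t * y = x * y * t by rw [mul_assoc, hty, ← mul_assoc], hgt.mul_pow, ← htm]
    obtain ⟨j, hj⟩ := hmodd
    rw [hj, pow_succ, pow_mul, pow_two, Invol.mul_self ht2, one_pow, one_mul, Invol.mul_self ht2]
  obtain ⟨d, hd, ed⟩ := Invol.conj_of_odd hxt2 hy2 hodd
  have hdC : d ∈ (centralizer ({f 26} : Set G)) := (closure_le (centralizer ({f 26} : Set G))).2
    (by rintro _ (rfl | rfl) <;> first | exact mul_mem hxC htC | exact hyC) hd
  have hxtZ : x * t ∈ cls M₀ (f 2) := cls_trans (P.cO hdC) (ed.symm ▸ hy.1)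
  -- both into the first subgroup
  have hT : IsPGroup 2 (zpowers x ⊔ zpowers t : Subgroup G) :=
    IsPGroup.to_sup_of_normal_left' (ClosedAbelian.twoEl_of_sq (Invol.mul_self hx2)).isPGroup
      (ClosedAbelian.twoEl_of_sq (Invol.mul_self ht2)).isPGroup
      (zpowers_le.2 (centralizer_le_normalizer _ (mem_centralizer_iff.2 fun w hw => by
        obtain ⟨i, rfl⟩ := hw
        exact ((show Commute t x from htx).zpow_right i).symm.eq)))
  obtain ⟨c, hc, hcA⟩ := H.sylow_A hT (sup_le (zpowers_le.2 hxC) (zpowers_le.2 htC))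
  have hc0 := P.cO hc
  have hZU : ∀ a ∈ D.A, a ∈ cls M₀ (f 2) → a ∈ D.U := fun a ha hZ => by
    by_contra hU
    exact P.ne_Z_O1 H hZ (P.A_cls H ha hU)
  have ha := hcA x (mem_sup_left (mem_zpowers x))
  have hw := hcA t (mem_sup_right (mem_zpowers t))
  have haU := hZU _ ha (cls_conj hc0 hx.1)
  have hawU := hZU _ (mul_mem ha hw) (by
    rw [show c * x * c⁻¹ * (c * t * c⁻¹) = c * (x * t) * c⁻¹ by group]
    exact cls_conj hc0 hxtZ)
  have hwU : c * t * c⁻¹ ∈ D.U := by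
    have h1 := mul_mem (inv_mem haU) hawU
    rwa [inv_mul_cancel_left] at h1
  have h1 : π ⟨c * t * c⁻¹, D.U_le_co hwU⟩ = 1 := by
    rw [show (⟨c * t * c⁻¹, D.U_le_co hwU⟩ : ↥(centralizer ({f 26} : Set G))) = ⟨c, hc⟩ * ⟨t, htC⟩ * ⟨c, hc⟩⁻¹ from rfl, map_mul, map_mul,
      map_inv, hπt, mul_one, mul_inv_cancel]
  exact Invol.ne_one ht2 (conj_eq_one_iff.1 (D.ubar_inj hπ H.stab hn hwU h1))

/-- The equation in the section. -/
theorem sec_count (hcl : ∀ u v : X, orderOf u = 2 → orderOf v = 2 → IsConj u v) :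
    (Socle.invols X).ncard ^ 2 = 3 * (Socle.oddPairs X).ncard := by
  classical
  let φ : G → X := fun x => if hx : x ∈ (centralizer ({f 26} : Set G)) then π ⟨x, hx⟩ else 1
  have φdef : ∀ x (hx : x ∈ (centralizer ({f 26} : Set G))), φ x = π ⟨x, hx⟩ := fun x hx => dif_pos hx
  have hmem : ∀ x ∈ zco M₀ f, x ∈ (centralizer ({f 26} : Set G)) := fun x hx => mem_centralizer_singleton_iff.2 hx.2
  set Fb : X → Set G := fun v => {x ∈ zco M₀ f | φ x = v}
  have hconj : ∀ g (hg : g ∈ (centralizer ({f 26} : Set G))), ∀ x ∈ zco M₀ f,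
      g * x * g⁻¹ ∈ zco M₀ f ∧ φ (g * x * g⁻¹) = π ⟨g, hg⟩ * φ x * (π ⟨g, hg⟩)⁻¹ := by
    intro g hg x hx
    have hgo := mem_centralizer_singleton_iff.1 hg
    have h1 : g * x * g⁻¹ ∈ zco M₀ f := ⟨cls_conj (P.cO hg) hx.1,
      (((show Commute g (f 26) from hgo).mul_left hx.2).mul_left (show Commute g (f 26) from hgo).inv_left).eq⟩
    refine ⟨h1, ?_⟩
    rw [φdef x (hmem x hx), φdef _ (hmem _ h1), ← map_inv, ← map_mul, ← map_mul]
    rfl
  have hzz : f 2 ∈ zco M₀ f :=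
    ⟨cls_self _, D.A_comm (D.U_le_A D.z_mem_U) D.o_mem_A⟩
  set v0 := φ (f 2)
  have hv0 : orderOf v0 = 2 := by
    show orderOf (φ (f 2)) = 2
    rw [φdef _ (hmem _ hzz)]; exact P.zco_image H hπ hn hzz
  have hfib : ∀ v ∈ Socle.invols X, (Fb v).ncard = (Fb v0).ncard := by
    intro v hv
    obtain ⟨g', hg'⟩ := isConj_iff.1 (hcl v0 v hv0 hv)
    obtain ⟨⟨g, hg⟩, rfl⟩ := hπ.surj g'
    symm
    refine Set.ncard_congr (fun x _ => g * x * g⁻¹) (fun x hx => ?_) (fun x y _ _ h => (conj_inj_iff g).1 h)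
      fun y hy => ⟨g⁻¹ * y * g, ?_, by group⟩
    · obtain ⟨h1, h2⟩ := hconj g hg x hx.1
      exact ⟨h1, by rw [h2, hx.2, hg']⟩
    · obtain ⟨h1, h2⟩ := hconj g⁻¹ (inv_mem hg) y hy.1
      rw [inv_inv] at h1 h2
      refine ⟨h1, ?_⟩
      rw [h2, hy.2, ← hg', show (⟨g⁻¹, inv_mem hg⟩ : ↥(centralizer ({f 26} : Set G))) = ⟨g, hg⟩⁻¹ from rfl, map_inv]
      group
  have hn1 : (zco M₀ f).ncard = (Socle.invols X).ncard * (Fb v0).ncard :=
    ncard_fibre (φ := φ) (fun x hx => by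
      show orderOf (φ x) = 2
      rw [φdef x (hmem x hx)]; exact P.zco_image H hπ hn hx) hfib
  have hn2 : (zcoPairs M₀ f).ncard = (Socle.oddPairs X).ncard * ((Fb v0).ncard * (Fb v0).ncard) := by
    refine ncard_fibre (φ := fun p => (φ p.1, φ p.2)) ?_ ?_
    · rintro ⟨x, y⟩ ⟨hx, hy, ho⟩
      refine ⟨?_, ?_, ?_⟩
      · show orderOf (φ x) = 2
        rw [φdef x (hmem x hx)]; exact P.zco_image H hπ hn hx
      · show orderOf (φ y) = 2
        rw [φdef y (hmem y hy)]; exact P.zco_image H hπ hn hy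
      · show Odd (orderOf (φ x * φ y))
        rw [φdef x (hmem x hx), φdef y (hmem y hy), ← map_mul]
        refine ho.of_dvd_nat ((orderOf_map_dvd π _).trans ?_)
        rw [← Subgroup.orderOf_coe]
        exact dvd_rfl
    · rintro ⟨u, v⟩ ⟨hu, hv, hodd⟩
      rw [show (Fb v0).ncard * (Fb v0).ncard = (Fb u ×ˢ Fb v).ncard by rw [Set.ncard_prod, hfib u hu, hfib v hv]]
      congr 1
      ext ⟨x, y⟩
      constructor
      · rintro ⟨⟨hx, hy, -⟩, e⟩
        simp only [Prod.mk.injEq] at e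
        exact ⟨⟨hx, e.1⟩, ⟨hy, e.2⟩⟩
      · rintro ⟨⟨hx, ex⟩, ⟨hy, ey⟩⟩
        refine ⟨⟨hx, hy, P.parity H hπ hn hx hy ?_⟩, Prod.ext ex ey⟩
        rw [← φdef x (hmem x hx), ← φdef y (hmem y hy), ex, ey]
        exact hodd
  have hpos : 0 < (Fb v0).ncard := (Set.ncard_pos (Set.toFinite _)).2 ⟨f 2, hzz, rfl⟩
  have h := P.count_eq H
  rw [hn1, hn2] at h
  refine Nat.eq_of_mul_eq_mul_left (Nat.mul_pos hpos hpos) ?_
  calc _ = ((Socle.invols X).ncard * (Fb v0).ncard) ^ 2 := by ring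
    _ = _ := by rw [h]; ring

/-- Balance at the outside representative. -/
theorem balO : D.BalO := by
  haveI : Fact (Nat.Prime 2) := ⟨Nat.prime_two⟩
  intro Y hY hYC hAY
  obtain ⟨T, hT⟩ := (D.ubar_two (π := π)).exists_le_sylow
  have hTU : (T : Subgroup X) = Ubar D π :=
    (eq_of_le_of_card_ge hT ((hπ.small _ T.2).trans (D.card_ubar hπ H.stab hn).ge)).symm
  set Y' := (Y.subgroupOf (centralizer ({f 26} : Set G))).map π
  have hY' : ¬ 2 ∣ Nat.card Y' := fun hd => hY (hd.trans ((card_map_dvd _ π).trans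
    (Nat.card_congr (subgroupOfEquivOfLe hYC).toEquiv).dvd))
  have hbot : Y' = ⊥ := by
    refine Socle.four_trivial T (by rw [hTU]; exact D.card_ubar hπ H.stab hn)
      (fun x hx => D.ubar_sq (π := π) (by rw [← hTU]; exact hx)) hπ.core (fun hcl => P.sec_count H hπ hn hcl) hY' ?_
    rw [hTU]
    rintro _ ⟨w, hw, rfl⟩
    refine SEBrick.mem_normalizer_of ?_
    rintro _ ⟨y, hy, rfl⟩
    refine ⟨w * y * w⁻¹, mem_subgroupOf.2 ?_, by rw [map_mul, map_mul, map_inv]⟩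
    exact conj_mem_normalizer (hAY (D.U_le_A (mem_subgroupOf.1 hw))) (mem_subgroupOf.1 hy)
  intro y hy
  refine D.odd_mem_of_mem_sup D.o_mem_A ((hπ.ker ⟨y, hYC hy⟩).1 ?_) (odd_orderOf_of_mem hY hy)
  rw [← mem_bot, ← hbot]
  exact ⟨⟨y, hYC hy⟩, hy, rfl⟩

end Half

namespace Setup

variable (D)
include D

/-- The count forces balance. -/
theorem bal_of_count (hU : D.StabU) (M : Subgroup G) (hNU : normalizer (D.U : Set G) ≤ M) (hK : Kf (f 2) ≤ M)
    (hCo : centralizer ({f 26} : Set G) ≤ M)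
    (hnm : ∀ m ∈ M, ∀ hm : m * f 2 = f 2 * m,
      ((D.perm hm : alternatingGroup (Fin 5)) : Equiv.Perm (Fin 5)) 4 = 4) : D.Bal := by
  by_cases hn : D.NT (f 26)
  · have H : CountHyp D M := ⟨D.no_fusion hU, hNU, hK, hCo, hnm, hU⟩
    obtain ⟨M₀, P⟩ := H.exists_half
    obtain ⟨X, _, _, π, hπ⟩ := D.exists_sec hU hn
    exact D.bal_of_balO (P.balO H hπ hn)
  · refine D.bal_of_not_NT hU fun a ha haU hNT => hn ?_
    obtain ⟨g, hg, -, e⟩ := D.conj_out ha haU D.o_mem_A D.o_not_U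
    exact e ▸ D.NT_conj hg hNT

end Setup

end Cfsg.Agent.J2Core
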