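import Cfsg.Agent.Lib.J2Core.CountPairs

/-!
The equation between the number of central involutions commuting with the outside representative and the number
of their pairs with product of odd order.
-/

set_option autoImplicit false
set_option linter.style.haveILetI false
set_option linter.unusedSectionVars false
set_option maxRecDepth 20000

namespace Cfsg.Agent.J2Core

open Subgroup
open Cfsg.Agent.J2Type
open Cfsg.Agent.ClosedAbelian (TwoEl mem_of_sq_mem odd_orderOf_of_mem)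

/-- The label pairs whose product squares to the centre. -/
def crossList : List (ℕ × ℕ) :=
  (List.range 128).flatMap fun i =>
    ((List.range 128).filter fun j =>
      inA i && !uc i && inB j && !uc j && Nat.beq (mulN (mulN i j) (mulN i j)) 2).map fun j => (i, j)

theorem crossList_facts : crossList.length = 48 ∧ crossList.Nodup := by decide +kernel

theorem mem_crossList {i j : ℕ} : (i, j) ∈ crossList ↔ i < 128 ∧ j < 128 ∧ inA i = true ∧ uc i = false ∧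
    inB j = true ∧ uc j = false ∧ mulN (mulN i j) (mulN i j) = 2 := by
  simp only [crossList, List.mem_flatMap, List.mem_map, List.mem_filter, List.mem_range, Prod.mk.injEq,
    Bool.and_eq_true, Bool.not_eq_true', Nat.beq_eq]
  constructor
  · rintro ⟨a, ha, b, ⟨hb, ⟨⟨⟨h1, h2⟩, h3⟩, h4⟩, h5⟩, rfl, rfl⟩
    exact ⟨ha, hb, h1, h2, h3, h4, h5⟩
  · rintro ⟨hi, hj, h1, h2, h3, h4, h5⟩
    exact ⟨i, hi, j, ⟨hj, ⟨⟨⟨h1, h2⟩, h3⟩, h4⟩, h5⟩, rfl, rfl⟩

universe u

variable {G : Type u} [Group G] [Finite G]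

/-- Central-type involutions commuting with the outside representative. -/
def zco (M₀ : Subgroup G) (f : ℕ → G) : Set G := {x | x ∈ cls M₀ (f 2) ∧ x * f 26 = f 26 * x}

/-- Their pairs with product of odd order. -/
def zcoPairs (M₀ : Subgroup G) (f : ℕ → G) : Set (G × G) :=
  {p | p.1 ∈ zco M₀ f ∧ p.2 ∈ zco M₀ f ∧ Odd (orderOf (p.1 * p.2))}

/-- The congruence class of a label inside a class. -/
def near (M₀ : Subgroup G) (f : ℕ → G) (c a : G) : Set G :=
  {x | x ∈ cls M₀ c ∧ x * f 2 = f 2 * x ∧ x * a⁻¹ ∈ Kf (f 2)}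

variable {f : ℕ → G} {D : Setup f} {M M₀ : Subgroup G}

namespace Half

variable (H : CountHyp D M) (P : Half D M M₀)
include H P

theorem near_conj {c a g : G} (hg : g ∈ M₀) (hgz : g * f 2 = f 2 * g) {x : G} (hx : x ∈ near M₀ f c a) :
    g * x * g⁻¹ ∈ near M₀ f c (g * a * g⁻¹) := by
  refine ⟨cls_conj hg hx.1, ?_, ?_⟩
  · exact (((show Commute g (f 2) from hgz).mul_left hx.2.1).mul_left
      (show Commute g (f 2) from hgz).inv_left).eq
  · rw [show g * x * g⁻¹ * (g * a * g⁻¹)⁻¹ = g * (x * a⁻¹) * g⁻¹ by group]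
    exact Setup.C_norm_K hgz hx.2.2

theorem near_const {a : G} (ha : a ∈ D.A) (haU : a ∉ D.U) :
    (near M₀ f (f 26) a).ncard = (near M₀ f (f 26) (f 26)).ncard := by
  obtain ⟨g, hg, hfix, e⟩ := D.conj_out D.o_mem_A D.o_not_U ha haU
  have hg0 := P.nA hg
  symm
  refine Set.ncard_congr (fun x _ => g * x * g⁻¹) (fun x hx => e ▸ P.near_conj H hg0 hfix.1 hx)
    (fun x y _ _ h => (conj_inj_iff g).1 h) fun y hy => ⟨g⁻¹ * y * g, ?_, by group⟩
  have h1 := P.near_conj H (inv_mem hg0) (show Commute g (f 2) from hfix.1).inv_left.eq hy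
  rwa [inv_inv, show g⁻¹ * a * g = f 26 by rw [← e]; group] at h1

theorem q_move {x : G} : f 5 * (f 5 * x * (f 5)⁻¹) * (f 5)⁻¹ = x := by
  rw [show f 5 * (f 5 * x * (f 5)⁻¹) * (f 5)⁻¹ = (f 5 * f 5) * x * (f 5 * f 5)⁻¹ by group, D.q_sq]
  group

theorem q_near {c a x : G} (hx : x ∈ near M₀ f c a) :
    f 5 * x * (f 5)⁻¹ ∈ near M₀ f (f 5 * c * (f 5)⁻¹) (f 5 * a * (f 5)⁻¹) := by
  have hqz := D.lab_comm (show 5 < 128 by omega)
  refine ⟨P.q_cls H hx.1, (((show Commute (f 5) (f 2) from hqz).mul_left hx.2.1).mul_left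
      (show Commute (f 5) (f 2) from hqz).inv_left).eq, ?_⟩
  rw [show f 5 * x * (f 5)⁻¹ * (f 5 * a * (f 5)⁻¹)⁻¹ = f 5 * (x * a⁻¹) * (f 5)⁻¹ by group]
  exact Setup.C_norm_K hqz hx.2.2

theorem near_B {b : G} (hb : b ∈ D.B) (hbU : b ∉ D.U) :
    (near M₀ f (f 5 * f 26 * (f 5)⁻¹) b).ncard = (near M₀ f (f 26) (f 26)).ncard := by
  have hb' : f 5 * b * (f 5)⁻¹ ∉ D.U := fun h => hbU (by
    have h1 := conj_mem_normalizer (D.range_norm_U (D.emb.apply_mem (show 5 < 128 by omega))) h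
    rwa [P.q_move H] at h1)
  rw [← P.near_const H (D.q_B hb) hb']
  refine Set.ncard_congr (fun x _ => f 5 * x * (f 5)⁻¹) (fun x hx => ?_)
    (fun x y _ _ h => (conj_inj_iff (f 5)).1 h) fun y hy => ⟨f 5 * y * (f 5)⁻¹, ?_, P.q_move H⟩
  · have := P.q_near H hx
    rwa [P.q_move H] at this
  · have := P.q_near H hy
    rwa [P.q_move H] at this

theorem outA_card : ({a | a ∈ D.A ∧ a ∉ D.U} : Set G).ncard = 12 := by
  rw [show {a | a ∈ D.A ∧ a ∉ D.U} = (D.A : Set G) \ (D.U : Set G) from Set.ext fun _ => Iff.rfl,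
    Set.ncard_sdiff (show (D.U : Set G) ⊆ D.A from D.U_le_A) (Set.toFinite _), ← Nat.card_coe_set_eq,
    ← Nat.card_coe_set_eq]
  show Nat.card D.A - Nat.card D.U = 12
  rw [D.card_A, D.card_U]

theorem cent_z_card :
    ({x | x ∈ cls M₀ (f 26) ∧ x * f 2 = f 2 * x} : Set G).ncard = 12 * (near M₀ f (f 26) (f 26)).ncard := by
  classical
  let lab : G → G := fun x => if h : ∃ a ∈ D.A, a ∉ D.U ∧ x * a⁻¹ ∈ Kf (f 2) then h.choose else 1
  rw [← P.outA_card H]
  refine ncard_fibre (φ := lab) (fun x hx => ?_) fun a ha => ?_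
  · have h := P.label_one H hx.1 hx.2
    simp only [lab, dif_pos h]
    exact ⟨h.choose_spec.1, h.choose_spec.2.1⟩
  · rw [← P.near_const H ha.1 ha.2]
    congr 1
    ext x
    constructor
    · rintro ⟨hx, hl⟩
      have h := P.label_one H hx.1 hx.2
      simp only [lab, dif_pos h] at hl
      exact ⟨hx.1, hx.2, hl ▸ h.choose_spec.2.2⟩
    · intro hx
      refine ⟨⟨hx.1, hx.2.1⟩, ?_⟩
      have h := P.label_one H hx.1 hx.2.1
      simp only [lab, dif_pos h]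
      obtain ⟨i, hi, -, ei⟩ := h.choose_spec.1
      obtain ⟨j, hj, -, ej⟩ := ha.1
      have h1 : i = j := P.label_unique H (x := x) hi hj (by rw [ei]; exact h.choose_spec.2.2)
        (by rw [ej]; exact hx.2.2)
      rw [← ei, ← ej, h1]

theorem mid_label {x y : G} {i j : ℕ} (hi : i < 128) (hj : j < 128) (pi : inA i = true) (ni : uc i = false)
    (pj : inB j = true) (nj : uc j = false) (hx : x ∈ near M₀ f (f 26) (f i))
    (hy : y ∈ near M₀ f (f 5 * f 26 * (f 5)⁻¹) (f j)) :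
    mid x y = f 2 ↔ mulN (mulN i j) (mulN i j) = 2 := by
  obtain ⟨-, hsU, hs1⟩ := cross i hi j hj pi ni pj nj
  have hxy : x * y * f 2 = f 2 * (x * y) := ((show Commute x (f 2) from hx.2.1).mul_left hy.2.1).eq
  have hg : x * y * (f (mulN i j))⁻¹ ∈ Kf (f 2) := by
    rw [D.emb.hom i j hi hj, show x * y * (f i * f j)⁻¹ = x * (y * (f j)⁻¹) * x⁻¹ * (x * (f i)⁻¹) by group]
    exact mul_mem (Setup.C_norm_K hx.2.1 hy.2.2) hx.2.2
  set v := mulN i j
  have hv : v < 128 := mulN_lt _ _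
  have hvv : f v ^ 2 = f (mulN v v) := by rw [pow_two, D.emb.hom v v hv hv]
  haveI : Fact (Nat.Prime 2) := ⟨Nat.prime_two⟩
  have ho : orderOf (f v) = 2 * 2 := by
    refine orderOf_eq_prime_pow (n := 1) (p := 2) ?_ ?_
    · rw [pow_one, hvv]
      exact fun e => hs1 ((D.emb.eq_one_iff (mulN_lt _ _)).1 e)
    · rw [show (2 : ℕ) ^ (1 + 1) = 2 * 2 from rfl, pow_mul, hvv, pow_two]
      exact D.A_mul_self (D.U_le_A ((D.f_mem_U (mulN_lt _ _)).2 hsU))
  have h5 := D.pi_mid hxy hv hg ho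
  rw [hvv] at h5
  constructor
  · intro e
    rw [show (x * y) ^ (orderOf (x * y) / 2) = f 2 from e] at h5
    exact P.label_unique H (x := f 2) (mulN_lt _ _) (by omega) h5 (by rw [mul_inv_cancel]; exact one_mem _)
  · intro e
    rw [e] at h5
    obtain ⟨hne, hcl⟩ := P.mid_O1_O2 H hx.1 hy.1
    have hz2 := Invol.mul_self (P.z_two H)
    have ht : Commute (mid x y) (f 2)⁻¹ :=
      ((show Commute (x * y) (f 2) from hxy).pow_left _).inv_right
    refine mul_inv_eq_one.1 ((ClosedAbelian.twoEl_of_sq ?_).eq_one_of_odd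
      (odd_orderOf_of_mem (ClosedAbelian.core_odd _) h5))
    show mid x y * (f 2)⁻¹ * (mid x y * (f 2)⁻¹) = 1
    rw [mul_assoc, ← mul_assoc (f 2)⁻¹, ← ht.eq, ← mul_assoc, ← mul_assoc,
      Invol.mul_self (P.order_two H (P.z_two H) hcl), one_mul, ← _root_.mul_inv_rev, hz2, inv_one]

theorem cross_card :
    ({p | p.1 ∈ cls M₀ (f 26) ∧ p.2 ∈ cls M₀ (f 5 * f 26 * (f 5)⁻¹) ∧ mid p.1 p.2 = f 2} : Set (G × G)).ncard =
      48 * ((near M₀ f (f 26) (f 26)).ncard * (near M₀ f (f 26) (f 26)).ncard) := by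
  classical
  let LP : Set (G × G) := (fun p => (f p.1, f p.2)) '' (crossList.toFinset : Set (ℕ × ℕ))
  have hLP : LP.ncard = 48 := by
    rw [Set.InjOn.ncard_image, Set.ncard_coe_finset, List.toFinset_card_of_nodup crossList_facts.2]
    · exact crossList_facts.1
    · rintro ⟨i, j⟩ hp ⟨k, l⟩ hq e
      rw [Finset.mem_coe, List.mem_toFinset, mem_crossList] at hp hq
      simp only [Prod.mk.injEq] at e
      rw [D.emb.inj i k hp.1 hq.1 e.1, D.emb.inj j l hp.2.1 hq.2.1 e.2]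
  have hlab : ∀ p : G × G, p.1 ∈ cls M₀ (f 26) → p.2 ∈ cls M₀ (f 5 * f 26 * (f 5)⁻¹) →
      mid p.1 p.2 = f 2 → ∃ l ∈ LP, p.1 ∈ near M₀ f (f 26) l.1 ∧ p.2 ∈ near M₀ f (f 5 * f 26 * (f 5)⁻¹) l.2 := by
    rintro ⟨x, y⟩ hx hy e
    obtain ⟨hne, -⟩ := P.mid_O1_O2 H hx hy
    obtain ⟨-, hxz, hyz⟩ := mid_spec (P.order_two H (P.o_two H) hx)
      (P.order_two H (by rw [Invol.order_conj, P.o_two H]) hy) hne
    rw [e] at hxz hyz
    obtain ⟨a, ha, haU, hxa⟩ := P.label_one H hx hxz.symm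
    have hqz := D.lab_comm (show 5 < 128 by omega)
    obtain ⟨c, hc, hcU, hyc⟩ := P.label_one H (P.q_cls' H hy)
      (((show Commute (f 5) (f 2) from hqz).mul_left hyz.symm).mul_left
        (show Commute (f 5) (f 2) from hqz).inv_left).eq
    obtain ⟨i, hi, pi, rfl⟩ := ha
    have hb : f 5 * c * (f 5)⁻¹ ∈ D.B := D.q_A hc
    have hbU : f 5 * c * (f 5)⁻¹ ∉ D.U := fun h => hcU (by
      have h1 := conj_mem_normalizer (D.range_norm_U (D.emb.apply_mem (show 5 < 128 by omega))) h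
      rwa [P.q_move H] at h1)
    have hyn : y ∈ near M₀ f (f 5 * f 26 * (f 5)⁻¹) (f 5 * c * (f 5)⁻¹) := by
      refine ⟨hy, hyz.symm, ?_⟩
      have h1 := Setup.C_norm_K hqz hyc
      rwa [show f 5 * (f 5 * y * (f 5)⁻¹ * c⁻¹) * (f 5)⁻¹ =
        f 5 * (f 5 * y * (f 5)⁻¹) * (f 5)⁻¹ * (f 5 * c * (f 5)⁻¹)⁻¹ by group, P.q_move H] at h1
    obtain ⟨j, hj, pj, ej⟩ := hb
    have ni : uc i = false := by rw [← Bool.not_eq_true, ← D.f_mem_U hi]; exact haU
    have nj : uc j = false := by rw [← Bool.not_eq_true, ← D.f_mem_U hj, ej]; exact hbU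
    have hxn : x ∈ near M₀ f (f 26) (f i) := ⟨hx, hxz.symm, hxa⟩
    rw [← ej] at hyn
    refine ⟨(f i, f j), ⟨(i, j), ?_, rfl⟩, hxn, hyn⟩
    rw [Finset.mem_coe, List.mem_toFinset, mem_crossList]
    exact ⟨hi, hj, pi, ni, pj, nj, (P.mid_label H hi hj pi ni pj nj hxn hyn).1 e⟩
  let φ : G × G → G × G := fun p =>
    if h : ∃ l ∈ LP, p.1 ∈ near M₀ f (f 26) l.1 ∧ p.2 ∈ near M₀ f (f 5 * f 26 * (f 5)⁻¹) l.2 then h.choose
    else 1
  rw [← hLP]
  refine ncard_fibre (φ := φ) (fun p hp => ?_) fun l hl => ?_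
  · have h := hlab p hp.1 hp.2.1 hp.2.2
    simp only [φ, dif_pos h]
    exact h.choose_spec.1
  obtain ⟨⟨i, j⟩, hij, rfl⟩ := hl
  rw [Finset.mem_coe, List.mem_toFinset, mem_crossList] at hij
  obtain ⟨hi, hj, pi, ni, pj, nj, hsq⟩ := hij
  have haU : f i ∉ D.U := by rw [D.f_mem_U hi, ni]; exact Bool.false_ne_true
  have hbU : f j ∉ D.U := by rw [D.f_mem_U hj, nj]; exact Bool.false_ne_true
  conv_rhs => rw [← P.near_const H ((D.f_mem_A hi).2 pi) haU]; arg 2; rw [P.near_const H ((D.f_mem_A hi).2 pi) haU, ← P.near_B H ((D.f_mem_B hj).2 pj) hbU]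
  rw [← Set.ncard_prod]
  congr 1
  ext ⟨x, y⟩
  constructor
  · rintro ⟨⟨hx, hy, e⟩, hl⟩
    have h := hlab (x, y) hx hy e
    simp only [φ, dif_pos h] at hl
    have hs := h.choose_spec.2
    rw [hl] at hs
    exact hs
  · rintro ⟨hx, hy⟩
    have e := (P.mid_label H hi hj pi ni pj nj hx hy).2 hsq
    refine ⟨⟨hx.1, hy.1, e⟩, ?_⟩
    have h := hlab (x, y) hx.1 hy.1 e
    simp only [φ, dif_pos h]
    obtain ⟨⟨k, m⟩, hkm, ekm⟩ := h.choose_spec.1
    rw [Finset.mem_coe, List.mem_toFinset, mem_crossList] at hkm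
    rw [← ekm]
    obtain ⟨hs1, hs2⟩ := h.choose_spec.2
    rw [← ekm] at hs1 hs2
    rw [P.label_unique H (x := x) hkm.1 hi hs1.2.2 hx.2.2, P.label_unique H (x := y) hkm.2.1 hj hs2.2.2 hy.2.2]

set_option maxHeartbeats 1000000 in
/-- The equation. -/
theorem count_eq : (zco M₀ f).ncard ^ 2 = 3 * (zcoPairs M₀ f).ncard := by
  classical
  set Z := cls M₀ (f 2) with hZ
  set O1 := cls M₀ (f 26) with hO1
  set O2 := cls M₀ (f 5 * f 26 * (f 5)⁻¹) with hO2
  set e := (near M₀ f (f 26) (f 26)).ncard with he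
  have hO12 : O2.ncard = O1.ncard := by
    symm
    refine Set.ncard_congr (fun x _ => f 5 * x * (f 5)⁻¹) (fun x hx => P.q_cls H hx)
      (fun x y _ _ h => (conj_inj_iff (f 5)).1 h) fun y hy => ⟨f 5 * y * (f 5)⁻¹, P.q_cls' H hy, P.q_move H⟩
  have h2 : O1.ncard * O1.ncard = Z.ncard * (48 * (e * e)) := by
    have h : (O1 ×ˢ O2).ncard = Z.ncard * (48 * (e * e)) := by
      refine ncard_fibre (φ := fun p => mid p.1 p.2) (fun p hp => (P.mid_O1_O2 H hp.1 hp.2).2) fun b hb => ?_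
      obtain ⟨g, hg, rfl⟩ := hb
      rw [ncard_fibre_conj (s := O1 ×ˢ O2) (φ := fun p => mid p.1 p.2) (g := g)
        (fun p hp => ⟨cls_conj hg hp.1, cls_conj hg hp.2⟩)
        (fun p hp => ⟨cls_conj (inv_mem hg) hp.1, cls_conj (inv_mem hg) hp.2⟩) (fun p => mid_conj g p.1 p.2),
        ← P.cross_card H]
      congr 1
      ext p
      exact and_assoc
    rwa [Set.ncard_prod, hO12] at h
  have h1 : O1.ncard * Z.ncard = O1.ncard * (zcoPairs M₀ f).ncard := by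
    rw [← Set.ncard_prod]
    refine ncard_fibre (φ := fun p => mid p.1 p.2) (fun p hp => (P.mid_Z_O1 H hp.1 hp.2).2) fun b hb => ?_
    obtain ⟨g, hg, rfl⟩ := hb
    rw [ncard_fibre_conj (s := O1 ×ˢ Z) (φ := fun p => mid p.1 p.2) (g := g)
      (fun p hp => ⟨cls_conj hg hp.1, cls_conj hg hp.2⟩)
      (fun p hp => ⟨cls_conj (inv_mem hg) hp.1, cls_conj (inv_mem hg) hp.2⟩) (fun p => mid_conj g p.1 p.2)]
    have hoo : f 26 * f 26 = 1 := D.A_mul_self D.o_mem_A
    refine Set.ncard_congr (fun p _ => (p.1 * f 26, p.2)) ?_ ?_ ?_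
    · rintro ⟨x, y⟩ ⟨⟨hx, hy⟩, em⟩
      simp only at em
      change x ∈ O1 at hx
      change y ∈ Z at hy
      obtain ⟨hne, -⟩ := P.mid_Z_O1 H hx hy
      have hx2 := P.order_two H (P.o_two H) hx
      have hy2 := P.order_two H (P.z_two H) hy
      obtain ⟨-, hxo, hyo⟩ := mid_spec hx2 hy2 hne
      rw [em] at hxo hyo
      obtain ⟨m, hm⟩ := even_iff_two_dvd.1 (Nat.not_odd_iff_even.1 hne)
      have hgo : x * y * f 26 = f 26 * (x * y) := ((show Commute x (f 26) from hxo.symm).mul_left hyo.symm).eq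
      have hmodd : Odd m := by
        rw [← Nat.not_even_iff_odd]
        rintro ⟨d, rfl⟩
        exact P.cent_o_order H hgo ⟨d, by omega⟩
      have em' : (x * y) ^ m = f 26 := by
        rw [← em, mid, hm, Nat.mul_div_cancel_left _ two_pos]
      have hodd : Odd (orderOf (x * f 26 * y)) := by
        refine hmodd.of_dvd_nat (orderOf_dvd_of_pow_eq_one ?_)
        rw [show x * f 26 * y = x * y * f 26 by rw [mul_assoc, ← hyo.symm, ← mul_assoc],
          (show Commute (x * y) (f 26) from hgo).mul_pow, em']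
        obtain ⟨j, rfl⟩ := hmodd
        rw [pow_succ, pow_mul, pow_two, hoo, one_pow, one_mul, hoo]
      have hxo1 : x * f 26 ≠ 1 := fun h => by
        rw [h, one_mul, hy2] at hodd
        exact absurd hodd (by decide)
      have hxo2 : orderOf (x * f 26) = 2 := Invol.order_two_of_sq (by
        rw [mul_assoc, ← mul_assoc (f 26), hxo, mul_assoc, hoo, mul_one, Invol.mul_self hx2]) hxo1
      have hx0 := P.mem_M₀ H (D.A_le_W D.o_mem_A) hx
      have hy0 := P.mem_M₀ H (D.A_le_W (D.U_le_A D.z_mem_U)) hy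
      have ho0 : f 26 ∈ M₀ := P.W_le (D.A_le_W D.o_mem_A)
      obtain ⟨d, hd, ed⟩ := Invol.conj_of_odd hxo2 hy2 hodd
      have hd0 : d ∈ M₀ := (closure_le M₀).2
        (by rintro _ (rfl | rfl) <;> first | exact mul_mem hx0 ho0 | exact hy0) hd
      refine ⟨⟨cls_trans hd0 (ed.symm ▸ hy), ?_⟩, ⟨hy, hyo.symm⟩, hodd⟩
      exact ((show Commute x (f 26) from hxo.symm).mul_left (Commute.refl _)).eq
    · rintro ⟨x, y⟩ ⟨x', y'⟩ _ _ h
      simp only [Prod.mk.injEq] at h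
      rw [mul_right_cancel h.1, h.2]
    · rintro ⟨x, y⟩ ⟨hx, hy, hodd⟩
      simp only at hx hy hodd
      have hx2 := P.order_two H (P.z_two H) hx.1
      refine ⟨(x * f 26, y), ⟨⟨?_, hy.1⟩, ?_⟩, by simp only [mul_assoc, hoo, mul_one]⟩
      · obtain ⟨c, hc, hcA⟩ := P.cent_o_invol H hx.2 hx2
        have hc0 := P.cO hc
        refine cls_trans hc0 ?_
        have hco : c * f 26 * c⁻¹ = f 26 := by
          rw [mem_centralizer_singleton_iff.1 hc, mul_inv_cancel_right]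
        rw [show c * (x * f 26) * c⁻¹ = c * x * c⁻¹ * (c * f 26 * c⁻¹) by group, hco]
        have hU : c * x * c⁻¹ ∈ D.U := by
          by_contra hU
          exact P.ne_Z_O1 H (cls_conj hc0 hx.1) (P.A_cls H hcA hU)
        refine P.A_cls H (mul_mem hcA D.o_mem_A) fun h => D.o_not_U ?_
        have := mul_mem (inv_mem hU) h
        rwa [inv_mul_cancel_left] at this
      · show mid (x * f 26) y = f 26
        have hc : Commute (x * y) (f 26) := (show Commute x (f 26) from hx.2).mul_left hy.2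
        have e : x * f 26 * y = x * y * f 26 := by rw [mul_assoc, ← hy.2, ← mul_assoc]
        have hcop : (orderOf (x * y)).Coprime (orderOf (f 26)) := by
          rw [P.o_two H]; exact Nat.coprime_two_right.2 hodd
        rw [mid, e, hc.orderOf_mul_eq_mul_orderOf_of_coprime hcop, P.o_two H, Nat.mul_div_cancel _ two_pos,
          hc.mul_pow, pow_orderOf_eq_one, one_mul]
        obtain ⟨j, hj⟩ := hodd
        rw [hj, pow_succ, pow_mul, pow_two, hoo, one_pow, one_mul]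
  set P3 : Set (G × G) := {p | p.1 ∈ O1 ∧ p.2 ∈ Z ∧ p.1 * p.2 = p.2 * p.1}
  have hP3 : ∀ g ∈ M₀, ∀ p ∈ P3, cp g p ∈ P3 := fun g hg p hp =>
    ⟨cls_conj hg hp.1, cls_conj hg hp.2.1, Emb.conj_comm g hp.2.2⟩
  have h31 : P3.ncard = O1.ncard * (zco M₀ f).ncard := by
    refine ncard_fibre (φ := Prod.fst) (fun p hp => hp.1) fun b hb => ?_
    obtain ⟨g, hg, rfl⟩ := hb
    rw [ncard_fibre_conj (φ := Prod.fst) (hP3 g hg) (hP3 _ (inv_mem hg)) (fun p => rfl)]
    refine Set.ncard_congr (fun p _ => p.2) ?_ ?_ ?_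
    · rintro ⟨x, y⟩ ⟨⟨-, hy, hc⟩, rfl⟩
      exact ⟨hy, hc.symm⟩
    · rintro ⟨x, y⟩ ⟨x', y'⟩ ⟨-, h⟩ ⟨-, h'⟩ e
      exact Prod.ext (h.trans h'.symm) e
    · rintro y ⟨hy, hc⟩
      exact ⟨(f 26, y), ⟨⟨cls_self _, hy, hc.symm⟩, rfl⟩, rfl⟩
  have h32 : P3.ncard = Z.ncard * (12 * e) := by
    refine ncard_fibre (φ := Prod.snd) (fun p hp => hp.2.1) fun b hb => ?_
    obtain ⟨g, hg, rfl⟩ := hb
    rw [ncard_fibre_conj (φ := Prod.snd) (hP3 g hg) (hP3 _ (inv_mem hg)) (fun p => rfl), he, ← P.cent_z_card H]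
    refine Set.ncard_congr (fun p _ => p.1) ?_ ?_ ?_
    · rintro ⟨x, y⟩ ⟨⟨hx, -, hc⟩, rfl⟩
      exact ⟨hx, hc⟩
    · rintro ⟨x, y⟩ ⟨x', y'⟩ ⟨-, h⟩ ⟨-, h'⟩ e'
      exact Prod.ext e' (h.trans h'.symm)
    · rintro x ⟨hx, hc⟩
      exact ⟨(x, f 2), ⟨⟨hx, cls_self _, hc⟩, rfl⟩, rfl⟩
  have hOpos : 0 < O1.ncard := (Set.ncard_pos (Set.toFinite _)).2 ⟨_, cls_self _⟩
  have hZeq : Z.ncard = (zcoPairs M₀ f).ncard := Nat.eq_of_mul_eq_mul_left hOpos h1
  rw [h31] at h32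
  refine Nat.eq_of_mul_eq_mul_left (Nat.mul_pos hOpos hOpos) ?_
  rw [← hZeq]
  calc O1.ncard * O1.ncard * (zco M₀ f).ncard ^ 2 = (O1.ncard * (zco M₀ f).ncard) ^ 2 := by ring
    _ = 3 * Z.ncard * (Z.ncard * (48 * (e * e))) := by rw [h32]; ring
    _ = O1.ncard * O1.ncard * (3 * Z.ncard) := by rw [← h2]; ring

end Half

end Cfsg.Agent.J2Core
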