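import Cfsg.Agent.Lib.J2Core.CountSign

/-!
Counting pairs of involutions in the subgroup of index two: the square of the number of central involutions
commuting with the outside representative is three times the number of their pairs with product of odd order.
-/

set_option autoImplicit false
set_option linter.style.haveILetI false
set_option linter.unusedSectionVars false
set_option maxRecDepth 20000

namespace Cfsg.Agent.J2Core

open Subgroup
open Cfsg.Agent.J2Type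
open Cfsg.Agent.J2Type.Cen (act4)
open Cfsg.Agent.ClosedAbelian (TwoEl mem_of_sq_mem odd_orderOf_of_mem)

universe u

variable {G : Type u} [Group G] [Finite G]

/-- The class of an element under a subgroup. -/
def cls (M₀ : Subgroup G) (a : G) : Set G := {x | ∃ m ∈ M₀, m * a * m⁻¹ = x}

/-- The involution of the cyclic group of a product. -/
noncomputable def mid (x y : G) : G := (x * y) ^ (orderOf (x * y) / 2)

/-- Conjugation of pairs. -/
def cp (g : G) (p : G × G) : G × G := (g * p.1 * g⁻¹, g * p.2 * g⁻¹)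

theorem mid_conj (g x y : G) : mid (g * x * g⁻¹) (g * y * g⁻¹) = g * mid x y * g⁻¹ := by
  rw [mid, mid, show g * x * g⁻¹ * (g * y * g⁻¹) = g * (x * y) * g⁻¹ by group, Invol.order_conj, _root_.conj_pow]

theorem mid_spec {x y : G} (hx : orderOf x = 2) (hy : orderOf y = 2) (he : ¬ Odd (orderOf (x * y))) :
    orderOf (mid x y) = 2 ∧ mid x y * x = x * mid x y ∧ mid x y * y = y * mid x y := by
  obtain ⟨k, hk⟩ := even_iff_two_dvd.1 (Nat.not_odd_iff_even.1 he)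
  have hpos := orderOf_pos (x * y)
  have hw : mid x y = (x * y) ^ k := by rw [mid, hk, Nat.mul_div_cancel_left _ two_pos]
  have hwo : orderOf ((x * y) ^ k) = 2 := by
    rw [orderOf_pow' _ (by omega), hk, Nat.gcd_mul_left_left, Nat.mul_div_cancel _ (by omega)]
  rw [hw]
  have hwx : (x * y) ^ k * x = x * (x * y) ^ k := by
    have h1 := Invol.conj_pow (Invol.conj_mul hx hy) k
    rw [Invol.inv_self hwo, mul_inv_eq_iff_eq_mul] at h1
    exact h1.symm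
  refine ⟨hwo, hwx, ?_⟩
  have h1 : Commute ((x * y) ^ k) (x⁻¹ * (x * y)) :=
    (show Commute ((x * y) ^ k) x from hwx).inv_right.mul_right ((Commute.refl (x * y)).pow_left k)
  rwa [inv_mul_cancel_left] at h1

theorem cls_conj {M₀ : Subgroup G} {a x g : G} (hg : g ∈ M₀) (hx : x ∈ cls M₀ a) : g * x * g⁻¹ ∈ cls M₀ a := by
  obtain ⟨m, hm, rfl⟩ := hx
  exact ⟨g * m, mul_mem hg hm, by group⟩

theorem cls_self {M₀ : Subgroup G} (a : G) : a ∈ cls M₀ a := ⟨1, one_mem _, by group⟩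

theorem cls_symm {M₀ : Subgroup G} {a x : G} (hx : x ∈ cls M₀ a) : ∃ m ∈ M₀, m * x * m⁻¹ = a := by
  obtain ⟨m, hm, rfl⟩ := hx
  exact ⟨m⁻¹, inv_mem hm, by group⟩

theorem cls_trans {M₀ : Subgroup G} {a x g : G} (hg : g ∈ M₀) (hx : g * x * g⁻¹ ∈ cls M₀ a) : x ∈ cls M₀ a := by
  have h := cls_conj (inv_mem hg) hx
  rwa [inv_inv, show g⁻¹ * (g * x * g⁻¹) * g = x by group] at h

theorem ncard_fibre {α β : Type*} [Finite α] [Finite β] {s : Set α} {t : Set β} {φ : α → β} {n : ℕ}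
    (hmaps : ∀ a ∈ s, φ a ∈ t) (hfib : ∀ b ∈ t, ({a ∈ s | φ a = b} : Set α).ncard = n) :
    s.ncard = t.ncard * n := by
  classical
  haveI := Fintype.ofFinite α
  haveI := Fintype.ofFinite β
  rw [Set.ncard_eq_toFinset_card' s, Finset.card_eq_sum_card_fiberwise (f := φ) (t := t.toFinset)
      (fun a ha => Set.mem_toFinset.2 (hmaps a (Set.mem_toFinset.1 ha))),
    Finset.sum_congr rfl fun b hb => ?_, Finset.sum_const, smul_eq_mul, ← Set.ncard_eq_toFinset_card']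
  rw [← hfib b (Set.mem_toFinset.1 hb), Set.ncard_eq_toFinset_card']
  congr 1
  ext a
  simp

theorem ncard_fibre_conj {s : Set (G × G)} {φ : G × G → G} {g : G} (hs : ∀ p ∈ s, cp g p ∈ s)
    (hs' : ∀ p ∈ s, cp g⁻¹ p ∈ s) (hφ : ∀ p, φ (cp g p) = g * φ p * g⁻¹) (b : G) :
    ({p ∈ s | φ p = g * b * g⁻¹} : Set (G × G)).ncard = ({p ∈ s | φ p = b} : Set (G × G)).ncard := by
  refine (Set.ncard_congr (s := {p ∈ s | φ p = b}) (t := {p ∈ s | φ p = g * b * g⁻¹})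
    (fun p _ => cp g p) (fun p hp => ⟨hs p hp.1, by rw [hφ, hp.2]⟩)
    (fun p q _ _ e => ?_) fun q hq => ?_).symm
  · simp only [cp, Prod.mk.injEq] at e
    exact Prod.ext ((conj_inj_iff g).1 e.1) ((conj_inj_iff g).1 e.2)
  · have e : cp g (cp g⁻¹ q) = q := by simp only [cp]; refine Prod.ext ?_ ?_ <;> group
    refine ⟨cp g⁻¹ q, ⟨hs' q hq.1, (conj_inj_iff g).1 ?_⟩, e⟩
    rw [← hφ, e, hq.2]

variable {f : ℕ → G} {D : Setup f} {M M₀ : Subgroup G}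

namespace Setup

theorem C_norm_K {g : G} (hg : g * f 2 = f 2 * g) {k : G} (hk : k ∈ Kf (f 2)) : g * k * g⁻¹ ∈ Kf (f 2) :=
  conj_mem_normalizer (ClosedAbelian.core_normalized _ (mem_centralizer_singleton_iff.2 hg)) hk

/-- The quotient by the core of the central centraliser. -/
theorem pi_mid (D : Setup f) {g : G} (hg : g * f 2 = f 2 * g) {w : ℕ} (hw : w < 128)
    (hgw : g * (f w)⁻¹ ∈ Kf (f 2)) {k : ℕ} (hk : orderOf (f w) = 2 * k) :
    g ^ (orderOf g / 2) * (f w ^ k)⁻¹ ∈ Kf (f 2) := by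
  set C := centralizer ({f 2} : Set G)
  set π := QuotientGroup.mk' (Cfsg.oddCore ↥C)
  have hK : ∀ y : ↥C, π y = 1 ↔ (y : G) ∈ Kf (f 2) := fun y => by
    rw [QuotientGroup.mk'_apply, QuotientGroup.eq_one_iff]
    exact ⟨fun h => ⟨y, h, rfl⟩, fun ⟨y', hy', e⟩ => Subtype.ext e ▸ hy'⟩
  have hwC : f w ∈ C := range_le_cz D.emb (D.emb.apply_mem hw)
  set g' : ↥C := ⟨g, mem_centralizer_singleton_iff.2 hg⟩
  set w' : ↥C := ⟨f w, hwC⟩
  have e1 : π g' = π w' := by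
    refine mul_inv_eq_one.1 ?_
    rw [← map_inv, ← map_mul, hK]
    exact hgw
  have how : orderOf (π w') = 2 * k := by
    rw [← hk]
    refine Nat.dvd_antisymm ((orderOf_map_dvd π w').trans (by rw [orderOf_mk])) ?_
    refine orderOf_dvd_of_pow_eq_one ((TwoEl.of_group D.emb.isPGroup_range
      (pow_mem (D.emb.apply_mem hw) _)).eq_one_of_odd ?_)
    refine odd_orderOf_of_mem (ClosedAbelian.core_odd C) ?_
    have h1 : π (w' ^ orderOf (π w')) = 1 := by rw [map_pow, pow_orderOf_eq_one]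
    exact (hK _).1 h1
  have hdvd : 2 * k ∣ orderOf g := by
    rw [← how, ← e1]
    exact (orderOf_map_dvd π g').trans (by rw [orderOf_mk])
  obtain ⟨m, hm⟩ := hdvd
  have hkpos : 0 < 2 * k := hk ▸ orderOf_pos _
  have hmodd : Odd m := by
    have h1 : π (g' ^ (2 * k)) = 1 := by rw [map_pow, e1, ← how, pow_orderOf_eq_one]
    have h2 : Odd (orderOf (g ^ (2 * k))) := odd_orderOf_of_mem (ClosedAbelian.core_odd _) ((hK _).1 h1)
    rwa [orderOf_pow' _ (by omega), hm, Nat.gcd_mul_right_left, Nat.mul_div_cancel_left _ hkpos] at h2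
  have h3 : π (g' ^ (orderOf g / 2)) = π (w' ^ k) := by
    obtain ⟨j, hj⟩ := hmodd
    rw [hm, mul_assoc, Nat.mul_div_cancel_left _ two_pos, map_pow, map_pow, e1, hj,
      show k * (2 * j + 1) = 2 * k * j + k by ring, pow_add, pow_mul (π w') (2 * k), ← how, pow_orderOf_eq_one,
      one_pow, one_mul]
  have h4 : π (g' ^ (orderOf g / 2) * (w' ^ k)⁻¹) = 1 := by rw [map_mul, map_inv, h3, mul_inv_cancel]
  exact (hK _).1 h4

end Setup

namespace Half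

variable (H : CountHyp D M) (P : Half D M M₀)
include H P

theorem U_cls {x : G} (hx : x ∈ D.U) (hx1 : x ≠ 1) : x ∈ cls M₀ (f 2) := by
  obtain ⟨g, hg, -, e⟩ := D.conj_U hx hx1
  exact ⟨g, P.nA hg, e⟩

theorem A_cls {x : G} (hx : x ∈ D.A) (hxU : x ∉ D.U) : x ∈ cls M₀ (f 26) := by
  obtain ⟨g, hg, -, e⟩ := D.conj_out D.o_mem_A D.o_not_U hx hxU
  exact ⟨g, P.nA hg, e⟩

theorem q_cls {a x : G} (hx : x ∈ cls M₀ a) : f 5 * x * (f 5)⁻¹ ∈ cls M₀ (f 5 * a * (f 5)⁻¹) := by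
  obtain ⟨m, hm, rfl⟩ := hx
  exact ⟨_, P.q_norm m hm, by group⟩

theorem q_cls' {a x : G} (hx : x ∈ cls M₀ (f 5 * a * (f 5)⁻¹)) : f 5 * x * (f 5)⁻¹ ∈ cls M₀ a := by
  have h := P.q_cls H hx
  have hq : (f 5)⁻¹ = f 5 := inv_eq_of_mul_eq_one_right D.q_sq
  rwa [show f 5 * (f 5 * a * (f 5)⁻¹) * (f 5)⁻¹ = (f 5 * f 5) * a * (f 5 * f 5)⁻¹ by group, D.q_sq, one_mul,
    inv_one, mul_one] at h

theorem B_cls {x : G} (hx : x ∈ D.B) (hxU : x ∉ D.U) : x ∈ cls M₀ (f 5 * f 26 * (f 5)⁻¹) := by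
  have hqq := D.q_sq
  have e : f 5 * (f 5 * x * (f 5)⁻¹) * (f 5)⁻¹ = x := by
    rw [show f 5 * (f 5 * x * (f 5)⁻¹) * (f 5)⁻¹ = (f 5 * f 5) * x * (f 5 * f 5)⁻¹ by group, hqq]; group
  rw [← e]
  refine P.q_cls H (P.A_cls H (D.q_B hx) fun h => hxU ?_)
  rw [← e]
  exact conj_mem_normalizer (D.range_norm_U (D.emb.apply_mem (show 5 < 128 by omega))) h

theorem ne_Z_O1 {x : G} (h1 : x ∈ cls M₀ (f 2)) (h2 : x ∈ cls M₀ (f 26)) : False := by
  obtain ⟨m, -, e⟩ := h1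
  obtain ⟨n, -, e'⟩ := h2
  exact H.cl (m⁻¹ * n) (by rw [show m⁻¹ * n * f 26 * (m⁻¹ * n)⁻¹ = m⁻¹ * (n * f 26 * n⁻¹) * m by group, e', ← e]; group)

theorem ne_Z_O2 {x : G} (h1 : x ∈ cls M₀ (f 2)) (h2 : x ∈ cls M₀ (f 5 * f 26 * (f 5)⁻¹)) : False := by
  obtain ⟨m, -, e⟩ := h1
  obtain ⟨n, -, e'⟩ := h2
  refine H.cl (m⁻¹ * (n * f 5)) ?_
  rw [show m⁻¹ * (n * f 5) * f 26 * (m⁻¹ * (n * f 5))⁻¹ = m⁻¹ * (n * (f 5 * f 26 * (f 5)⁻¹) * n⁻¹) * m by group,
    e', ← e]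
  group

theorem ne_O1_O2 {x : G} (h1 : x ∈ cls M₀ (f 26)) (h2 : x ∈ cls M₀ (f 5 * f 26 * (f 5)⁻¹)) : False := by
  obtain ⟨m, hm, e⟩ := h1
  obtain ⟨n, hn, e'⟩ := h2
  refine P.q_out ?_
  have hc : (f 5)⁻¹ * n⁻¹ * m ∈ centralizer ({f 26} : Set G) := by
    rw [mem_centralizer_singleton_iff, ← mul_inv_eq_iff_eq_mul,
      show (f 5)⁻¹ * n⁻¹ * m * f 26 * ((f 5)⁻¹ * n⁻¹ * m)⁻¹ = (f 5)⁻¹ * (n⁻¹ * (m * f 26 * m⁻¹) * n) * f 5 by group,
      e, ← e']
    group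
  rw [show f 5 = n⁻¹ * m * ((f 5)⁻¹ * n⁻¹ * m)⁻¹ by group]
  exact mul_mem (mul_mem (inv_mem hn) hm) (inv_mem (P.cO hc))

theorem order_two {a x : G} (ha : orderOf a = 2) (hx : x ∈ cls M₀ a) : orderOf x = 2 := by
  obtain ⟨m, -, rfl⟩ := hx
  rw [Invol.order_conj, ha]

theorem z_two : orderOf (f 2) = 2 :=
  Invol.order_two_of_sq ((D.emb.sq_one_iff (by omega)).2 u_facts.2.2.1) fun e =>
    absurd ((D.emb.eq_one_iff (by omega)).1 e) (by omega)

theorem o_two : orderOf (f 26) = 2 :=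
  Invol.order_two_of_sq (D.A_mul_self D.o_mem_A) fun e => absurd ((D.emb.eq_one_iff (by omega)).1 e) (by omega)

theorem mem_M₀ {a x : G} (ha : a ∈ D.W) (hx : x ∈ cls M₀ a) : x ∈ M₀ := by
  obtain ⟨m, hm, rfl⟩ := hx
  exact mul_mem (mul_mem hm (P.W_le ha)) (inv_mem hm)

theorem W_cases {w : G} (hw : w ∈ D.W) (hw2 : orderOf w = 2) :
    (w ∈ D.U ∧ w ∈ cls M₀ (f 2)) ∨ (w ∈ D.A ∧ w ∉ D.U ∧ w ∈ cls M₀ (f 26)) ∨
      (w ∈ D.B ∧ w ∉ D.U ∧ w ∈ cls M₀ (f 5 * f 26 * (f 5)⁻¹)) := by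
  by_cases hwU : w ∈ D.U
  · exact Or.inl ⟨hwU, P.U_cls H hwU (Invol.ne_one hw2)⟩
  obtain ⟨a, ha, pa, rfl⟩ := hw
  rcases invol_inW a ha ((D.emb.sq_one_iff ha).1 (Invol.mul_self hw2)) pa with h | h
  · exact Or.inr (Or.inl ⟨(D.f_mem_A ha).2 h, hwU, P.A_cls H ((D.f_mem_A ha).2 h) hwU⟩)
  · exact Or.inr (Or.inr ⟨(D.f_mem_B ha).2 h, hwU, P.B_cls H ((D.f_mem_B ha).2 h) hwU⟩)

theorem invol_cases {t : G} (ht : t ∈ M₀) (ht2 : orderOf t = 2) :
    t ∈ cls M₀ (f 2) ∨ t ∈ cls M₀ (f 26) ∨ t ∈ cls M₀ (f 5 * f 26 * (f 5)⁻¹) := by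
  haveI : Fact (Nat.Prime 2) := ⟨Nat.prime_two⟩
  obtain ⟨c, hc, hcW⟩ := P.conj_W (zpowers t) (ClosedAbelian.twoEl_of_sq (Invol.mul_self ht2)).isPGroup
    (zpowers_le.2 ht)
  rcases P.W_cases H (hcW t (mem_zpowers t)) (by rw [Invol.order_conj, ht2]) with h | h | h
  exacts [Or.inl (cls_trans hc h.2), Or.inr (Or.inl (cls_trans hc h.2.2)),
    Or.inr (Or.inr (cls_trans hc h.2.2))]

theorem cent_o_invol {t : G} (ht : t * f 26 = f 26 * t) (ht2 : orderOf t = 2) :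
    ∃ c ∈ centralizer ({f 26} : Set G), c * t * c⁻¹ ∈ D.A := by
  haveI : Fact (Nat.Prime 2) := ⟨Nat.prime_two⟩
  obtain ⟨c, hc, hcA⟩ := H.sylow_A (ClosedAbelian.twoEl_of_sq (Invol.mul_self ht2)).isPGroup
    (zpowers_le.2 (mem_centralizer_singleton_iff.2 ht))
  exact ⟨c, hc, hcA t (mem_zpowers t)⟩

/-- The two outer classes never commute. -/
theorem not_comm {x y : G} (hx : x ∈ cls M₀ (f 26)) (hy : y ∈ cls M₀ (f 5 * f 26 * (f 5)⁻¹)) : y * x ≠ x * y := by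
  intro hcom
  have hy2 : orderOf y = 2 := P.order_two H (by rw [Invol.order_conj, P.o_two H]) hy
  obtain ⟨m, hm, e⟩ := cls_symm hx
  have hy' := cls_conj hm hy
  have h1 : m * y * m⁻¹ * f 26 = f 26 * (m * y * m⁻¹) := by rw [← e]; exact Emb.conj_comm m hcom
  obtain ⟨c, hc, hcA⟩ := P.cent_o_invol H h1 (by rw [Invol.order_conj, hy2])
  have h2 := cls_conj (P.cO hc) hy'
  by_cases hU : c * (m * y * m⁻¹) * c⁻¹ ∈ D.U
  · exact P.ne_Z_O2 H (P.U_cls H hU fun e' => Invol.ne_one hy2 (conj_eq_one_iff.1 (conj_eq_one_iff.1 e'))) h2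
  · exact P.ne_O1_O2 H (P.A_cls H hcA hU) h2

theorem cent_o_order {g : G} (hg : g * f 26 = f 26 * g) : ¬ 4 ∣ orderOf g := by
  haveI : Fact (Nat.Prime 2) := ⟨Nat.prime_two⟩
  rintro ⟨d, hd⟩
  have hdpos : 0 < d := by have := orderOf_pos g; omega
  have ho : orderOf (g ^ d) = 4 := by
    rw [orderOf_pow' _ (by omega), hd, Nat.gcd_mul_left_left, Nat.mul_div_cancel _ hdpos]
  obtain ⟨c, -, hcA⟩ := H.sylow_A (T := zpowers (g ^ d))
    (IsPGroup.of_card (n := 2) (p := 2) (by rw [Nat.card_zpowers, ho]; norm_num))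
    (zpowers_le.2 (pow_mem (mem_centralizer_singleton_iff.2 hg) d))
  have h1 := D.A_mul_self (hcA _ (mem_zpowers _))
  rw [show c * g ^ d * c⁻¹ * (c * g ^ d * c⁻¹) = c * (g ^ d * g ^ d) * c⁻¹ by group, conj_eq_one_iff,
    ← pow_two] at h1
  have h2 := orderOf_dvd_of_pow_eq_one h1
  rw [ho] at h2
  omega

/-- In the central centraliser an involution is conjugate by the core into the centraliser of the second
centre. -/
theorem K_conj_W {x : G} (hx : x ∈ M₀) (hx2 : orderOf x = 2) (hxz : x * f 2 = f 2 * x) :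
    ∃ w ∈ D.W, orderOf w = 2 ∧ x * w⁻¹ ∈ Kf (f 2) ∧ ∃ k ∈ Kf (f 2), k ∈ M₀ ∧ k * x * k⁻¹ = w := by
  have h4 := H.fix x (P.le hx) hxz
  have hsq : D.perm hxz * D.perm hxz = 1 := by
    rw [← D.perm_mul hxz hxz (by rw [Invol.mul_self hx2]; simp),
      D.perm_congr (Invol.mul_self hx2) _ (show (1 : G) * f 2 = f 2 * 1 by simp)]
    exact (D.perm_eq_one _).2 ⟨1, one_mem _, 0, by omega, q_mem.1, by rw [D.emb.one, one_mul]⟩
  obtain ⟨b, hb, -, eb⟩ := D.exists_A_perm ((five_stab (D.perm hxz) _ h4).2 hsq)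
  have hbc := D.lab_comm hb
  have hxb : x * (f b)⁻¹ * f 2 = f 2 * (x * (f b)⁻¹) :=
    ((show Commute x (f 2) from hxz).mul_left (show Commute (f b) (f 2) from hbc).inv_left).eq
  have h1 : D.perm hxb = 1 := by
    rw [show D.perm hxb = D.perm hxz * (D.perm hbc)⁻¹ by
      show D.bar _ = D.bar _ * (D.bar _)⁻¹
      rw [← map_inv, ← map_mul]; rfl, eb, mul_inv_cancel]
  obtain ⟨k, hk, c, hc, -, e⟩ := (D.perm_eq_one hxb).1 h1
  have hodd := fun y (hy : y ∈ Kf (f 2)) => odd_orderOf_of_mem (ClosedAbelian.core_odd _) hy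
  have hK₀ : ∀ y ∈ Kf (f 2), y ∈ M₀ := fun y hy => P.odd_mem y (H.core hy) (hodd y hy)
  set v := mulN c b
  have hv : v < 128 := mulN_lt _ _
  have ev : x = k * f v := by
    rw [D.emb.hom c b hc hb, ← mul_assoc, ← e, inv_mul_cancel_right]
  have hwS : f v ∈ D.emb.range := D.emb.apply_mem hv
  have hwM₀ : f v ∈ M₀ := by
    rw [show f v = k⁻¹ * x by rw [ev]; group]
    exact mul_mem (inv_mem (hK₀ k hk)) hx
  have hwW : f v ∈ D.W := by
    by_contra hout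
    rw [D.f_mem_W hv, Bool.not_eq_true] at hout
    have h2 := P.W_le ((D.f_mem_W (mulN_lt v 5)).2 ((out_q v hv).1 hout))
    rw [D.emb.hom v 5 hv (by omega)] at h2
    refine P.q_out ?_
    rw [show f 5 = (f v)⁻¹ * (f v * f 5) by group]
    exact mul_mem (inv_mem hwM₀) h2
  have hwc := D.lab_comm hv
  have hmem : f v * f v ∈ Kf (f 2) := by
    have h3 : k * (f v * k * (f v)⁻¹) * (f v * f v) = 1 := by
      rw [← Invol.mul_self hx2, ev]; group
    rw [eq_inv_of_mul_eq_one_right h3]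
    exact inv_mem (mul_mem hk (Setup.C_norm_K hwc hk))
  have hw2' : f v * f v = 1 :=
    (TwoEl.of_group D.emb.isPGroup_range (mul_mem hwS hwS)).eq_one_of_odd (hodd _ hmem)
  have hxw : x * f v = k := by rw [ev, mul_assoc, hw2', mul_one]
  have hwne : f v ≠ 1 := fun e' => by
    have h3 : Odd (orderOf x) := hodd x (by rw [ev, e', mul_one]; exact hk)
    rw [hx2] at h3
    exact absurd h3 (by decide)
  have hw2 := Invol.order_two_of_sq hw2' hwne
  refine ⟨f v, hwW, hw2, by rw [Invol.inv_self hw2, hxw]; exact hk, ?_⟩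
  have ho : Odd (orderOf (x * f v)) := hxw.symm ▸ hodd k hk
  obtain ⟨m, hm⟩ := ho
  refine ⟨(x * f v) ^ (m : ℤ), ?_, ?_, ?_⟩
  · rw [hxw]; exact zpow_mem hk _
  · rw [hxw]; exact zpow_mem (hK₀ k hk) _
  · rw [Invol.zpow_mul_conj (Invol.conj_mul hx2 hw2)]
    conv_rhs => rw [Invol.y_eq hx2 hw2]
    congr 1
    have h1 : (x * f v) ^ (2 * (m : ℤ) + 1) = 1 := by
      have := pow_orderOf_eq_one (x * f v)
      rw [hm, ← zpow_natCast] at this
      push_cast at this; exact this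
    rw [zpow_add, zpow_one] at h1
    rw [zpow_neg_one]
    exact mul_eq_one_iff_eq_inv.mp h1

/-- The congruence class of a label in the first outer class. -/
theorem label_one {x : G} (hx : x ∈ cls M₀ (f 26)) (hxz : x * f 2 = f 2 * x) :
    ∃ a ∈ D.A, a ∉ D.U ∧ x * a⁻¹ ∈ Kf (f 2) := by
  obtain ⟨w, hw, hw2, hxw, k, -, hk, e⟩ :=
    P.K_conj_W H (P.mem_M₀ H (D.A_le_W D.o_mem_A) hx) (P.order_two H (P.o_two H) hx) hxz
  have hw1 : w ∈ cls M₀ (f 26) := e ▸ cls_conj hk hx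
  rcases P.W_cases H hw hw2 with h | h | h
  · exact (P.ne_Z_O1 H h.2 hw1).elim
  · exact ⟨w, h.1, h.2.1, hxw⟩
  · exact (P.ne_O1_O2 H hw1 h.2.2).elim

theorem label_Z {x : G} (hx : x ∈ cls M₀ (f 2)) (hxz : x * f 2 = f 2 * x) :
    ∃ a ∈ D.U, x * a⁻¹ ∈ Kf (f 2) := by
  obtain ⟨w, hw, hw2, hxw, k, -, hk, e⟩ :=
    P.K_conj_W H (P.mem_M₀ H (D.A_le_W (D.U_le_A D.z_mem_U)) hx) (P.order_two H (P.z_two H) hx) hxz
  have hw1 : w ∈ cls M₀ (f 2) := e ▸ cls_conj hk hx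
  rcases P.W_cases H hw hw2 with h | h | h
  · exact ⟨w, h.1, hxw⟩
  · exact (P.ne_Z_O1 H hw1 h.2.2).elim
  · exact (P.ne_Z_O2 H hw1 h.2.2).elim

theorem label_unique {x : G} {a b : ℕ} (ha : a < 128) (hb : b < 128) (h1 : x * (f a)⁻¹ ∈ Kf (f 2))
    (h2 : x * (f b)⁻¹ ∈ Kf (f 2)) : a = b :=
  D.core_label ha hb (one_mem _) (mul_mem (inv_mem h1) h2) (by group)

theorem mid_Z_O1 {x y : G} (hx : x ∈ cls M₀ (f 26)) (hy : y ∈ cls M₀ (f 2)) :
    ¬ Odd (orderOf (x * y)) ∧ mid x y ∈ cls M₀ (f 26) := by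
  have hx2 := P.order_two H (P.o_two H) hx
  have hy2 := P.order_two H (P.z_two H) hy
  have hx0 := P.mem_M₀ H (D.A_le_W D.o_mem_A) hx
  have hy0 := P.mem_M₀ H (D.A_le_W (D.U_le_A D.z_mem_U)) hy
  have hne : ¬ Odd (orderOf (x * y)) := fun ho => by
    obtain ⟨d, hd, e⟩ := Invol.conj_of_odd hx2 hy2 ho
    have hd0 : d ∈ M₀ := (closure_le M₀).2 (by rintro _ (rfl | rfl) <;> assumption) hd
    exact P.ne_Z_O1 H hy (e ▸ cls_conj hd0 hx)
  obtain ⟨ht2, htx, hty⟩ := mid_spec hx2 hy2 hne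
  have ht0 : mid x y ∈ M₀ := pow_mem (mul_mem hx0 hy0) _
  refine ⟨hne, ?_⟩
  rcases P.invol_cases H ht0 ht2 with h | h | h
  · exfalso
    obtain ⟨m, hm, e⟩ := cls_symm h
    rw [← mid_conj] at e
    set x' := m * x * m⁻¹
    set y' := m * y * m⁻¹
    have hx' : x' ∈ cls M₀ (f 26) := cls_conj hm hx
    have hy' : y' ∈ cls M₀ (f 2) := cls_conj hm hy
    have hne' : ¬ Odd (orderOf (x' * y')) := by
      rw [show x' * y' = m * (x * y) * m⁻¹ by simp only [x', y']; group, Invol.order_conj]; exact hne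
    obtain ⟨-, hx'z, hy'z⟩ := mid_spec (P.order_two H (P.o_two H) hx') (P.order_two H (P.z_two H) hy') hne'
    rw [e] at hx'z hy'z
    obtain ⟨a, ha, haU, hxa⟩ := P.label_one H hx' hx'z.symm
    obtain ⟨v, hv, hyv⟩ := P.label_Z H hy' hy'z.symm
    obtain ⟨i, hi, pi, rfl⟩ := ha
    obtain ⟨j, hj, pj, rfl⟩ := hv
    have hg : x' * y' * (f (mulN i j))⁻¹ ∈ Kf (f 2) := by
      rw [D.emb.hom i j hi hj, show x' * y' * (f i * f j)⁻¹ = x' * (y' * (f j)⁻¹) * x'⁻¹ * (x' * (f i)⁻¹) by group]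
      exact mul_mem (Setup.C_norm_K hx'z.symm hyv) hxa
    have hu : f i * f j ∈ D.A := mul_mem ((D.f_mem_A hi).2 pi) (D.U_le_A ((D.f_mem_U hj).2 pj))
    have huU : f i * f j ∉ D.U := fun h' => haU (by
      have := mul_mem h' (inv_mem ((D.f_mem_U hj).2 pj)); rwa [mul_inv_cancel_right] at this)
    have ho : orderOf (f (mulN i j)) = 2 * 1 := by
      rw [D.emb.hom i j hi hj]
      exact Invol.order_two_of_sq (D.A_mul_self hu) fun e' => huU (e' ▸ one_mem _)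
    have h5 := D.pi_mid ((show Commute x' (f 2) from hx'z.symm).mul_left hy'z.symm).eq (mulN_lt _ _) hg ho
    rw [show (x' * y') ^ (orderOf (x' * y') / 2) = f 2 from e, pow_one] at h5
    have h6 : 2 = mulN i j := P.label_unique H (x := f 2) (by omega) (mulN_lt _ _)
      (by rw [mul_inv_cancel]; exact one_mem _) h5
    exact huU (by rw [← D.emb.hom i j hi hj, ← h6]; exact D.z_mem_U)
  · exact h
  · exact (P.not_comm H hx h htx).elim

theorem mid_O1_O2 {x y : G} (hx : x ∈ cls M₀ (f 26)) (hy : y ∈ cls M₀ (f 5 * f 26 * (f 5)⁻¹)) :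
    ¬ Odd (orderOf (x * y)) ∧ mid x y ∈ cls M₀ (f 2) := by
  have hx2 := P.order_two H (P.o_two H) hx
  have hy2 : orderOf y = 2 := P.order_two H (by rw [Invol.order_conj, P.o_two H]) hy
  have hx0 := P.mem_M₀ H (D.A_le_W D.o_mem_A) hx
  have hy0 := P.mem_M₀ H (D.B_le_W (D.q_A D.o_mem_A)) hy
  have hne : ¬ Odd (orderOf (x * y)) := fun ho => by
    obtain ⟨d, hd, e⟩ := Invol.conj_of_odd hx2 hy2 ho
    have hd0 : d ∈ M₀ := (closure_le M₀).2 (by rintro _ (rfl | rfl) <;> assumption) hd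
    exact P.ne_O1_O2 H (e ▸ cls_conj hd0 hx) hy
  obtain ⟨ht2, htx, hty⟩ := mid_spec hx2 hy2 hne
  refine ⟨hne, ?_⟩
  rcases P.invol_cases H (pow_mem (mul_mem hx0 hy0) _ : mid x y ∈ M₀) ht2 with h | h | h
  · exact h
  · exact (P.not_comm H h hy hty.symm).elim
  · exact (P.not_comm H hx h htx).elim

end Half

end Cfsg.Agent.J2Core
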