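import Cfsg.Agent.Lib.J2Core.Fus
import Cfsg.Agent.Lib.Transfer.SignThompson

/-!
The subgroup of index two in an overgroup of the normaliser of the second centre in which a point stabiliser
condition holds.
-/

set_option autoImplicit false
set_option linter.style.haveILetI false
set_option linter.unusedSectionVars false
set_option maxRecDepth 20000

namespace Cfsg.Agent.J2Core

open Subgroup
open Cfsg.Agent.J2Type
open Cfsg.Agent.ClosedAbelian (TwoEl mem_of_sq_mem)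

theorem uc_cj : ∀ s < 128, ∀ a < 128, uc a = true → uc (cj s a) = true := by decide +kernel

theorem out_q : ∀ s < 128, (inW s = false → inW (mulN s 5) = true) ∧ (inW s = true → inW (cj 5 s) = true) := by
  decide +kernel

theorem sq_invol : ∀ s < 128, mulN (mulN s s) (mulN s s) = 0 → uc (mulN s s) = true := by decide +kernel

theorem inW_count : ((List.range 128).countP inW) = 64 := by decide +kernel

theorem q_label : inW 5 = false ∧ mulN 5 2 ≠ 1 ∧ mulN 5 2 ≠ 8 ∧ mulN 8 2 = 1 ∧ uc (mulN 26 75) = false ∧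
    inA (mulN 26 75) = true := by decide +kernel

universe u

variable {G : Type u} [Group G] [Finite G] {f : ℕ → G}

/-- The hypotheses of the count on an overgroup. -/
structure CountHyp (D : Setup f) (M : Subgroup G) : Prop where
  cl : ∀ g : G, g * f 26 * g⁻¹ ≠ f 2
  nU : normalizer (D.U : Set G) ≤ M
  core : Kf (f 2) ≤ M
  cent : centralizer ({f 26} : Set G) ≤ M
  fix : ∀ m ∈ M, ∀ hm : m * f 2 = f 2 * m, ((D.perm hm : alternatingGroup (Fin 5)) : Equiv.Perm (Fin 5)) 4 = 4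
  stab : ∀ n ∈ normalizer (D.A : Set G), ∀ x ∈ D.A, x ∉ D.U → n * x * n⁻¹ ∉ D.U

/-- The facts on the subgroup of index two. -/
structure Half (D : Setup f) (M M₀ : Subgroup G) : Prop where
  le : M₀ ≤ M
  W_le : D.W ≤ M₀
  odd_mem : ∀ x ∈ M, Odd (orderOf x) → x ∈ M₀
  q_out : f 5 ∉ M₀
  q_norm : ∀ x ∈ M₀, f 5 * x * (f 5)⁻¹ ∈ M₀
  conj_W : ∀ T : Subgroup G, IsPGroup 2 T → T ≤ M₀ → ∃ c ∈ M₀, ∀ t ∈ T, c * t * c⁻¹ ∈ D.W
  nA : normalizer (D.A : Set G) ≤ M₀
  cO : centralizer ({f 26} : Set G) ≤ M₀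

namespace Setup

variable (D : Setup f)
include D

theorem card_W : Nat.card D.W = 64 := by
  rw [D.emb.card_subset D.W D.W_le inW fun a ha => D.f_mem_W ha]; exact inW_count

theorem range_norm_U : D.emb.range ≤ normalizer (D.U : Set G) := by
  rintro _ ⟨s, hs, rfl⟩
  refine SEBrick.mem_normalizer_of ?_
  rintro _ ⟨a, ha, pa, rfl⟩
  rw [← D.emb.conj hs ha, D.f_mem_U (show cj s a < 128 from mulN_lt _ _)]
  exact uc_cj s hs a ha pa

theorem q_conj_z : ∃ g : G, g * f 5 * g⁻¹ = f 2 := by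
  obtain ⟨g, -, e⟩ := D.emb.exists_fuse D.odd D.index_ne_two
  obtain ⟨k, -, -, ek⟩ := D.conj_U D.u_mem_U fun e' => absurd ((D.emb.eq_one_iff (by omega)).1 e') (by omega)
  refine ⟨k⁻¹ * g, ?_⟩
  rw [show k⁻¹ * g * f 5 * (k⁻¹ * g)⁻¹ = k⁻¹ * (g * f 5 * g⁻¹) * k by group, e, ← ek]
  group

end Setup

namespace CountHyp

variable {D : Setup f} {M : Subgroup G}

theorem nA_nU (H : CountHyp D M) : normalizer (D.A : Set G) ≤ normalizer (D.U : Set G) := by
  intro n hn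
  refine SEBrick.mem_normalizer_of fun x hx => by_contra fun hout => ?_
  refine H.stab n⁻¹ (inv_mem hn) _ (conj_mem_normalizer hn (D.U_le_A hx)) hout ?_
  rwa [show n⁻¹ * (n * x * n⁻¹) * n⁻¹⁻¹ = x by group]

theorem nA_le (H : CountHyp D M) : normalizer (D.A : Set G) ≤ M := H.nA_nU.trans H.nU

theorem range_le (H : CountHyp D M) : D.emb.range ≤ M := D.range_norm_U.trans H.nU

theorem sylow_A (H : CountHyp D M) {T : Subgroup G} (hT : IsPGroup 2 T)
    (hTC : T ≤ centralizer ({f 26} : Set G)) :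
    ∃ c ∈ centralizer ({f 26} : Set G), ∀ t ∈ T, c * t * c⁻¹ ∈ D.A := by
  haveI : Fact (Nat.Prime 2) := ⟨Nat.prime_two⟩
  obtain ⟨c, hc, R, hR2, hAR, hRC, hTR⟩ :=
    ClosedAbelian.exists_conj_over D.A_two (D.A_le_centralizer D.o_mem_A) hT hTC
  suffices h : R ≤ D.A from ⟨c, hc, fun t ht => h (hTR t ht)⟩
  by_contra hle
  haveI := hR2.isNilpotent
  have hlt : D.A.subgroupOf R < ⊤ := by
    rw [lt_top_iff_ne_top, Ne, subgroupOf_eq_top]; exact hle
  obtain ⟨t, ht, htA⟩ := SetLike.exists_of_lt (Group.normalizerCondition_of_isNilpotent _ hlt)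
  refine htA (mem_subgroupOf.2 (D.fix_out H.stab (D.mem_normalizer_A fun x hx => ?_)
    (TwoEl.of_group hR2 t.2) D.o_mem_A D.o_not_U (mem_centralizer_singleton_iff.1 (hRC t.2))))
  exact mem_subgroupOf.1 (((mem_normalizer_iff.1 ht) ⟨x, hAR hx⟩).1 (mem_subgroupOf.2 hx))

/-- The involution of the fused point is not fused into the centraliser of the second centre. -/
theorem q_not_conj (H : CountHyp D M) {m : G} (hm : m ∈ M) : m * f 5 * m⁻¹ ∉ D.W := by
  haveI : Fact (Nat.Prime 2) := ⟨Nat.prime_two⟩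
  intro hw
  set q := f 5
  have hq1 : q ≠ 1 := fun e => absurd ((D.emb.eq_one_iff (by omega)).1 e) (by omega)
  have hqq : q * q = 1 := D.q_sq
  have hqz : q ≠ f 2 := fun e => absurd (D.emb.inj 5 2 (by omega) (by omega) e) (by omega)
  obtain ⟨g0, hg0⟩ := D.q_conj_z
  have hA : ∀ (k : G), k * q * k⁻¹ ∈ D.A → k * q * k⁻¹ ∈ D.U := by
    intro k hk
    by_contra hU
    obtain ⟨g, -, -, e⟩ := D.conj_out hk hU D.o_mem_A D.o_not_U
    refine H.cl (g0 * (g * k)⁻¹) ?_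
    rw [← e, ← hg0]; simp only [q]; group
  have hwU : m * q * m⁻¹ ∈ D.U := by
    have hw' := hw
    obtain ⟨a, ha, pa, ea⟩ := hw'
    have haa : mulN a a = 0 := (D.emb.sq_one_iff ha).1 (by
      rw [ea, show m * q * m⁻¹ * (m * q * m⁻¹) = m * (q * q) * m⁻¹ by group, hqq]; group)
    rcases invol_inW a ha haa pa with h | h
    · exact hA m (ea ▸ (D.f_mem_A ha).2 h)
    · have h1 := D.q_B ((D.f_mem_B ha).2 h)
      rw [ea, show f 5 * (m * q * m⁻¹) * (f 5)⁻¹ = f 5 * m * q * (f 5 * m)⁻¹ by group] at h1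
      have h2 := conj_mem_normalizer (D.range_norm_U (D.emb.apply_mem (show 5 < 128 by omega))) (hA _ h1)
      rwa [show f 5 * (f 5 * m * q * (f 5 * m)⁻¹) * (f 5)⁻¹ = (f 5 * f 5) * (m * q * m⁻¹) * (f 5 * f 5)⁻¹
        by group, hqq, one_mul, inv_one, mul_one] at h2
  obtain ⟨g, hg, -, eg⟩ := D.conj_U hwU fun e => hq1 (conj_eq_one_iff.1 e)
  set m1 := g⁻¹ * m
  have hm1 : m1 ∈ M := mul_mem (inv_mem (H.nA_le hg)) hm
  have e1 : m1 * q * m1⁻¹ = f 2 := by
    rw [show m1 * q * m1⁻¹ = g⁻¹ * (m * q * m⁻¹) * g by simp only [m1]; group, ← eg]; group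
  obtain ⟨h35, -, h33, -, -⟩ := four_pair
  have h3q : f 3 * q = q * f 3 := (D.emb.commute_iff (by omega) (by omega)).2 h35
  have hS : D.emb.range ≤ centralizer ({f 2} : Set G) ⊓ M := le_inf (range_le_cz D.emb) H.range_le
  obtain ⟨S, hSe⟩ := D.emb.exists_sylow_range D.odd
  have h3two : IsPGroup 2 (zpowers (m1 * f 3 * m1⁻¹) : Subgroup G) :=
    ((TwoEl.of_group D.emb.isPGroup_range (D.emb.apply_mem (show 3 < 128 by omega))).conj m1).isPGroup
  obtain ⟨c, ⟨hcz, hcM⟩, hcle⟩ := SolvCores.exists_conj_le (S := S) (hSe.le.trans hS) h3two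
    (zpowers_le.2 ⟨mem_centralizer_singleton_iff.2 (by
      rw [← e1]; exact Emb.conj_comm m1 h3q), mul_mem (mul_mem hm1 (H.range_le (D.emb.apply_mem (by omega))))
        (inv_mem hm1 : m1⁻¹ ∈ M)⟩)
  rw [hSe] at hcle
  obtain ⟨s, hs, es⟩ := hcle ⟨_, mem_zpowers _, rfl⟩
  simp only [MulEquiv.coe_toMonoidHom, MulAut.conj_apply] at es
  have hcz' := mem_centralizer_singleton_iff.1 hcz
  have ess : f (mulN s s) = c * m1 * f 2 * (c * m1)⁻¹ := by
    rw [D.emb.hom s s hs hs, es, ← h33, D.emb.hom 3 3 (by omega) (by omega)]; group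
  have hssU : f (mulN s s) ∈ D.U := by
    refine (D.f_mem_U (mulN_lt _ _)).2 (sq_invol s hs ((D.emb.sq_one_iff (mulN_lt _ _)).1 ?_))
    rw [ess, show c * m1 * f 2 * (c * m1)⁻¹ * (c * m1 * f 2 * (c * m1)⁻¹) =
      c * m1 * (f 2 * f 2) * (c * m1)⁻¹ by group, (D.emb.sq_one_iff (by omega)).2 u_facts.2.2.1]
    group
  have hss1 : f (mulN s s) ≠ 1 := by
    rw [ess]; exact fun e => absurd ((D.emb.eq_one_iff (by omega)).1 (conj_eq_one_iff.1 e)) (by omega)
  obtain ⟨k, hk, -, ek⟩ := D.conj_U hssU hss1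
  set x := k⁻¹ * c * m1
  have hxM : x ∈ M := mul_mem (mul_mem (inv_mem (H.nA_le hk)) hcM) hm1
  have hxz : x * f 2 * x⁻¹ = f 2 := by
    rw [show x * f 2 * x⁻¹ = k⁻¹ * (c * m1 * f 2 * (c * m1)⁻¹) * k by simp only [x]; group, ← ess, ← ek]
    group
  have hxq : x * q * x⁻¹ = k⁻¹ * f 2 * k := by
    rw [show x * q * x⁻¹ = k⁻¹ * (c * (m1 * q * m1⁻¹) * c⁻¹) * k by simp only [x]; group, e1, hcz',
      mul_inv_cancel_right]
  have hxqU : x * q * x⁻¹ ∈ D.U := by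
    rw [hxq]; exact (mem_normalizer_iff''.1 (H.nA_nU hk) _).1 D.z_mem_U
  have hxc : x * f 2 = f 2 * x := mul_inv_eq_iff_eq_mul.1 hxz
  have hy : x⁻¹ * f 2 = f 2 * x⁻¹ := (show Commute x (f 2) from hxc).inv_left.eq
  obtain ⟨kk, hkk, e⟩ := (D.perm_four hy).1 (H.fix _ (inv_mem hxM) hy)
  rw [inv_inv] at e
  have h5 : (5 : ℕ) < 128 := by omega
  have key : ∀ (b : ℕ), b < 128 → b ≠ 1 → b ≠ 8 → x⁻¹ * f 1 * x = f b → False := by
    intro b hb h1 h8 eb
    rcases e with e | e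
    · exact h1 (D.core_label hb (show 1 < 128 by omega) (one_mem _) hkk (by rw [one_mul, ← eb, e]))
    · exact h8 (D.core_label hb (show 8 < 128 by omega) (one_mem _) hkk (by rw [one_mul, ← eb, e]))
  rcases D.U_cases hxqU with h | h | h | h
  · exact hq1 (conj_eq_one_iff.1 h)
  · exact hqz ((conj_inj_iff x).1 (h.trans hxz.symm))
  · exact key 5 h5 (by omega) (by omega) (by rw [← h]; simp only [q]; group)
  · refine key (mulN 5 2) (mulN_lt _ _) q_label.2.1 q_label.2.2.1 ?_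
    rw [← q_label.2.2.2.1, D.emb.hom 8 2 (by omega) (by omega), D.emb.hom 5 2 h5 (by omega), ← h]
    calc x⁻¹ * (x * q * x⁻¹ * f 2) * x = q * (x⁻¹ * f 2 * x) := by group
      _ = q * f 2 := by rw [hy, inv_mul_cancel_right]

/-- The subgroup of index two. -/
theorem exists_half (H : CountHyp D M) : ∃ M₀, Half D M M₀ := by
  classical
  haveI : Fact (Nat.Prime 2) := ⟨Nat.prime_two⟩
  have h5 : (5 : ℕ) < 128 := by omega
  have hS := H.range_le
  have hWS : D.W ≤ D.emb.range := D.W_le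
  have hqM : f 5 ∈ M := hS (D.emb.apply_mem h5)
  have hWM : D.W ≤ M := hWS.trans hS
  have hrel : D.W.relIndex D.emb.range = 2 := by
    have h1 := PBasic.card_mul_relIndex hWS
    rw [D.card_W, D.emb.card_range] at h1
    omega
  obtain ⟨m, hm⟩ : Odd (D.emb.range.relIndex M) := by
    rw [← Nat.not_even_iff_odd, even_iff_two_dvd]
    exact fun hd => D.odd (hd.trans (relIndex_dvd_index_of_le hS))
  obtain ⟨χ, hχ⟩ := SignThompson.exists_sign_hom (D.W.subgroupOf M) (⟨f 5, hqM⟩ : M) 0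
    (D.emb.range.relIndex M)
    (by
      rw [orderOf_mk]
      exact Invol.order_two_of_sq D.q_sq fun e => absurd ((D.emb.eq_one_iff h5).1 e) (by omega))
    (fun g hg => H.q_not_conj (inv_mem g.2) (by
      rw [inv_inv]
      simpa [mem_subgroupOf] using hg)) ⟨m, hm⟩
    (by
      rw [show (D.W.subgroupOf M).index = D.W.relIndex M from rfl, ← relIndex_mul_relIndex _ _ _ hWS hS,
        hrel]
      norm_num)
  let σ : G → ℤˣ := fun x => if hx : x ∈ M then χ ⟨x, hx⟩ else 1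
  have σdef : ∀ x (hx : x ∈ M), σ x = χ ⟨x, hx⟩ := fun x hx => dif_pos hx
  have σmul : ∀ x ∈ M, ∀ y ∈ M, σ (x * y) = σ x * σ y := fun x hx y hy => by
    rw [σdef x hx, σdef y hy, σdef _ (mul_mem hx hy), ← map_mul]; rfl
  have σconj : ∀ x ∈ M, ∀ g ∈ M, σ (g * x * g⁻¹) = σ x := fun x hx g hg => by
    rw [σdef x hx, σdef _ (mul_mem (mul_mem hg hx) (inv_mem hg)),
      show (⟨g * x * g⁻¹, mul_mem (mul_mem hg hx) (inv_mem hg)⟩ : M) = ⟨g, hg⟩ * ⟨x, hx⟩ * ⟨g, hg⟩⁻¹ from rfl,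
      map_mul, map_mul, map_inv, mul_comm (χ _), mul_inv_cancel_right]
  have σq : σ (f 5) = -1 := (σdef _ hqM).trans hχ
  have σone : ∀ d : ℤˣ, d * d = d → d = 1 := fun d h => mul_eq_left.1 h
  have hAM : D.A ≤ M := D.A_le_W.trans hWM
  have σU : ∀ x ∈ D.U, σ x = 1 := by
    have hc : ∀ x ∈ D.U, x ≠ 1 → σ x = σ (f 2) := fun x hx hx1 => by
      obtain ⟨g, hg, -, e⟩ := D.conj_U hx hx1
      rw [← e, σconj _ (hAM (D.U_le_A D.z_mem_U)) g (H.nA_le hg)]
    have hz : σ (f 2) = 1 := by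
      refine σone _ ?_
      have h1 : f 8 * f 2 = f 1 := by rw [← D.emb.hom 8 2 (by omega) (by omega), q_label.2.2.2.1]
      have h2 := σmul _ (hAM (D.U_le_A D.uz_mem_U)) _ (hAM (D.U_le_A D.z_mem_U))
      rw [h1, hc _ D.u_mem_U (fun e => absurd ((D.emb.eq_one_iff (by omega)).1 e) (by omega)),
        hc _ D.uz_mem_U (fun e => absurd ((D.emb.eq_one_iff (by omega)).1 e) (by omega))] at h2
      exact h2.symm
    intro x hx
    by_cases hx1 : x = 1
    · rw [hx1, σdef 1 (one_mem M)]; exact map_one χ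
    · rw [hc x hx hx1, hz]
  have σA : ∀ x ∈ D.A, σ x = 1 := by
    have hc : ∀ x ∈ D.A, x ∉ D.U → σ x = σ (f 26) := fun x hx hxU => by
      obtain ⟨g, hg, -, e⟩ := D.conj_out D.o_mem_A D.o_not_U hx hxU
      rw [← e, σconj _ (hAM D.o_mem_A) g (H.nA_le hg)]
    obtain ⟨h75, h75u, -, -, -⟩ := inA_pair
    have hA75 : f 75 ∈ D.A := (D.f_mem_A (by omega)).2 h75
    have h75' : f 75 ∉ D.U := by rw [D.f_mem_U (by omega), h75u]; exact Bool.false_ne_true
    have hP : f 26 * f 75 ∉ D.U := by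
      rw [← D.emb.hom 26 75 (by omega) (by omega), D.f_mem_U (mulN_lt _ _), q_label.2.2.2.2.1]
      exact Bool.false_ne_true
    have ho : σ (f 26) = 1 := by
      refine σone _ ?_
      have h2 := σmul _ (hAM D.o_mem_A) _ (hAM hA75)
      rw [hc _ (mul_mem D.o_mem_A hA75) hP, hc _ hA75 h75'] at h2
      exact h2.symm
    intro x hx
    by_cases hxU : x ∈ D.U
    · exact σU x hxU
    · rw [hc x hx hxU, ho]
  have σW : ∀ x ∈ D.W, σ x = 1 := by
    intro x hx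
    obtain ⟨a, ha, b, hb, rfl⟩ := D.W_split hx
    rw [σmul _ (hAM ha) _ (hWM (D.B_le_W hb)), σA a ha, one_mul,
      ← σconj _ (hWM (D.B_le_W hb)) _ hqM]
    exact σA _ (D.q_B hb)
  refine ⟨χ.ker.map M.subtype, ?_⟩
  have hmem : ∀ x, x ∈ χ.ker.map M.subtype ↔ x ∈ M ∧ σ x = 1 := by
    intro x
    constructor
    · rintro ⟨⟨y, hy⟩, h, rfl⟩
      exact ⟨hy, (σdef y hy).trans h⟩
    · rintro ⟨hx, h⟩
      exact ⟨⟨x, hx⟩, (σdef x hx).symm.trans h, rfl⟩
  have hodd : ∀ x ∈ M, Odd (orderOf x) → σ x = 1 := by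
    intro x hx ho
    rw [σdef x hx, ← orderOf_eq_one_iff]
    exact Nat.eq_one_of_dvd_coprimes (Nat.coprime_two_right.2 ho)
      ((orderOf_map_dvd χ _).trans (by rw [orderOf_mk]))
      (orderOf_dvd_of_pow_eq_one (by rw [pow_two, Int.units_mul_self]))
  refine ⟨map_subtype_le _, fun x hx => (hmem x).2 ⟨hWM hx, σW x hx⟩,
    fun x hx ho => (hmem x).2 ⟨hx, hodd x hx ho⟩, fun h => ?_,
    fun x hx => ?_, fun T hT hTM => ?_, ?_, ?_⟩
  · have := ((hmem _).1 h).2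
    rw [σq] at this
    exact absurd this (by decide)
  · obtain ⟨hxM, hx1⟩ := (hmem x).1 hx
    exact (hmem _).2 ⟨mul_mem (mul_mem hqM hxM) (inv_mem hqM), by rw [σconj x hxM _ hqM, hx1]⟩
  · obtain ⟨S, hSe⟩ := D.emb.exists_sylow_range D.odd
    obtain ⟨c, hcM, hcle⟩ := SolvCores.exists_conj_le (S := S) (hSe.le.trans hS) hT
      (hTM.trans (map_subtype_le _))
    rw [hSe] at hcle
    have hW : ∀ t ∈ T, c * t * c⁻¹ ∈ D.W := by
      intro t ht
      obtain ⟨s, hs, e⟩ := hcle ⟨t, ht, rfl⟩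
      simp only [MulEquiv.coe_toMonoidHom, MulAut.conj_apply] at e
      rw [← e]
      by_contra hout
      rw [D.f_mem_W hs, Bool.not_eq_true] at hout
      have h1 := σW _ ((D.f_mem_W (mulN_lt s 5)).2 ((out_q s hs).1 hout))
      obtain ⟨htM, ht1⟩ := (hmem t).1 (hTM ht)
      rw [D.emb.hom s 5 hs h5, σmul _ (hS (D.emb.apply_mem hs)) _ hqM, e, σconj t htM c hcM, ht1, σq,
        one_mul] at h1
      exact absurd h1 (by decide)
    rcases Int.units_eq_one_or (σ c) with h | h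
    · exact ⟨c, (hmem c).2 ⟨hcM, h⟩, hW⟩
    · refine ⟨f 5 * c, (hmem _).2 ⟨mul_mem hqM hcM, by rw [σmul _ hqM _ hcM, σq, h, Int.units_mul_self]⟩,
        fun t ht => ?_⟩
      obtain ⟨a, ha, pa, e⟩ := hW t ht
      rw [show f 5 * c * t * (f 5 * c)⁻¹ = f 5 * (c * t * c⁻¹) * (f 5)⁻¹ by group, ← e, ← D.emb.conj h5 ha,
        D.f_mem_W (show cj 5 a < 128 from mulN_lt _ _)]
      exact (out_q a ha).2 pa
  · intro n hn
    refine mem_of_parts (fun x hx h2 => ?_) fun x hx ho =>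
      (hmem x).2 ⟨zpowers_le.2 (H.nA_le hn) hx, hodd x (zpowers_le.2 (H.nA_le hn) hx) ho⟩
    have hxM := zpowers_le.2 (H.nA_le hn) hx
    obtain ⟨k, hk, hkW⟩ := D.exists_conj_W h2.isPGroup (zpowers_le.2 (zpowers_le.2 hn hx))
    exact (hmem x).2 ⟨hxM, by rw [← σconj x hxM k (H.nA_le hk)]; exact σW _ (hkW x (mem_zpowers x))⟩
  · intro n hn
    refine mem_of_parts (fun x hx h2 => ?_) fun x hx ho =>
      (hmem x).2 ⟨zpowers_le.2 (H.cent hn) hx, hodd x (zpowers_le.2 (H.cent hn) hx) ho⟩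
    have hxM := zpowers_le.2 (H.cent hn) hx
    obtain ⟨k, hk, hkA⟩ := H.sylow_A h2.isPGroup (zpowers_le.2 (zpowers_le.2 hn hx))
    exact (hmem x).2 ⟨hxM, by rw [← σconj x hxM k (H.cent hk)]; exact σA _ (hkA x (mem_zpowers x))⟩

end CountHyp

end Cfsg.Agent.J2Core
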