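import Cfsg.Agent.Lib.J2Core.Two
import Cfsg.Agent.Lib.Signalizer.Local
import Cfsg.Agent.Lib.Signalizer.SFT.Main

/-!
The unbalanced case: the cores enlarged by the core of the centraliser of the first subgroup are balanced on
four-groups, so they give a signalizer functor; inside its completion lies a subgroup normalised by every
centraliser of a hyperplane.
-/

set_option autoImplicit false
set_option linter.style.haveILetI false
set_option linter.unusedSectionVars false

namespace Cfsg.Agent.J2Core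

open Subgroup
open Cfsg.Agent.J2Type
open Cfsg.Agent.ClosedAbelian (TwoEl core mem_of_sq_mem odd_orderOf_of_mem)

universe u

variable {G : Type u} [Group G] [Finite G] {f : ℕ → G}

/-- The common part of the cores over a subgroup, centralising it. -/
def Rt (E : Subgroup G) : Subgroup G :=
  centralizer (E : Set G) ⊓ ⨅ c : {c : G // c ∈ E ∧ c ≠ 1}, Kf c.1

theorem Rt_le_cent {E : Subgroup G} : Rt E ≤ centralizer (E : Set G) := inf_le_left

theorem Rt_le {E : Subgroup G} {c : G} (hc : c ∈ E) (hc1 : c ≠ 1) : Rt E ≤ Kf c :=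
  inf_le_right.trans (iInf_le (fun a : {a : G // a ∈ E ∧ a ≠ 1} => Kf a.1) ⟨c, hc, hc1⟩)

/-- What centralises a subgroup normalises the common part. -/
theorem cent_le_normalizer_Rt {E : Subgroup G} : centralizer (E : Set G) ≤ normalizer (Rt E : Set G) := by
  intro x hx
  refine SEBrick.mem_normalizer_of fun y hy => mem_inf.2 ⟨mul_mem (mul_mem hx (mem_inf.1 hy).1) (inv_mem hx),
    mem_iInf.2 fun c => ?_⟩
  exact conj_mem_normalizer (Kf_normalized (mem_centralizer_iff.1 hx c.1 c.2.1).symm) (Rt_le c.2.1 c.2.2 hy)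

namespace Setup

variable (D : Setup f)
include D

/-- The enlarged core. -/
def KK (c : G) : Subgroup G := Kf c ⊔ core (centralizer (D.A : Set G))

/-- The intersection of the enlarged cores over a subgroup. -/
def Del (E : Subgroup G) : Subgroup G := ⨅ c : {c : G // c ∈ E ∧ c ≠ 1}, D.KK c.1

/-- The signalizer functor. -/
def theta (a : G) : Subgroup G :=
  ⨆ E : {E : Subgroup G // E ≤ D.A ∧ Nat.card E = 2 ^ 2}, D.Del E.1 ⊓ centralizer ({a} : Set G)

/-- The subgroup generated by the common parts over the hyperplanes. -/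
def NN : Subgroup G := ⨆ H : {H : Subgroup G // H ≤ D.A ∧ Nat.card H * 2 = Nat.card D.A}, Rt H.1

theorem coreA_le {c : G} (hc : c ∈ D.A) : core (centralizer (D.A : Set G)) ≤ centralizer ({c} : Set G) :=
  fun _ hx => mem_centralizer_singleton_iff.2 (mem_centralizer_iff.1 (ClosedAbelian.core_le _ hx) c hc).symm

theorem A_le_normalizer_coreA : D.A ≤ normalizer (core (centralizer (D.A : Set G)) : Set G) :=
  D.A_le_cA.trans (ClosedAbelian.core_normalized _)

theorem KK_le {c : G} (hc : c ∈ D.A) : D.KK c ≤ centralizer ({c} : Set G) :=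
  sup_le (ClosedAbelian.core_le _) (D.coreA_le hc)

theorem KK_odd {c : G} (hc : c ∈ D.A) : ¬ 2 ∣ Nat.card (D.KK c) := by
  rw [KK, sup_comm]
  exact ClosedAbelian.sup_core_odd (D.coreA_le hc) (ClosedAbelian.core_odd _)

theorem A_le_normalizer_KK {c : G} (hc : c ∈ D.A) : D.A ≤ normalizer (D.KK c : Set G) := fun _ hx =>
  Subgroup.normalizer_inf_normalizer_le_normalizer_sup _ _ (mem_inf.2 ⟨D.A_le_normalizer_Kf hc hx, D.A_le_normalizer_coreA hx⟩)

theorem KK_mem {c x : G} (hc : c ∈ D.A) (hx : x ∈ D.KK c) :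
    ∃ k ∈ Kf c, ∃ m ∈ core (centralizer (D.A : Set G)), x = k * m := by
  obtain ⟨k, hk, m, hm, e⟩ := (SolvBasic.mem_sup_iff_of_le_normalizer
    ((D.coreA_le hc).trans (ClosedAbelian.core_normalized _))).1 hx
  exact ⟨k, hk, m, hm, e⟩

/-- An inverted element of an enlarged core is in the core. -/
theorem inverted_mem {c s a : G} (hc : c ∈ D.A) (ha : a ∈ D.A) (hs : s ∈ D.KK c) (hinv : a * s * a⁻¹ = s⁻¹) :
    s ∈ Kf c := by
  obtain ⟨k, hk, m, hm, rfl⟩ := D.KK_mem hc hs
  refine mem_of_sq_mem ?_ (odd_orderOf_of_mem (D.KK_odd hc) hs)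
  have hma : a * m * a⁻¹ = m := by
    rw [mem_centralizer_iff.1 (ClosedAbelian.core_le _ hm) a ha, mul_inv_cancel_right]
  have h2 : (k * m) * (k * m) = k * (a * k * a⁻¹)⁻¹ := by
    have h1 : a * k * a⁻¹ * m = (k * m)⁻¹ := by
      rw [← hinv, show a * (k * m) * a⁻¹ = a * k * a⁻¹ * (a * m * a⁻¹) by group, hma]
    calc k * m * (k * m) = k * m * ((k * m)⁻¹)⁻¹ := by rw [inv_inv]
      _ = k * m * (a * k * a⁻¹ * m)⁻¹ := by rw [h1]
      _ = k * (a * k * a⁻¹)⁻¹ := by group
  rw [h2]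
  exact mul_mem hk (inv_mem (conj_mem_normalizer (D.A_le_normalizer_Kf hc ha) hk))

/-- Two involutions of one complement. -/
theorem same_le (hU : D.StabU) {b e : G} (hb : b ∈ D.A) (hbU : b ∉ D.U) (he : e ∈ D.Vof b) :
    Kf e ⊓ centralizer ({b} : Set G) ≤ Kf b := by
  set Y := Kf e ⊓ centralizer ({b} : Set G)
  have hN : Y ⊔ Kf b ≤ Kf b := by
    refine ClosedAbelian.le_core (sup_le inf_le_right (ClosedAbelian.core_le _)) (fun x hx => ?_)
      (ClosedAbelian.sup_core_odd inf_le_right (odd_of_le (ClosedAbelian.core_odd _) inf_le_left))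
    obtain ⟨k, hk, hkx⟩ := D.cent_split hU hb hbU (mem_centralizer_singleton_iff.1 hx)
    have hkb : k * x * b = b * (k * x) := (mem_centralizer_iff.1 hkx b (D.mem_Vof_self hb)).symm
    have hY : k * x ∈ normalizer (Y : Set G) := normalizer_inf_le
      (Kf_normalized (mem_centralizer_iff.1 hkx e he).symm) (mem_normalizer_cent hkb)
    have hK : k * x ∈ normalizer (Kf b : Set G) := Kf_normalized hkb
    rw [show x = k⁻¹ * (k * x) by group]
    exact mul_mem (inv_mem (le_normalizer (mem_sup_right hk)))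
      (Subgroup.normalizer_inf_normalizer_le_normalizer_sup _ _ (mem_inf.2 ⟨hY, hK⟩))
  exact le_sup_left.trans hN

theorem top_of_card {P Q : Subgroup G} (hP : P ≤ D.A) (hQ : Q ≤ D.A) (hd : P ⊓ Q = ⊥)
    (hc : 16 ≤ Nat.card P * Nat.card Q) : P ⊔ Q = D.A := by
  refine eq_of_le_of_card_ge (sup_le hP hQ) ?_
  rw [D.card_A, SolvBasic.card_sup_of_inf_eq_bot
    ((hQ.trans (Signalizer.ea_le_centralizer D.A_ea hP)).trans (centralizer_le_normalizer _)) hd]
  exact hc

variable (hU : D.StabU) (hNT : ∀ a ∈ D.A, a ∉ D.U → D.NT a)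
include hU hNT

/-- Balance on four-groups. -/
theorem bal2 {X E : Subgroup G} {b : G} (hb : b ∈ D.A) (hb1 : b ≠ 1) (hX : ¬ 2 ∣ Nat.card X)
    (hAX : D.A ≤ normalizer (X : Set G)) (hXb : X ≤ centralizer ({b} : Set G)) (hE : E ≤ D.A)
    (hE4 : 4 ≤ Nat.card E) (hXE : ∀ e ∈ E, e ≠ 1 → X ≤ D.KK e) : X ≤ D.KK b := by
  by_cases hbU : b ∈ D.U
  · exact (D.lemR_U hbU hb1 hX hXb hAX).trans le_sup_left
  have hV := D.Vof_le b
  by_cases hEV : E ⊓ D.Vof b = ⊥
  · have htop : E ⊔ D.Vof b = D.A := D.top_of_card hE hV hEV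
      (le_trans (by norm_num) (Nat.mul_le_mul hE4 (D.four_le_Vof hU hb hbU)))
    refine (le_sup_fixed D.A_two hX hAX (hXb.trans (ClosedAbelian.core_normalized _))
      (D.A_le_normalizer_Kf hb) fun a ha x hx => ?_).trans (sup_le_sup le_rfl ?_)
    · obtain ⟨e, he, v, hv, rfl⟩ := (SolvBasic.mem_sup_iff_of_le_normalizer
        ((hV.trans (Signalizer.ea_le_centralizer D.A_ea hE)).trans (centralizer_le_normalizer _))).1 (htop ▸ ha)
      have hex : e * x * e⁻¹ = x := by
        by_cases he1 : e = 1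
        · rw [he1]; group
        · rw [← mem_centralizer_singleton_iff.1 (D.KK_le (hE he) (hXE e he he1 hx)), mul_inv_cancel_right]
      have hc := inv_mem (D.Vof_central hU hb hbU hv (mem_centralizer_singleton_iff.1 (hXb hx)))
      have h := conj_mem_normalizer (D.A_le_normalizer_Kf hb (hE he)) hc
      rwa [show e * (x * v * x⁻¹ * v⁻¹)⁻¹ * e⁻¹ = e * v * x * (e * v)⁻¹ * (e * x * e⁻¹)⁻¹ by group, hex] at h
    · intro x hx
      exact D.odd_cA hx.2 (odd_orderOf_of_mem hX hx.1)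
  · obtain ⟨⟨e, he⟩, he1'⟩ := ne_bot_iff_exists_ne_one.1 hEV
    have he1 : e ≠ 1 := fun h => he1' (Subtype.ext h)
    intro x hx
    obtain ⟨k, hk, m, hm, rfl⟩ := D.KK_mem (hE he.1) (hXE e he.1 he1 hx)
    have hmb := D.coreA_le hb hm
    have hkb : k ∈ centralizer ({b} : Set G) := by
      rw [show k = k * m * m⁻¹ by group]
      exact mul_mem (hXb hx) (inv_mem hmb)
    exact mul_mem (mem_sup_left (D.same_le hU hb hbU he.2 ⟨hk, hkb⟩)) (mem_sup_right hm)

omit hU hNT in
theorem Del_le {E : Subgroup G} {c : G} (hc : c ∈ E) (hc1 : c ≠ 1) : D.Del E ≤ D.KK c :=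
  iInf_le (fun a : {a : G // a ∈ E ∧ a ≠ 1} => D.KK a.1) ⟨c, hc, hc1⟩

omit hU hNT in
theorem Del_anti {E F : Subgroup G} (h : E ≤ F) : D.Del F ≤ D.Del E :=
  le_iInf fun a => D.Del_le (h a.2.1) a.2.2

omit hU hNT in
theorem A_le_normalizer_Del {E : Subgroup G} (hE : E ≤ D.A) : D.A ≤ normalizer (D.Del E : Set G) :=
  (le_iInf fun d : {c : G // c ∈ E ∧ c ≠ 1} => D.A_le_normalizer_KK (hE d.2.1)).trans
    (Subgroup.iInf_normalizer_le_normalizer_iInf _)

omit hU hNT in
theorem A_le_normalizer_centralizer {b : G} (hb : b ∈ D.A) :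
    D.A ≤ normalizer ((centralizer ({b} : Set G) : Subgroup G) : Set G) :=
  (D.A_le_centralizer hb).trans le_normalizer

omit hU hNT in
theorem four_ne_bot {E : Subgroup G} (hE : 4 ≤ Nat.card E) : ∃ e ∈ E, e ≠ 1 := by
  by_contra h
  simp only [not_exists, not_and, not_not] at h
  rw [(eq_bot_iff_forall E).2 h, Subgroup.card_bot] at hE
  omega

theorem Del_cent_le {E : Subgroup G} (hE : E ≤ D.A) (hE4 : 4 ≤ Nat.card E) {b : G} (hb : b ∈ D.A) (hb1 : b ≠ 1) :
    D.Del E ⊓ centralizer ({b} : Set G) ≤ D.KK b := by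
  obtain ⟨e, he, he1⟩ := D.four_ne_bot hE4
  exact D.bal2 hU hNT hb hb1 (odd_of_le (D.KK_odd (hE he)) (inf_le_left.trans (D.Del_le he he1)))
    ((le_inf (D.A_le_normalizer_Del hE) (D.A_le_normalizer_centralizer hb)).trans
      Subgroup.inf_normalizer_le_normalizer_inf)
    inf_le_right hE hE4 fun e he he1 => inf_le_left.trans (D.Del_le he he1)

/-- The functor. -/
theorem theta_functor : Cfsg.IsSolvableSignalizerFunctor 2 D.A D.theta := by
  classical
  haveI : Fact (Nat.Prime 2) := ⟨Nat.prime_two⟩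
  have hA2 : 2 ^ 2 ≤ Nat.card D.A := by rw [D.card_A]; norm_num
  have hk' : ∀ E : Subgroup G, E ≤ D.A → Nat.card E = 2 ^ 2 → ∀ b ∈ D.A, b ≠ 1 →
      D.Del E ⊓ centralizer ({b} : Set G) ≤ D.KK b :=
    fun E hE hc b hb hb1 => D.Del_cent_le hU hNT hE (by rw [hc]; norm_num) hb hb1
  have hnC : ∀ E, E ≤ D.A → ∀ a ∈ D.A,
      D.A ≤ normalizer ((D.Del E ⊓ centralizer ({a} : Set G) : Subgroup G) : Set G) := fun E hE a ha =>
    (le_inf (D.A_le_normalizer_Del hE) (D.A_le_normalizer_centralizer ha)).trans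
      Subgroup.inf_normalizer_le_normalizer_inf
  have hθn : ∀ a ∈ D.A, D.A ≤ normalizer (D.theta a : Set G) := fun a ha =>
    (le_iInf fun E : {E : Subgroup G // E ≤ D.A ∧ Nat.card E = 2 ^ 2} => hnC E.1 E.2.1 a ha).trans
      (Subgroup.iInf_normalizer_le_normalizer_iSup _)
  have hle : ∀ a ∈ D.A, a ≠ 1 → D.theta a ≤ D.KK a :=
    fun a ha ha1 => iSup_le fun E => hk' E.1 E.2.1 E.2.2 a ha ha1
  have hodd : ∀ a ∈ D.A, a ≠ 1 → ¬ 2 ∣ Nat.card (D.theta a) := fun a ha ha1 =>
    odd_of_le (D.KK_odd ha) (hle a ha ha1)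
  refine ⟨⟨fun a _ _ => iSup_le fun E => inf_le_right, hodd,
    fun a ha _ b hb x hx => conj_mem_normalizer (hθn a ha hb) hx, fun a ha ha1 b hb hb1 => ?_⟩, fun a ha ha1 => ?_⟩
  swap
  · refine OddChar.oddSolvable _ ?_
    rw [← Nat.not_even_iff_odd, even_iff_two_dvd]
    exact hodd a ha ha1
  set K := D.KK a
  have hKp : ∀ X : Subgroup G, X ≤ K → ¬ 2 ∣ Nat.card X := fun X hX => odd_of_le (D.KK_odd ha) hX
  let I := {E : Subgroup G // E ≤ D.A ∧ Nat.card E * 2 = Nat.card D.A}
  have hsub : ∀ E F : I, ∃ X : Subgroup G, X ≤ (E : Subgroup G) ⊓ F ∧ Nat.card X = 2 ^ 2 := by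
    intro E F
    have hEc : Nat.card (E : Subgroup G) * 2 = 16 := E.2.2.trans D.card_A
    have hFc : Nat.card (F : Subgroup G) * 2 = 16 := F.2.2.trans D.card_A
    have hn : (F : Subgroup G) ≤ normalizer ((E : Subgroup G) : Set G) :=
      (F.2.1.trans (Signalizer.ea_le_centralizer D.A_ea E.2.1)).trans (centralizer_le_normalizer _)
    obtain ⟨n, hn⟩ := (D.A_two.to_le
      (inf_le_left.trans E.2.1 : (E : Subgroup G) ⊓ F ≤ D.A)).exists_card_eq
    have h4 : 2 ^ 2 ≤ Nat.card ↥((E : Subgroup G) ⊓ F) := by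
      have h1 := PBasic.card_mul_relIndex (inf_le_left : (E : Subgroup G) ⊓ F ≤ E)
      rw [Subgroup.inf_relIndex_left] at h1
      have h2 : (F : Subgroup G).relIndex E ≤ (F : Subgroup G).relIndex D.A := by
        refine Subgroup.relIndex_le_of_le_right E.2.1 ?_
        exact Subgroup.index_ne_zero_of_finite
      have h3 : Nat.card (F : Subgroup G) * (F : Subgroup G).relIndex D.A = 16 :=
        (PBasic.card_mul_relIndex F.2.1).trans D.card_A
      have h5 : (F : Subgroup G).relIndex D.A = 2 := by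
        have : Nat.card (F : Subgroup G) = 8 := by omega
        rw [this] at h3; omega
      rw [h5] at h2
      have : Nat.card (E : Subgroup G) = 8 := by omega
      rw [this] at h1
      rcases Nat.lt_or_ge (Nat.card ↥((E : Subgroup G) ⊓ F)) 4 with hlt | hge
      · exfalso
        have := Nat.mul_le_mul_left (Nat.card ↥((E : Subgroup G) ⊓ F)) h2
        omega
      · simpa using hge
    have hkn : 2 ≤ n := (Nat.pow_le_pow_iff_right (by norm_num : 1 < 2)).1 (hn ▸ h4)
    obtain ⟨X, hX⟩ := Sylow.exists_subgroup_card_pow_prime 2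
      (show 2 ^ 2 ∣ Nat.card ↥((E : Subgroup G) ⊓ F) from hn ▸ pow_dvd_pow 2 hkn)
    exact ⟨X.map ((E : Subgroup G) ⊓ F).subtype, Subgroup.map_subtype_le _,
      by rw [Subgroup.card_map_of_injective ((E : Subgroup G) ⊓ F).subtype_injective, hX]⟩
  let Y : I → Subgroup G := fun E =>
    D.Del (E : Subgroup G) ⊓ centralizer ((E : Subgroup G) : Set G) ⊓ centralizer ({a} : Set G)
  have hYX : ∀ (E : I) (X : Subgroup G), X ≤ E → Y E ≤ D.Del X ⊓ centralizer ({a} : Set G) :=
    fun E X hX => inf_le_inf_right _ (inf_le_left.trans (D.Del_anti hX))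
  have hXY : ∀ X : Subgroup G, X ≤ D.A → Nat.card X = 2 ^ 2 → ∀ E : I,
      D.Del X ⊓ centralizer ({a} : Set G) ⊓ centralizer ((E : Subgroup G) : Set G) ≤ Y E := by
    intro X hX hXc E x hx
    refine ⟨⟨Subgroup.mem_iInf.2 fun e => ?_, hx.2⟩, hx.1.2⟩
    exact hk' X hX hXc e.1 (E.2.1 e.2.1) e.2.2
      ⟨hx.1.1, mem_centralizer_singleton_iff.2 (mem_centralizer_iff.1 hx.2 _ e.2.1).symm⟩
  have hgen : ∀ X Z : Subgroup G, D.A ≤ normalizer (X : Set G) → X ≤ K →
      (∀ E : I, X ⊓ centralizer ((E : Subgroup G) : Set G) ≤ Z) → X ≤ Z :=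
    fun X Z hAX hXK h => Signalizer.le_of_hyperplane_le D.A_ea hA2 hAX (hKp X hXK) fun E hE hEc => h ⟨E, hE, hEc⟩
  have hcomp := Signalizer.complete_of_coherent (A := D.A) (K := K)
    (OddChar.oddSolvable _ (by rw [← Nat.not_even_iff_odd, even_iff_two_dvd]; exact D.KK_odd ha))
    (Signalizer.coprime_card D.A_two (hKp K le_rfl))
    (fun E : I => (E : Subgroup G)) Y (fun E => E.2.1)
    (fun E => by
      obtain ⟨X, hX, hXc⟩ := hsub E E
      exact (hYX E X (hX.trans inf_le_left)).trans (hk' X (hX.trans (inf_le_left.trans E.2.1)) hXc a ha ha1))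
    (fun E => (le_inf ((le_inf (D.A_le_normalizer_Del E.2.1)
        ((Signalizer.ea_le_normalizer_centralizer D.A_ea E.2.1))).trans Subgroup.inf_normalizer_le_normalizer_inf)
      (D.A_le_normalizer_centralizer ha)).trans Subgroup.inf_normalizer_le_normalizer_inf)
    hgen (fun E F => by
      obtain ⟨X, hX, hXc⟩ := hsub E F
      have hXA : X ≤ D.A := hX.trans (inf_le_left.trans E.2.1)
      exact ⟨_, hk' X hXA hXc a ha ha1, hnC X hXA a ha,
        hYX E X (hX.trans inf_le_left), hYX F X (hX.trans inf_le_right), hXY X hXA hXc⟩)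
  have hθW : D.theta a ≤ ⨆ E, Y E := iSup_le fun X =>
    hgen _ _ (hnC X.1 X.2.1 a ha) (hk' X.1 X.2.1 X.2.2 a ha ha1) fun E =>
      (hXY X.1 X.2.1 X.2.2 E).trans (le_iSup Y E)
  refine hgen _ _ ((le_inf (hθn a ha) (D.A_le_normalizer_centralizer hb)).trans
    Subgroup.inf_normalizer_le_normalizer_inf) (inf_le_left.trans (hle a ha ha1)) fun E x hx => ?_
  have hxY : x ∈ Y E := hcomp E ⟨hθW hx.1.1, hx.2⟩
  obtain ⟨X, hX, hXc⟩ := hsub E E
  exact le_iSup (fun X : {X : Subgroup G // X ≤ D.A ∧ Nat.card X = 2 ^ 2} =>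
    D.Del X.1 ⊓ centralizer ({b} : Set G))
    ⟨X, hX.trans (inf_le_left.trans E.2.1), hXc⟩ ⟨D.Del_anti (hX.trans inf_le_left) hxY.1.1, hx.1.2⟩

omit hU hNT in
theorem A_le_normalizer_Rt {E : Subgroup G} (hE : E ≤ D.A) : D.A ≤ normalizer (Rt E : Set G) :=
  (Signalizer.ea_le_centralizer D.A_ea hE).trans cent_le_normalizer_Rt

omit hU hNT in
theorem cA_le_normalizer_NN : centralizer (D.A : Set G) ≤ normalizer (D.NN : Set G) :=
  (le_iInf fun H : {H : Subgroup G // H ≤ D.A ∧ Nat.card H * 2 = Nat.card D.A} =>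
    (centralizer_le H.2.1).trans cent_le_normalizer_Rt).trans
    (Subgroup.iInf_normalizer_le_normalizer_iSup _)

theorem NN_odd : ¬ 2 ∣ Nat.card D.NN := by
  haveI : Fact (Nat.Prime 2) := ⟨Nat.prime_two⟩
  obtain ⟨h1, -⟩ := Signalizer.SFT.iSup_props D.A_ea (by rw [D.card_A]; norm_num) (D.theta_functor hU hNT)
  refine odd_of_le h1.2.1 (iSup_le fun H => ?_)
  have hHc : Nat.card H.1 * 2 = 16 := H.2.2.trans D.card_A
  obtain ⟨c, hc, hc1⟩ := D.four_ne_bot (E := H.1) (by omega)
  obtain ⟨X, hX⟩ := Sylow.exists_subgroup_card_pow_prime 2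
    (show 2 ^ 2 ∣ Nat.card H.1 by rw [show Nat.card H.1 = 8 by omega]; norm_num)
  have hXH : X.map H.1.subtype ≤ H.1 := map_subtype_le _
  refine le_trans ?_ (le_iSup (fun a : {a : G // a ∈ D.A ∧ a ≠ 1} => D.theta a.1) ⟨c, H.2.1 hc, hc1⟩)
  refine le_trans ?_ (le_iSup (fun E : {E : Subgroup G // E ≤ D.A ∧ Nat.card E = 2 ^ 2} =>
    D.Del E.1 ⊓ centralizer ({c} : Set G))
    ⟨X.map H.1.subtype, hXH.trans H.2.1, by rw [card_map_of_injective H.1.subtype_injective, hX]⟩)
  exact le_inf (le_iInf fun e => (Rt_le (hXH e.2.1) e.2.2).trans le_sup_left)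
    (Rt_le_cent.trans (centralizer_le (Set.singleton_subset_iff.2 hc)))

/-- An element of a common part inverted in the first subgroup lies in the generated subgroup. -/
theorem inverted_mem_NN {E : Subgroup G} (hE : E ≤ D.A) (hE4 : 4 ≤ Nat.card E) {w a : G} (hw : w ∈ Rt E)
    (ha : a ∈ D.A) (hinv : a * w * a⁻¹ = w⁻¹) : w ∈ D.NN := by
  haveI : Fact (Nat.Prime 2) := ⟨Nat.prime_two⟩
  set R := Rt E
  have hAR : D.A ≤ normalizer (R : Set G) := D.A_le_normalizer_Rt hE
  obtain ⟨e0, he0, he01⟩ := D.four_ne_bot hE4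
  have hRodd : ¬ 2 ∣ Nat.card R := odd_of_le (ClosedAbelian.core_odd _) (Rt_le he0 he01)
  have hgen : R ≤ D.NN ⊔ (R ⊓ centralizer (D.A : Set G)) := by
    refine Signalizer.le_of_hyperplane_le D.A_ea (by rw [D.card_A]; norm_num) hAR hRodd fun H hH hHc => ?_
    intro p hp
    by_cases hEH : E ≤ H
    swap
    · refine mem_sup_right ⟨hp.1, ?_⟩
      have htop : H ⊔ E = D.A := by
        refine eq_of_le_of_card_ge (sup_le hH hE) ?_
        have hlt : Nat.card H < Nat.card ↥(H ⊔ E) := by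
          rcases (card_le_of_le (le_sup_left : H ≤ H ⊔ E)).lt_or_eq with h | h
          · exact h
          · exact absurd (le_sup_right.trans (eq_of_le_of_card_ge le_sup_left h.ge).ge) hEH
        obtain ⟨i, hi⟩ := (D.A_two.to_le (sup_le hH hE : H ⊔ E ≤ D.A)).exists_card_eq
        rw [D.card_A] at hHc ⊢
        rw [hi] at hlt ⊢
        have h3 : 3 < i := (Nat.pow_lt_pow_iff_right (by norm_num : 1 < 2)).1 (by
          rw [show (2 : ℕ) ^ 3 = Nat.card H by omega]; exact hlt)
        exact le_trans (by norm_num) (Nat.pow_le_pow_right (by norm_num) h3)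
      refine mem_centralizer_iff.2 fun x hx => ?_
      have hle : H ⊔ E ≤ centralizer ({p} : Set G) := sup_le
        (fun y hy => mem_centralizer_singleton_iff.2 (mem_centralizer_iff.1 hp.2 y hy))
        (fun y hy => mem_centralizer_singleton_iff.2 (mem_centralizer_iff.1 (Rt_le_cent hp.1) y hy))
      exact mem_centralizer_singleton_iff.1 (hle (htop.symm ▸ hx))
    -- a hyperplane over the four-group
    obtain ⟨a', ha', haH'⟩ : ∃ a' ∈ D.A, a' ∉ H := by
      refine SetLike.not_le_iff_exists.1 fun hle => ?_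
      have := card_le_of_le hle
      rw [D.card_A] at this hHc
      omega
    have hAX : D.A ≤ normalizer ((R ⊓ centralizer (H : Set G) : Subgroup G) : Set G) :=
      Signalizer.le_normalizer_inf hAR (Signalizer.ea_le_normalizer_centralizer D.A_ea hH)
    obtain ⟨s, -, t, ht, rfl, hsR, hs, hta⟩ := split (odd_of_le hRodd inf_le_left) (D.A_mul_self ha')
      (fun x hx => conj_mem_normalizer (hAX ha') hx) hp
    refine mul_mem (mem_sup_left ?_) (mem_sup_right ⟨ht.1, ?_⟩)
    · refine le_iSup (fun K : {K : Subgroup G // K ≤ D.A ∧ Nat.card K * 2 = Nat.card D.A} => Rt K.1)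
        ⟨H, hH, hHc⟩ ⟨hsR.2, mem_iInf.2 fun c => D.inverted_mem (hH c.2.1) ha' ?_ hs⟩
      exact D.bal2 hU hNT (hH c.2.1) c.2.2 (odd_of_le hRodd inf_le_left) hAX
        (inf_le_right.trans (centralizer_le (Set.singleton_subset_iff.2 c.2.1))) hE hE4
        (fun e he he1 => inf_le_left.trans ((Rt_le he he1).trans le_sup_left)) hsR
    · refine mem_centralizer_iff.2 fun x hx => ?_
      have hcl : H ⊔ zpowers a' ≤ centralizer ({t} : Set G) := sup_le
        (fun y hy => mem_centralizer_singleton_iff.2 (mem_centralizer_iff.1 ht.2 y hy))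
        (zpowers_le.2 (mem_centralizer_singleton_iff.2 hta))
      have htop : H ⊔ zpowers a' = D.A := by
        refine eq_of_le_of_card_ge (sup_le hH (zpowers_le.2 ha')) ?_
        have hlt : Nat.card H < Nat.card ↥(H ⊔ zpowers a') := by
          rcases (card_le_of_le (le_sup_left : H ≤ H ⊔ zpowers a')).lt_or_eq with h | h
          · exact h
          · exact absurd ((eq_of_le_of_card_ge le_sup_left h.ge).ge (mem_sup_right (mem_zpowers a'))) haH'
        obtain ⟨i, hi⟩ := (D.A_two.to_le (sup_le hH (zpowers_le.2 ha') : H ⊔ zpowers a' ≤ D.A)).exists_card_eq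
        rw [D.card_A] at hHc ⊢
        rw [hi] at hlt ⊢
        have h3 : 3 < i := (Nat.pow_lt_pow_iff_right (by norm_num : 1 < 2)).1 (by
          rw [show (2 : ℕ) ^ 3 = Nat.card H by omega]; exact hlt)
        exact le_trans (by norm_num) (Nat.pow_le_pow_right (by norm_num) h3)
      exact mem_centralizer_singleton_iff.1 (hcl (htop.symm ▸ hx))
  obtain ⟨n, hn, t, ht, rfl⟩ := (SolvBasic.mem_sup_iff_of_le_normalizer
    ((inf_le_right : R ⊓ centralizer (D.A : Set G) ≤ _).trans D.cA_le_normalizer_NN)).1 (hgen hw)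
  refine mem_of_sq_mem ?_ (odd_orderOf_of_mem hRodd hw)
  have hat : a * t * a⁻¹ = t := by rw [mem_centralizer_iff.1 ht.2 a ha, mul_inv_cancel_right]
  have h1 : a * n * a⁻¹ * t = (n * t)⁻¹ := by
    rw [← hinv, show a * (n * t) * a⁻¹ = a * n * a⁻¹ * (a * t * a⁻¹) by group, hat]
  rw [show n * t * (n * t) = n * t * ((n * t)⁻¹)⁻¹ by rw [inv_inv], ← h1,
    show n * t * (a * n * a⁻¹ * t)⁻¹ = n * (a * n * a⁻¹)⁻¹ by group]
  exact mul_mem hn (inv_mem (conj_mem_normalizer (D.cA_le_normalizer_NN (D.A_le_cA ha)) hn))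

/-- Every centraliser of a hyperplane normalises the generated subgroup. -/
theorem hyper_le_normalizer {H : Subgroup G} (hH : H ≤ D.A) (hHc : Nat.card H * 2 = Nat.card D.A) :
    centralizer (H : Set G) ≤ normalizer (D.NN : Set G) := by
  haveI : Fact (Nat.Prime 2) := ⟨Nat.prime_two⟩
  intro x hx
  have hmap : D.NN.map (MulAut.conj x).toMonoidHom ≤ D.NN := by
    rw [NN, Subgroup.map_iSup]
    refine iSup_le fun K => ?_
    rintro _ ⟨y, hy, rfl⟩
    show x * y * x⁻¹ ∈ D.NN
    have hmemH : ∀ p ∈ Rt H, x * p * x⁻¹ ∈ D.NN := fun p hp =>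
      le_iSup (fun K : {K : Subgroup G // K ≤ D.A ∧ Nat.card K * 2 = Nat.card D.A} => Rt K.1) ⟨H, hH, hHc⟩
        (conj_mem_normalizer (cent_le_normalizer_Rt hx) hp)
    by_cases hHK : H ≤ K.1
    · rw [eq_of_le_of_card_ge hHK (by have := K.2.2; omega)]  at hmemH
      exact hmemH y hy
    obtain ⟨a, haH, haK⟩ := SetLike.not_le_iff_exists.1 hHK
    have hAR := D.A_le_normalizer_Rt K.2.1
    have hKc : Nat.card K.1 * 2 = 16 := K.2.2.trans D.card_A
    rw [D.card_A] at hHc
    obtain ⟨k0, hk0, hk01⟩ := D.four_ne_bot (E := K.1) (by omega)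
    have hodd : ¬ 2 ∣ Nat.card (Rt K.1) := odd_of_le (ClosedAbelian.core_odd _) (Rt_le hk0 hk01)
    obtain ⟨s, -, t, ht, rfl, hsR, hs, hta⟩ := split hodd (D.A_mul_self (hH haH))
      (fun p hp => conj_mem_normalizer (hAR (hH haH)) hp) hy
    rw [show x * (s * t) * x⁻¹ = x * s * x⁻¹ * (x * t * x⁻¹) by group]
    refine mul_mem ?_ ?_
    · have hE4 : 4 ≤ Nat.card ↥(H ⊓ K.1) := by
        have h1 := PBasic.card_mul_relIndex (inf_le_left : H ⊓ K.1 ≤ H)
        rw [Subgroup.inf_relIndex_left] at h1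
        have h2 : K.1.relIndex H ≤ K.1.relIndex D.A :=
          Subgroup.relIndex_le_of_le_right hH Subgroup.index_ne_zero_of_finite
        have h3 : Nat.card K.1 * K.1.relIndex D.A = 16 := (PBasic.card_mul_relIndex K.2.1).trans D.card_A
        rw [show Nat.card K.1 = 8 by omega] at h3
        rw [show K.1.relIndex D.A = 2 by omega] at h2
        rw [show Nat.card H = 8 by omega] at h1
        by_contra hlt
        have := Nat.mul_le_mul_left (Nat.card ↥(H ⊓ K.1)) h2
        omega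
      refine D.inverted_mem_NN hU hNT (E := H ⊓ K.1) (inf_le_left.trans hH) hE4 (mem_inf.2 ⟨?_, ?_⟩) (hH haH) ?_
      · exact mul_mem (mul_mem (centralizer_le (fun _ h => h.1) hx)
          (centralizer_le (fun _ h => h.2) (Rt_le_cent hsR))) (inv_mem (centralizer_le (fun _ h => h.1) hx))
      · exact mem_iInf.2 fun c => conj_mem_normalizer (Kf_normalized (mem_centralizer_iff.1 hx c.1 c.2.1.1).symm)
          (Rt_le c.2.1.2 c.2.2 hsR)
      · have hax : a * x = x * a := mem_centralizer_iff.1 hx a haH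
        rw [show a * (x * s * x⁻¹) * a⁻¹ = (a * x) * s * (a * x)⁻¹ by group, hax,
          show x * a * s * (x * a)⁻¹ = x * (a * s * a⁻¹) * x⁻¹ by group, hs]
        group
    · -- the fixed part is common to all
      have htA : t ∈ centralizer (D.A : Set G) := by
        refine mem_centralizer_iff.2 fun p hp => ?_
        have hcl : K.1 ⊔ zpowers a ≤ centralizer ({t} : Set G) := sup_le
          (fun q hq => mem_centralizer_singleton_iff.2 (mem_centralizer_iff.1 (Rt_le_cent ht) q hq))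
          (zpowers_le.2 (mem_centralizer_singleton_iff.2 hta))
        have htop : K.1 ⊔ zpowers a = D.A := by
          have ha2 : Nat.card (zpowers a) = 2 := by
            rw [Nat.card_zpowers]
            exact Signalizer.ea_orderOf D.A_ea (hH haH) fun e => haK (e ▸ one_mem _)
          refine D.top_of_card K.2.1 (zpowers_le.2 (hH haH)) ?_ (by rw [ha2]; omega)
          refine (eq_bot_iff_forall _).2 fun q hq => ?_
          rcases ClosedAbelian.zpowers_cases (D.A_mul_self (hH haH)) hq.2 with e | e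
          · exact e
          · exact absurd (e ▸ hq.1) haK
        exact mem_centralizer_singleton_iff.1 (hcl (htop.symm ▸ hp))
      refine hmemH t ⟨centralizer_le hH htA, mem_iInf.2 ?_⟩
      rintro ⟨c, hc, hc1⟩
      have hcA := hH hc
      set X := Rt K.1 ⊓ centralizer (D.A : Set G)
      have hXc : X ≤ centralizer ({c} : Set G) :=
        inf_le_right.trans (centralizer_le (Set.singleton_subset_iff.2 hcA))
      by_cases hcU : c ∈ D.U
      · exact D.lemR_U hcU hc1 (odd_of_le hodd inf_le_left) hXc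
          (Signalizer.le_normalizer_inf hAR (D.A_le_cA.trans le_normalizer)) ⟨ht, htA⟩
      obtain ⟨⟨e, he⟩, he1'⟩ := ne_bot_iff_exists_ne_one.1 (show K.1 ⊓ D.Vof c ≠ ⊥ by
        intro hb
        have hV4 := D.four_le_Vof hU hcA hcU
        have h := (card_le_of_le (sup_le K.2.1 (D.Vof_le c))).trans D.card_A.le
        rw [SolvBasic.card_sup_of_inf_eq_bot (((D.Vof_le c).trans (Signalizer.ea_le_centralizer D.A_ea K.2.1)).trans
          (centralizer_le_normalizer _)) hb] at h
        have := Nat.mul_le_mul (show 8 ≤ Nat.card K.1 by omega) hV4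
        omega)
      exact D.same_le hU hcA hcU he.2
        ⟨Rt_le he.1 (fun h => he1' (Subtype.ext h)) ht, hXc ⟨ht, htA⟩⟩
  exact SEBrick.mem_normalizer_of fun y hy => hmap ⟨y, hy, rfl⟩

/-- An invariant odd subgroup normalises the generated subgroup. -/
theorem odd_le_normalizer {X : Subgroup G} (hX : ¬ 2 ∣ Nat.card X) (hAX : D.A ≤ normalizer (X : Set G)) :
    X ≤ normalizer (D.NN : Set G) := by
  haveI : Fact (Nat.Prime 2) := ⟨Nat.prime_two⟩
  exact Signalizer.le_of_hyperplane_le D.A_ea (by rw [D.card_A]; norm_num) hAX hX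
    fun H hH hHc => inf_le_right.trans (D.hyper_le_normalizer hU hNT hH hHc)

theorem GU_proper_of_NN (hN : D.NN ≠ ⊥) : GU f ≠ ⊤ := by
  intro htop
  refine D.normalizer_ne_top hN (D.ne_top_of_odd (D.NN_odd hU hNT)) (top_le_iff.1 ?_)
  rw [← htop]
  have h : ∀ a ∈ D.U, Kf a ≤ normalizer (D.NN : Set G) := fun a ha =>
    D.odd_le_normalizer hU hNT (ClosedAbelian.core_odd _) (D.A_le_normalizer_Kf (D.U_le_A ha))
  exact sup_le (sup_le (h _ D.z_mem_U) (h _ D.u_mem_U)) (h _ D.uz_mem_U)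

end Setup

end Cfsg.Agent.J2Core
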