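import Cfsg.Agent.Lib.J2Core.LemR
import Cfsg.Agent.Lib.NormCyclic.Pair
import Cfsg.Agent.Lib.BrauerSuzuki.ZStar

/-!
Fusion: the three involutions of the second centre are permuted transitively in the normaliser of both elementary
abelian subgroups, and there are at most two classes of involutions.
-/

set_option autoImplicit false
set_option linter.style.haveILetI false
set_option linter.unusedSectionVars false

namespace Cfsg.Agent.J2Core

open Subgroup
open Cfsg.Agent.J2Type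
open Cfsg.Agent.ClosedAbelian (TwoEl core mem_of_sq_mem odd_orderOf_of_mem)

universe u

variable {G : Type u} [Group G] [Finite G] {f : ℕ → G}

/-- An element fixing the second centre pointwise. -/
def Fixes (f : ℕ → G) (g : G) : Prop := g * f 2 = f 2 * g ∧ g * f 1 = f 1 * g

theorem conj_inj_iff {H : Type*} [Group H] (g : H) {x y : H} : g * x * g⁻¹ = g * y * g⁻¹ ↔ x = y :=
  ⟨fun h => mul_left_cancel (mul_right_cancel h), fun h => h ▸ rfl⟩

namespace Setup

variable (D : Setup f)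
include D

theorem out_three {a b c : G} (ha : a ∈ D.A) (hb : b ∈ D.A) (hc : c ∈ D.A) (ha' : a ∉ D.U) (hb' : b ∉ D.U)
    (hc' : c ∉ D.U) (hab : a * b ∉ D.U) : a * c ∈ D.U ∨ b * c ∈ D.U ∨ a * b * c ∈ D.U := by
  obtain ⟨i, hi, pi, rfl⟩ := ha
  obtain ⟨j, hj, pj, rfl⟩ := hb
  obtain ⟨k, hk, pk, rfl⟩ := hc
  rw [D.f_mem_U hi, Bool.not_eq_true] at ha'
  rw [D.f_mem_U hj, Bool.not_eq_true] at hb'
  rw [D.f_mem_U hk, Bool.not_eq_true] at hc'
  rw [← D.emb.hom i j hi hj, D.f_mem_U (mulN_lt _ _), Bool.not_eq_true] at hab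
  rw [← D.emb.hom i k hi hk, ← D.emb.hom j k hj hk, ← D.emb.hom i j hi hj,
    ← D.emb.hom _ k (mulN_lt _ _) hk, D.f_mem_U (mulN_lt _ _), D.f_mem_U (mulN_lt _ _), D.f_mem_U (mulN_lt _ _)]
  exact coset_three i (outA_mem i hi pi ha') j (outA_mem j hj pj hb') k (outA_mem k hk pk hc') hab

theorem fixes_mul {g g' : G} (h : Fixes f g) (h' : Fixes f g') : Fixes f (g * g') :=
  ⟨((show Commute g (f 2) from h.1).mul_left h'.1).eq, ((show Commute g (f 1) from h.2).mul_left h'.2).eq⟩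

theorem fixes_W {w : G} (hw : w ∈ D.W) : Fixes f w :=
  ⟨D.U_comm_W D.z_mem_U hw, D.U_comm_W D.u_mem_U hw⟩

theorem fixes_uz {g : G} (h : Fixes f g) : g * f 8 = f 8 * g := by
  rw [show (8 : ℕ) = mulN 1 2 from u_facts.2.2.2.1.symm, D.emb.hom 1 2 (by omega) (by omega)]
  exact ((show Commute g (f 1) from h.2).mul_right h.1).eq

theorem fixes_U {g : G} (h : Fixes f g) {x : G} (hx : x ∈ D.U) : g * x = x * g := by
  rcases D.U_cases hx with rfl | rfl | rfl | rfl
  exacts [by simp, h.1, h.2, D.fixes_uz h]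

theorem w_conj {x y : G} (hx : x ∈ D.A) (hx' : x ∉ D.U) (hy : y ∈ D.A) (h : x * y ∈ D.U) :
    ∃ w ∈ D.W, w * x * w⁻¹ = y := by
  obtain ⟨i, hi, pi, rfl⟩ := hx
  obtain ⟨j, hj, pj, rfl⟩ := hy
  rw [D.f_mem_U hi, Bool.not_eq_true] at hx'
  rw [← D.emb.hom i j hi hj, D.f_mem_U (mulN_lt _ _)] at h
  obtain ⟨w, hw, pw, e⟩ := coset_orbit i hi j hj pi hx' pj h
  exact ⟨f w, (D.f_mem_W hw).2 pw, by rw [← D.emb.conj hw hi, e]⟩

/-- The elements of the first subgroup outside the second centre are conjugate in the stabiliser. -/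
theorem conj_out {x y : G} (hx : x ∈ D.A) (hx' : x ∉ D.U) (hy : y ∈ D.A) (hy' : y ∉ D.U) :
    ∃ g ∈ normalizer (D.A : Set G), Fixes f g ∧ g * x * g⁻¹ = y := by
  by_cases hxy : x * y ∈ D.U
  · obtain ⟨w, hw, e⟩ := D.w_conj hx hx' hy hxy
    exact ⟨w, D.W_norm hw, D.fixes_W hw, e⟩
  obtain ⟨d, hdz, hdu, hdA, hfpf⟩ := D.exists_d
  have hd : Fixes f d := ⟨hdz, hdu⟩
  have hU : ∀ a, a ∈ D.A → a ∉ D.U → d * a * d⁻¹ ∈ D.A ∧ d * a * d⁻¹ ∉ D.U := by
    intro a ha ha'
    refine ⟨conj_mem_normalizer hdA ha, fun h => ha' ?_⟩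
    have h1 := D.fixes_U hd h
    rwa [show a = d * a * d⁻¹ from mul_left_cancel (a := d) (by rw [h1]; group)]
  have hin : ∀ a ∈ D.A, a ∉ D.U → a * (d * a * d⁻¹) ∉ D.U := fun a ha ha' h => hfpf a ha ha' (by
    rw [inv_eq_of_mul_eq_one_right (D.A_mul_self ha)]
    rwa [D.A_comm (hU a ha ha').1 ha])
  obtain ⟨hx1, hx1'⟩ := hU x hx hx'
  obtain ⟨hx2, hx2'⟩ := hU _ hx1 hx1'
  set x1 := d * x * d⁻¹ with ex1
  set x2 := d * x1 * d⁻¹ with ex2
  have h01 : x * x1 ∉ D.U := hin x hx hx'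
  have h12 : x1 * x2 ∉ D.U := hin x1 hx1 hx1'
  rcases D.out_three hx hx1 hy hx' hx1' hy' h01 with h | h | h
  · exact absurd h hxy
  · obtain ⟨w, hw, e⟩ := D.w_conj hx1 hx1' hy h
    refine ⟨w * d, mul_mem (D.W_norm hw) hdA, D.fixes_mul (D.fixes_W hw) hd, ?_⟩
    rw [show w * d * x * (w * d)⁻¹ = w * (d * x * d⁻¹) * w⁻¹ by group, ← ex1, e]
  · -- the third coset
    have h02 : x * x1 * x2 ∈ D.U := by
      rcases D.out_three hx hx1 hx2 hx' hx1' hx2' h01 with h' | h' | h'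
      · exfalso
        have hp : x * x1 ∈ D.A := mul_mem hx hx1
        refine hin _ hp h01 ?_
        rw [show d * (x * x1) * d⁻¹ = (d * x * d⁻¹) * (d * x1 * d⁻¹) by group, ← ex1, ← ex2,
          show x * x1 * (x1 * x2) = x * (x1 * x1) * x2 by group, D.A_mul_self hx1, mul_one]
        exact h'
      · exact absurd h' h12
      · exact h'
    have h2y : x2 * y ∈ D.U := by
      have h3 := mul_mem h02 h
      rwa [show x * x1 * x2 * (x * x1 * y) = x2 * ((x * x1) * (x * x1)) * y by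
        rw [D.A_comm (mul_mem hx hx1) hx2]; group, D.A_mul_self (mul_mem hx hx1), mul_one] at h3
    obtain ⟨w, hw, e⟩ := D.w_conj hx2 hx2' hy h2y
    refine ⟨w * d * d, mul_mem (mul_mem (D.W_norm hw) hdA) hdA,
      D.fixes_mul (D.fixes_mul (D.fixes_W hw) hd) hd, ?_⟩
    rw [show w * d * d * x * (w * d * d)⁻¹ = w * (d * (d * x * d⁻¹) * d⁻¹) * w⁻¹ by group, ← ex1, ← ex2, e]

/-- A 2-element of the normaliser fixing an element outside the second centre lies in the subgroup, when the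
normaliser stabilises the second centre. -/
theorem fix_out (hU : ∀ n ∈ normalizer (D.A : Set G), ∀ x ∈ D.A, x ∉ D.U → n * x * n⁻¹ ∉ D.U) {t a : G}
    (ht : t ∈ normalizer (D.A : Set G)) (h2 : TwoEl t) (ha : a ∈ D.A) (haU : a ∉ D.U) (hta : t * a = a * t) :
    t ∈ D.A := by
  obtain ⟨m, hm, hmW⟩ := D.exists_conj_W h2.isPGroup (zpowers_le.2 ht)
  have h1 : m * t * m⁻¹ ∈ D.A := D.A_cent_out (conj_mem_normalizer hm ha) (hU m hm a ha haU)
    (D.W_le (hmW t (mem_zpowers t))) (Emb.conj_comm m hta.symm)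
  exact (conj_mem_conj hm).1 h1

/-- The first centre is fused to another involution of the second centre. -/
theorem u_conj : ∃ g : G, g * f 1 * g⁻¹ = f 2 := by
  haveI : Fact (Nat.Prime 2) := ⟨Nat.prime_two⟩
  have hz2 : orderOf (f 2) = 2 := Invol.order_two_of_sq ((D.emb.sq_one_iff (by omega)).2 u_facts.2.2.1)
    fun e => absurd ((D.emb.eq_one_iff (by omega)).1 e) (by omega)
  have hiso : ¬ Cfsg.IsIsolated (f 2) := fun h => by
    haveI := D.simple
    exact NormCyc.false_of_inZStar D.not_comm hz2 (BrauerSuzuki.zStar G (f 2) hz2 h)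
  simp only [Cfsg.IsIsolated, not_forall] at hiso
  obtain ⟨g, hcom, hne⟩ := hiso
  set t := g * f 2 * g⁻¹ with ht
  obtain ⟨c, hc, hcle⟩ := SolvCores.exists_conj_le
    (S := (D.emb.exists_sylow_range D.odd).choose)
    ((D.emb.exists_sylow_range D.odd).choose_spec.le.trans (range_le_cz D.emb))
    (IsPGroup.of_card (n := 1) (p := 2) (by rw [Nat.card_zpowers, ht, Invol.order_conj, hz2, pow_one]) :
      IsPGroup 2 (zpowers t))
    (zpowers_le.2 (mem_centralizer_singleton_iff.2 hcom.eq.symm))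
  rw [(D.emb.exists_sylow_range D.odd).choose_spec] at hcle
  obtain ⟨s, hs, es⟩ := hcle ⟨t, mem_zpowers t, rfl⟩
  simp only [MulEquiv.coe_toMonoidHom, MulAut.conj_apply] at es
  have hcz := mem_centralizer_singleton_iff.1 hc
  have esz : f s = c * g * f 2 * (c * g)⁻¹ := by rw [es, ht]; group
  have hss : mulN s s = 0 := (D.emb.sq_one_iff hs).1 (by
    rw [esz, show c * g * f 2 * (c * g)⁻¹ * (c * g * f 2 * (c * g)⁻¹) = c * g * (f 2 * f 2) * (c * g)⁻¹ by group,
      (D.emb.sq_one_iff (by omega)).2 u_facts.2.2.1]; group)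
  have hsne : f s ≠ f 2 := fun e => hne ((conj_inj_iff c).1 (by
    rw [← es, e, hcz, mul_inv_cancel_right]))
  have u8 : ∀ m : G, m * f 2 * m⁻¹ = f 8 → ∃ g : G, g * f 1 * g⁻¹ = f 2 := by
    intro m e
    refine ⟨m⁻¹ * f 3, ?_⟩
    rw [show m⁻¹ * f 3 * f 1 * (m⁻¹ * f 3)⁻¹ = m⁻¹ * (f 3 * f 1 * (f 3)⁻¹) * m by group,
      ← D.emb.conj (by omega) (by omega), u_facts.2.2.2.2.2.1, ← e]
    group
  have u1 : ∀ m : G, m * f 2 * m⁻¹ = f 1 → ∃ g : G, g * f 1 * g⁻¹ = f 2 := fun m e =>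
    ⟨m⁻¹, by rw [← e]; group⟩
  cases hW : inW s
  · -- outside the centraliser of the second centre
    obtain ⟨v, hv, e⟩ := outside_check s hs hss (by
      intro e'; rw [inW, e', Nat.beq_refl] at hW; exact Bool.noConfusion hW)
    obtain ⟨g5, -, e5⟩ := D.emb.exists_fuse D.odd D.index_ne_two
    refine u1 (g5 * (f v)⁻¹ * (c * g)) ?_
    rw [show g5 * (f v)⁻¹ * (c * g) * f 2 * (g5 * (f v)⁻¹ * (c * g))⁻¹ =
      g5 * ((f v)⁻¹ * (c * g * f 2 * (c * g)⁻¹) * f v) * g5⁻¹ by group, ← esz, ← e, D.emb.conj hv (by omega),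
      show (f v)⁻¹ * (f v * f 5 * (f v)⁻¹) * f v = f 5 by group, e5]
  obtain ⟨m, a, ha, haA, ema⟩ : ∃ (m : G) (a : G), a ∈ D.A ∧ a ≠ f 2 ∧ m * f 2 * m⁻¹ = a := by
    rcases invol_inW s hs hss hW with h | h
    · exact ⟨c * g, f s, (D.f_mem_A hs).2 h, hsne, esz.symm⟩
    · refine ⟨f 5 * (c * g), _, D.q_B ((D.f_mem_B hs).2 h), fun e => hsne ?_, by rw [esz]; group⟩
      exact (conj_inj_iff (f 5)).1 (e.trans (by rw [D.lab_comm (show 5 < 128 by omega), mul_inv_cancel_right]))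
  by_cases haU : a ∈ D.U
  · rcases D.U_cases haU with e | e | e | e
    · rw [e] at ema; exact absurd (conj_eq_one_iff.1 ema) (Invol.ne_one hz2)
    · exact absurd e haA
    · exact u1 m (ema.trans e)
    · exact u8 m (ema.trans e)
  -- the central involution is fused outside
  by_cases hU : ∀ n ∈ normalizer (D.A : Set G), ∀ x ∈ D.A, x ∉ D.U → n * x * n⁻¹ ∉ D.U
  · exfalso
    obtain ⟨k, hk, T, hT2, hAT, hTC, hPT⟩ := ClosedAbelian.exists_conj_over (X := centralizer ({a} : Set G))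
      D.A_two (D.A_le_centralizer ha) (D.emb.isPGroup_range.map (MulAut.conj m).toMonoidHom) (by
        rintro _ ⟨x, ⟨i, hi, rfl⟩, rfl⟩
        rw [mem_centralizer_singleton_iff, ← ema]
        exact Emb.conj_comm m (D.lab_comm hi))
    have hcard : 128 ≤ Nat.card T := by
      rw [← D.emb.card_range]
      refine Nat.card_le_card_of_injective (fun x : D.emb.range =>
        (⟨k * (m * x * m⁻¹) * k⁻¹, hPT _ ⟨x, x.2, rfl⟩⟩ : T)) fun x y h => Subtype.ext ?_
      have := congrArg Subtype.val h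
      simpa using this
    haveI := hT2.isNilpotent
    have hlt : D.A.subgroupOf T < ⊤ := by
      rw [lt_top_iff_ne_top, Ne, subgroupOf_eq_top]
      intro hle
      have := card_le_of_le hle
      rw [D.card_A] at this
      omega
    obtain ⟨t', ht', htA⟩ := SetLike.exists_of_lt (Group.normalizerCondition_of_isNilpotent _ hlt)
    refine htA (mem_subgroupOf.2 (D.fix_out hU (D.mem_normalizer_A fun x hx => ?_)
      (TwoEl.of_group hT2 t'.2) ha haU (mem_centralizer_singleton_iff.1 (hTC t'.2))))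
    exact mem_subgroupOf.1 (((mem_normalizer_iff.1 ht') ⟨x, hAT hx⟩).1 (mem_subgroupOf.2 hx))
  · simp only [not_forall, not_not] at hU
    obtain ⟨n, hn, x, hx, hxU, hnx⟩ := hU
    obtain ⟨k, -, -, ek⟩ := D.conj_out ha haU hx hxU
    have hzx : k * m * f 2 * (k * m)⁻¹ = x := by
      rw [show k * m * f 2 * (k * m)⁻¹ = k * (m * f 2 * m⁻¹) * k⁻¹ by group, ema, ek]
    have key : ∀ y, n * x * n⁻¹ = y → n * (k * m) * f 2 * (n * (k * m))⁻¹ = y := fun y e => by
      rw [show n * (k * m) * f 2 * (n * (k * m))⁻¹ = n * (k * m * f 2 * (k * m)⁻¹) * n⁻¹ by group, hzx, e]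
    rcases D.U_cases hnx with e | e | e | e
    · exact absurd (conj_eq_one_iff.1 e) fun e' => hxU (e' ▸ one_mem _)
    · -- then one of the other two goes outside, or to the centre
      have hu := (mem_normalizer_iff''.1 hn _).1 (D.U_le_A D.u_mem_U)
      have hu8 := (mem_normalizer_iff''.1 hn _).1 (D.U_le_A D.uz_mem_U)
      by_cases h1 : n⁻¹ * f 1 * n ∈ D.U
      swap
      · obtain ⟨k', -, -, ek'⟩ := D.conj_out hx hxU hu h1
        refine u1 (n * k' * (k * m)) ?_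
        rw [show n * k' * (k * m) * f 2 * (n * k' * (k * m))⁻¹ =
          n * (k' * (k * m * f 2 * (k * m)⁻¹) * k'⁻¹) * n⁻¹ by group, hzx, ek']
        group
      by_cases h8 : n⁻¹ * f 8 * n ∈ D.U
      swap
      · obtain ⟨k', -, -, ek'⟩ := D.conj_out hx hxU hu8 h8
        refine u8 (n * k' * (k * m)) ?_
        rw [show n * k' * (k * m) * f 2 * (n * k' * (k * m))⁻¹ =
          n * (k' * (k * m * f 2 * (k * m)⁻¹) * k'⁻¹) * n⁻¹ by group, hzx, ek']
        group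
      exfalso
      refine hxU ?_
      have := mul_mem h1 h8
      rwa [show n⁻¹ * f 1 * n * (n⁻¹ * f 8 * n) = n⁻¹ * (f 1 * f 8) * n by group,
        ← D.emb.hom 1 8 (by omega) (by omega), show mulN 1 8 = 2 by decide +kernel, ← e,
        show n⁻¹ * (n * x * n⁻¹) * n = x by group] at this
    · exact u1 _ (key _ e)
    · exact u8 _ (key _ e)

theorem W_split {w : G} (hw : w ∈ D.W) : ∃ a ∈ D.A, ∃ b ∈ D.B, w = a * b := by
  obtain ⟨i, hi, pi, rfl⟩ := hw
  obtain ⟨a, ha, pa, pb⟩ := inW_split i hi pi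
  refine ⟨(f a)⁻¹, inv_mem ((D.f_mem_A ha).2 pa), _, (D.f_mem_B (mulN_lt a i)).2 pb, ?_⟩
  rw [D.emb.hom a i ha hi, inv_mul_cancel_left]

theorem normalizer_W {g : G} (hA : g ∈ normalizer (D.A : Set G)) (hB : g ∈ normalizer (D.B : Set G)) :
    g ∈ normalizer (D.W : Set G) := by
  refine SEBrick.mem_normalizer_of fun w hw => ?_
  obtain ⟨a, ha, b, hb, rfl⟩ := D.W_split hw
  rw [show g * (a * b) * g⁻¹ = g * a * g⁻¹ * (g * b * g⁻¹) by group]
  exact mul_mem (D.A_le_W (conj_mem_normalizer hA ha)) (D.B_le_W (conj_mem_normalizer hB hb))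

theorem normalizer_U {g : G} (hA : g ∈ normalizer (D.A : Set G)) (hB : g ∈ normalizer (D.B : Set G)) :
    g ∈ normalizer (D.U : Set G) := by
  rw [← D.A_inf_B]; exact normalizer_inf_le hA hB

/-- Sending both subgroups to the pair. -/
theorem move_pair {g : G} (hW : ∀ w ∈ D.W, g * w * g⁻¹ ∈ D.emb.range) :
    ∃ k : G, (k = 1 ∨ k = f 5) ∧ k * g ∈ normalizer (D.A : Set G) ∧ k * g ∈ normalizer (D.B : Set G) := by
  have hBsq : ∀ x ∈ D.B, x * x = 1 := by
    rintro _ ⟨a, ha, pa, rfl⟩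
    exact (D.emb.sq_one_iff ha).2 (inB_closed a ha a ha pa pa).2.2
  have hPA := D.e16 (P := D.A.map (MulAut.conj g).toMonoidHom)
    (by rintro _ ⟨x, hx, rfl⟩; exact hW x (D.A_le_W hx))
    (by rintro _ ⟨x, hx, rfl⟩; rw [← map_mul, D.A_mul_self hx, map_one])
    (by rw [card_map_of_injective (MulAut.conj g).injective]; exact D.card_A.ge)
  have hPB := D.e16 (P := D.B.map (MulAut.conj g).toMonoidHom)
    (by rintro _ ⟨x, hx, rfl⟩; exact hW x (D.B_le_W hx))
    (by rintro _ ⟨x, hx, rfl⟩; rw [← map_mul, hBsq x hx, map_one])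
    (by rw [card_map_of_injective (MulAut.conj g).injective]; exact D.card_B.ge)
  have hne : D.A ≠ D.B := fun e => by
    have h26 : f 26 ∈ D.A ⊓ D.B := ⟨D.o_mem_A, e ▸ D.o_mem_A⟩
    rw [D.A_inf_B] at h26
    exact D.o_not_U h26
  have hne' : D.A.map (MulAut.conj g).toMonoidHom ≠ D.B.map (MulAut.conj g).toMonoidHom :=
    fun e => hne (map_injective (MulAut.conj g).injective e)
  rcases hPA with hA | hA <;> rcases hPB with hB | hB
  · exact absurd (hA.trans hB.symm) hne'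
  · refine ⟨1, Or.inl rfl, ?_, ?_⟩ <;> rw [one_mul]
    · exact D.mem_normalizer_A fun x hx => hA ▸ mem_map_of_mem _ hx
    · exact SEBrick.mem_normalizer_of fun x hx => hB ▸ mem_map_of_mem _ hx
  · refine ⟨f 5, Or.inr rfl, D.mem_normalizer_A fun x hx => ?_, SEBrick.mem_normalizer_of fun x hx => ?_⟩
    · rw [show f 5 * g * x * (f 5 * g)⁻¹ = f 5 * (g * x * g⁻¹) * (f 5)⁻¹ by group]
      exact D.q_B (hA ▸ mem_map_of_mem _ hx)
    · rw [show f 5 * g * x * (f 5 * g)⁻¹ = f 5 * (g * x * g⁻¹) * (f 5)⁻¹ by group]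
      exact D.q_A (hB ▸ mem_map_of_mem _ hx)
  · exact absurd (hA.trans hB.symm) hne'

/-- A 2-element normalising both subgroups centralises the second centre. -/
theorem two_fixes {t : G} (hA : t ∈ normalizer (D.A : Set G)) (hB : t ∈ normalizer (D.B : Set G)) (h2 : TwoEl t) :
    Fixes f t := by
  haveI : Fact (Nat.Prime 2) := ⟨Nat.prime_two⟩
  obtain ⟨g, hg⟩ := D.emb.exists_conj_le D.odd (IsPGroup.to_sup_of_normal_left' D.W_two h2.isPGroup
    (zpowers_le.2 (D.normalizer_W hA hB)))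
  obtain ⟨k, hk, hkA, hkB⟩ := D.move_pair fun w hw => hg w (mem_sup_left hw)
  have hkt : k * g * t * (k * g)⁻¹ ∈ D.W := by
    obtain ⟨s, hs, e⟩ : k * g * t * (k * g)⁻¹ ∈ D.emb.range := by
      rw [show k * g * t * (k * g)⁻¹ = k * (g * t * g⁻¹) * k⁻¹ by group]
      have h5 : k ∈ D.emb.range := by
        rcases hk with rfl | rfl
        exacts [one_mem _, D.emb.apply_mem (by omega)]
      exact mul_mem (mul_mem h5 (hg t (mem_sup_right (mem_zpowers t)))) (inv_mem h5)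
    rw [← e, D.f_mem_W hs]
    refine norm_inW s hs ((D.f_mem_A (show cj s 26 < 128 from mulN_lt _ _)).1 ?_)
    rw [D.emb.conj hs (by omega), e]
    exact conj_mem_normalizer (mul_mem (mul_mem hkA hA) (inv_mem hkA)) D.o_mem_A
  have key : ∀ x ∈ D.U, t * x = x * t := by
    intro x hx
    have h1 := Emb.conj_comm (k * g)⁻¹ (D.U_comm_W (conj_mem_normalizer (D.normalizer_U hkA hkB) hx) hkt)
    rwa [inv_inv, show (k * g)⁻¹ * (k * g * t * (k * g)⁻¹) * (k * g) = t by group,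
      show (k * g)⁻¹ * (k * g * x * (k * g)⁻¹) * (k * g) = x by group] at h1
  exact ⟨key _ D.z_mem_U, key _ D.u_mem_U⟩

/-- The three-cycle on the second centre. -/
theorem exists_h : ∃ h : G, h ∈ normalizer (D.A : Set G) ∧ h ∈ normalizer (D.B : Set G) ∧ Odd (orderOf h) ∧
    h * f 1 * h⁻¹ = f 2 ∧ h * f 2 * h⁻¹ = f 8 ∧ h * f 8 * h⁻¹ = f 1 := by
  haveI : Fact (Nat.Prime 2) := ⟨Nat.prime_two⟩
  obtain ⟨g0, hg0⟩ := D.u_conj
  obtain ⟨S, hS⟩ := D.emb.exists_sylow_range D.odd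
  obtain ⟨c, hc, hcle⟩ := SolvCores.exists_conj_le (S := S) (hS.le.trans (range_le_cz D.emb))
    (D.W_two.map (MulAut.conj g0).toMonoidHom) (by
      rintro _ ⟨w, hw, rfl⟩
      rw [mem_centralizer_singleton_iff, ← hg0]
      exact Emb.conj_comm g0 (D.fixes_W hw).2)
  rw [hS] at hcle
  have hcz := mem_centralizer_singleton_iff.1 hc
  obtain ⟨k, hk, hkA, hkB⟩ := D.move_pair (g := c * g0) fun w hw => by
    rw [show c * g0 * w * (c * g0)⁻¹ = c * (g0 * w * g0⁻¹) * c⁻¹ by group]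
    exact hcle ⟨_, ⟨w, hw, rfl⟩, rfl⟩
  have hkz : k * f 2 = f 2 * k := by
    rcases hk with rfl | rfl
    exacts [by simp, D.lab_comm (by omega)]
  set g := k * (c * g0)
  have hgu : g * f 1 * g⁻¹ = f 2 := by
    rw [show g * f 1 * g⁻¹ = k * (c * (g0 * f 1 * g0⁻¹) * c⁻¹) * k⁻¹ by simp only [g]; group, hg0, hcz,
      mul_inv_cancel_right, hkz, mul_inv_cancel_right]
  obtain ⟨t, r, e, ht, hr, ht2, hro⟩ := ClosedAbelian.exists_parts g
  have htN := zpowers_le.2 hkA ht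
  have htN' := zpowers_le.2 hkB ht
  have hrN := zpowers_le.2 hkA hr
  have hrN' := zpowers_le.2 hkB hr
  have htf := D.two_fixes htN htN' ht2
  have hru : r * f 1 * r⁻¹ = f 2 := by
    have h1 : r * f 1 * r⁻¹ = t⁻¹ * (g * f 1 * g⁻¹) * t := by rw [← e]; group
    rw [h1, hgu, mul_assoc, ← htf.1, inv_mul_cancel_left]
  have hrU := D.normalizer_U hrN hrN'
  have hinj : ∀ {x y : G}, r * x * r⁻¹ = r * y * r⁻¹ → x = y := fun h => mul_left_cancel (mul_right_cancel h)
  have hne : ∀ a b : ℕ, a < 128 → b < 128 → a ≠ b → f a ≠ f b := fun a b ha hb h e => h (D.emb.inj a b ha hb e)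
  have hrz : r * f 2 * r⁻¹ = f 8 := by
    rcases D.U_cases (conj_mem_normalizer hrU D.z_mem_U) with h | h | h | h
    · exact absurd (conj_eq_one_iff.1 h) fun e' => absurd ((D.emb.eq_one_iff (by omega)).1 e') (by omega)
    · exact absurd (hinj (h.trans hru.symm)) (hne 2 1 (by omega) (by omega) (by omega))
    · exfalso
      have h2 : r * r ∈ centralizer ({f 1} : Set G) := by
        rw [mem_centralizer_singleton_iff, ← mul_inv_eq_iff_eq_mul,
          show r * r * f 1 * (r * r)⁻¹ = r * (r * f 1 * r⁻¹) * r⁻¹ by group, hru, h]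
      have h3 := mem_centralizer_singleton_iff.1 (mem_of_sq_mem h2 hro)
      rw [h3, mul_inv_cancel_right] at hru
      exact hne 1 2 (by omega) (by omega) (by omega) hru
    · exact h
  refine ⟨r, hrN, hrN', hro, hru, hrz, ?_⟩
  rw [show (8 : ℕ) = mulN 1 2 from u_facts.2.2.2.1.symm, D.emb.hom 1 2 (by omega) (by omega),
    show r * (f 1 * f 2) * r⁻¹ = r * f 1 * r⁻¹ * (r * f 2 * r⁻¹) by group, hru, hrz,
    ← D.emb.hom 2 8 (by omega) (by omega), show mulN 2 8 = 1 by decide +kernel]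

/-- The involutions of the second centre are conjugate to the central one. -/
theorem conj_U {a : G} (ha : a ∈ D.U) (ha1 : a ≠ 1) :
    ∃ g : G, g ∈ normalizer (D.A : Set G) ∧ g ∈ normalizer (D.B : Set G) ∧ g * f 2 * g⁻¹ = a := by
  obtain ⟨h, hA, hB, -, hu, hz, huz⟩ := D.exists_h
  rcases D.U_cases ha with rfl | rfl | rfl | rfl
  · exact absurd rfl ha1
  · exact ⟨1, one_mem _, one_mem _, by group⟩
  · exact ⟨h * h, mul_mem hA hA, mul_mem hB hB, by
      rw [show h * h * f 2 * (h * h)⁻¹ = h * (h * f 2 * h⁻¹) * h⁻¹ by group, hz, huz]⟩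
  · exact ⟨h, hA, hB, hz⟩

/-- In an overgroup of the centraliser holding the three-cycle, an involution of the Sylow subgroup is conjugate
to one of two. -/
theorem red {M : Subgroup G} (hC : centralizer ({f 2} : Set G) ≤ M) {h : G} (hh : h ∈ M)
    (hu : h * f 1 * h⁻¹ = f 2) {s : G} (hs : s ∈ D.emb.range) (hs2 : s * s = 1) (hs1 : s ≠ 1) :
    ∃ m ∈ M, m * s * m⁻¹ = f 2 ∨ m * s * m⁻¹ = f 26 := by
  obtain ⟨i, hi, rfl⟩ := hs
  have hS : ∀ j, j < 128 → f j ∈ M := fun j hj => hC (range_le_cz D.emb (D.emb.apply_mem hj))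
  have hAcase : ∀ a ∈ D.A, a ≠ 1 → ∃ m ∈ M, m * a * m⁻¹ = f 2 ∨ m * a * m⁻¹ = f 26 := by
    intro a ha ha1
    by_cases haU : a ∈ D.U
    · rcases D.U_cases haU with rfl | rfl | rfl | rfl
      · exact absurd rfl ha1
      · exact ⟨1, one_mem _, Or.inl (by group)⟩
      · exact ⟨h, hh, Or.inl hu⟩
      · refine ⟨h * f 3, mul_mem hh (hS 3 (by omega)), Or.inl ?_⟩
        rw [show h * f 3 * f 8 * (h * f 3)⁻¹ = h * (f 3 * f 8 * (f 3)⁻¹) * h⁻¹ by group,
          ← D.emb.conj (by omega) (by omega), u_facts.2.2.2.2.2.2.1, hu]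
    · obtain ⟨g, -, hg, e⟩ := D.conj_out ha haU D.o_mem_A D.o_not_U
      exact ⟨g, hC (mem_centralizer_singleton_iff.2 hg.1), Or.inr e⟩
  have hii : mulN i i = 0 := (D.emb.sq_one_iff hi).1 hs2
  cases hW : inW i
  · obtain ⟨v, hv, e⟩ := outside_check i hi hii (by
      intro e'; rw [inW, e', Nat.beq_refl] at hW; exact Bool.noConfusion hW)
    obtain ⟨g5, hg5, e5⟩ := D.emb.exists_fuse D.odd D.index_ne_two
    refine ⟨h * g5 * (f v)⁻¹, mul_mem (mul_mem hh (hC (mem_centralizer_singleton_iff.2 hg5))) (inv_mem (hS v hv)),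
      Or.inl ?_⟩
    rw [← e, D.emb.conj hv (by omega), show h * g5 * (f v)⁻¹ * (f v * f 5 * (f v)⁻¹) * (h * g5 * (f v)⁻¹)⁻¹ =
      h * (g5 * f 5 * g5⁻¹) * h⁻¹ by group, e5, hu]
  · rcases invol_inW i hi hii hW with hp | hp
    · exact hAcase _ ((D.f_mem_A hi).2 hp) hs1
    · obtain ⟨m, hm, e⟩ := hAcase _ (D.q_B ((D.f_mem_B hi).2 hp)) fun e => hs1 (conj_eq_one_iff.1 e)
      refine ⟨m * f 5, mul_mem hm (hS 5 (by omega)), ?_⟩
      rwa [show m * f 5 * f i * (m * f 5)⁻¹ = m * (f 5 * f i * (f 5)⁻¹) * m⁻¹ by group]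

/-- There are at most two classes of involutions. -/
theorem classes {t : G} (ht : orderOf t = 2) : ∃ g : G, g * t * g⁻¹ = f 2 ∨ g * t * g⁻¹ = f 26 := by
  obtain ⟨h, -, -, -, hu, -, -⟩ := D.exists_h
  obtain ⟨g, hg⟩ := D.emb.exists_conj_le D.odd
    (IsPGroup.of_card (n := 1) (p := 2) (by rw [Nat.card_zpowers, ht, pow_one]) : IsPGroup 2 (zpowers t))
  obtain ⟨m, -, e⟩ := D.red (M := ⊤) le_top (mem_top h) hu (hg t (mem_zpowers t))
    (by rw [show g * t * g⁻¹ * (g * t * g⁻¹) = g * (t * t) * g⁻¹ by group, ← pow_two, ← ht, pow_orderOf_eq_one]; group)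
    (fun e => Invol.ne_one ht (conj_eq_one_iff.1 e))
  exact ⟨m * g, by rwa [show m * g * t * (m * g)⁻¹ = m * (g * t * g⁻¹) * m⁻¹ by group]⟩

end Setup

end Cfsg.Agent.J2Core
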