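import Cfsg.Agent.Lib.J2Core.Bar
import Cfsg.Agent.Lib.SolvCores.Main

/-!
Odd subgroups of the centraliser of the central involution normalised by a large 2-group lie in the odd core; and
the element of order three of the stabiliser of a point.
-/

set_option autoImplicit false
set_option linter.style.haveILetI false
set_option linter.unusedSectionVars false

namespace Cfsg.Agent.J2Core

open Subgroup
open Cfsg.Agent.J2Type
open Cfsg.Agent.J2Type.Cen (act4)
open Cfsg.Agent.ClosedAbelian (TwoEl core mem_of_sq_mem odd_orderOf_of_mem)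

universe u

/-- The four-group of two commuting involutions. -/
def fourOf {H : Type*} [Group H] (a b : H) (ha : a * a = 1) (hb : b * b = 1) (hab : a * b = b * a) : Subgroup H where
  carrier := {x | x = 1 ∨ x = a ∨ x = b ∨ x = a * b}
  one_mem' := Or.inl rfl
  mul_mem' := by
    have hc : Commute a b := hab
    have e1 : b * (a * b) = a := by rw [← mul_assoc, ← hc.eq, mul_assoc, hb, mul_one]
    have e2 : a * (a * b) = b := by rw [← mul_assoc, ha, one_mul]
    have e3 : a * b * a = b := by rw [hc.eq, mul_assoc, ha, mul_one]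
    have e4 : a * b * b = a := by rw [mul_assoc, hb, mul_one]
    have e5 : a * b * (a * b) = 1 := by rw [← mul_assoc, e3, hb]
    rintro x y (rfl | rfl | rfl | rfl) (rfl | rfl | rfl | rfl)
    all_goals simp only [Set.mem_setOf_eq, one_mul, mul_one, ha, hb, hab.symm, e1, e2, e3, e4, e5, true_or, or_true]
  inv_mem' := by
    have hab' : (a * b)⁻¹ = a * b := by
      rw [_root_.mul_inv_rev, inv_eq_of_mul_eq_one_right ha, inv_eq_of_mul_eq_one_right hb, hab]
    rintro x (rfl | rfl | rfl | rfl)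
    all_goals simp only [Set.mem_setOf_eq, inv_one, inv_eq_of_mul_eq_one_right ha,
      inv_eq_of_mul_eq_one_right hb, hab', true_or, or_true]

theorem mem_fourOf {H : Type*} [Group H] {a b : H} {ha hb hab} {x : H} :
    x ∈ fourOf a b ha hb hab ↔ x = 1 ∨ x = a ∨ x = b ∨ x = a * b := Iff.rfl

theorem four_ea {H : Type*} [Group H] {a b : H} (ha : a * a = 1) (hb : b * b = 1) (hab : a * b = b * a) :
    Cfsg.IsElementaryAbelian 2 (fourOf a b ha hb hab) := by
  have hsq : ∀ x ∈ fourOf a b ha hb hab, x * x = 1 := by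
    rintro x (rfl | rfl | rfl | rfl)
    · exact one_mul 1
    · exact ha
    · exact hb
    · calc a * b * (a * b) = a * (b * a) * b := by group
        _ = a * a * (b * b) := by rw [← hab]; group
        _ = 1 := by rw [ha, hb, one_mul]
  refine ⟨.of_setLike_mul_comm fun x hx y hy => ?_, fun x hx => by rw [pow_two]; exact hsq x hx⟩
  calc x * y = (x * y)⁻¹ := (inv_eq_of_mul_eq_one_right (hsq _ (mul_mem hx hy))).symm
    _ = y * x := by
      rw [_root_.mul_inv_rev, inv_eq_of_mul_eq_one_right (hsq x hx), inv_eq_of_mul_eq_one_right (hsq y hy)]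

theorem four_card {H : Type*} [Group H] [Finite H] {a b : H} (ha : a * a = 1) (hb : b * b = 1)
    (hab : a * b = b * a) (ha1 : a ≠ 1) (hb1 : b ≠ 1) (hne : a ≠ b) :
    4 ≤ Nat.card (fourOf a b ha hb hab) := by
  rw [show Nat.card (fourOf a b ha hb hab) = ((fourOf a b ha hb hab : Subgroup H) : Set H).ncard from
    Nat.card_coe_set_eq _]
  refine le_trans (le_of_eq ?_) (Set.ncard_le_ncard (show ({1, a, b, a * b} : Set H) ⊆ _ from ?_))
  · have hab1 : a * b ≠ 1 := fun e => hne (by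
      rw [eq_comm, ← inv_eq_of_mul_eq_one_right e, inv_eq_of_mul_eq_one_right ha])
    rw [Set.ncard_insert_of_notMem (by simp [Ne.symm ha1, Ne.symm hb1, Ne.symm hab1]),
      Set.ncard_insert_of_notMem (by simp [hne, hb1]), Set.ncard_pair (by simp [ha1])]
  · intro x hx
    simp only [Set.mem_insert_iff, Set.mem_singleton_iff] at hx
    exact hx

variable {G : Type u} [Group G] [Finite G] {f : ℕ → G}

namespace Setup

variable (D : Setup f)
include D

/-- Lemma R: an odd subgroup normalised by two elements acting as two commuting involutions on the points. -/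
theorem lemR {X : Subgroup G} (hX : ¬ 2 ∣ Nat.card X) (hXC : X ≤ centralizer ({f 2} : Set G)) {a b : G}
    (ha : a * f 2 = f 2 * a) (hb : b * f 2 = f 2 * b) (haX : a ∈ normalizer (X : Set G))
    (hbX : b ∈ normalizer (X : Set G)) (ha1 : D.perm ha ≠ 1) (hb1 : D.perm hb ≠ 1)
    (hne : D.perm ha ≠ D.perm hb) (ha2 : D.perm ha * D.perm ha = 1) (hb2 : D.perm hb * D.perm hb = 1)
    (hab : D.perm ha * D.perm hb = D.perm hb * D.perm ha) : X ≤ Kf (f 2) := by
  haveI : Fact (Nat.Prime 2) := ⟨Nat.prime_two⟩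
  set C := centralizer ({f 2} : Set G)
  set X' := (X.subgroupOf C).map D.bar
  have hX' : ¬ 2 ∣ Nat.card X' := fun hd => hX (hd.trans ((card_map_dvd _ D.bar).trans
    (Nat.card_congr (subgroupOfEquivOfLe hXC).toEquiv).dvd))
  have hnorm : ∀ c (hc : c * f 2 = f 2 * c), c ∈ normalizer (X : Set G) → D.perm hc ∈ normalizer (X' : Set _) := by
    intro c hc hcX
    refine SEBrick.mem_normalizer_of ?_
    rintro _ ⟨x, hx, rfl⟩
    refine ⟨⟨c, mem_centralizer_singleton_iff.2 hc⟩ * x * ⟨c, mem_centralizer_singleton_iff.2 hc⟩⁻¹,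
      conj_mem_normalizer hcX hx, ?_⟩
    rw [map_mul, map_mul, map_inv]
    rfl
  set B := fourOf (D.perm ha) (D.perm hb) ha2 hb2 hab
  have hBX : B ≤ normalizer (X' : Set _) := by
    rintro x (rfl | rfl | rfl | rfl)
    exacts [one_mem _, hnorm a ha haX, hnorm b hb hbX, mul_mem (hnorm a ha haX) (hnorm b hb hbX)]
  have hbot : X' ≤ ⊥ := by
    refine Signalizer.le_of_centralizer_le (four_ea ha2 hb2 hab)
      (by norm_num; exact four_card ha2 hb2 hab ha1 hb1 hne) hBX hX' fun c hc hc1 x hx => ?_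
    rw [mem_bot]
    refine eq_one_of_inv (odd_orderOf_of_mem hX' hx.1) (inv_eq_of_mul_eq_one_right ?_)
    exact five_cent c x (by rw [← pow_two]; exact (four_ea ha2 hb2 hab).2 c hc) hc1
      (mem_centralizer_singleton_iff.1 hx.2)
  intro x hx
  refine D.core_of_perm_one (mem_centralizer_singleton_iff.1 (hXC hx)) (odd_orderOf_of_mem hX hx) ?_
  exact mem_bot.1 (hbot ⟨⟨x, hXC hx⟩, hx, rfl⟩)

/-- An elementary abelian subgroup of order sixteen acts on the points as a four-group. -/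
theorem exists_pair {E : Subgroup G} (hEC : E ≤ centralizer ({f 2} : Set G)) (hsq : ∀ x ∈ E, x * x = 1)
    (hc : 16 ≤ Nat.card E) :
    ∃ a ∈ E, ∃ b ∈ E, ∃ (ha : a * f 2 = f 2 * a) (hb : b * f 2 = f 2 * b),
      D.perm ha ≠ 1 ∧ D.perm hb ≠ 1 ∧ D.perm ha ≠ D.perm hb ∧ D.perm ha * D.perm ha = 1 ∧
        D.perm hb * D.perm hb = 1 ∧ D.perm ha * D.perm hb = D.perm hb * D.perm ha := by
  haveI : Fact (Nat.Prime 2) := ⟨Nat.prime_two⟩
  obtain ⟨S, hS⟩ := D.emb.exists_sylow_range D.odd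
  obtain ⟨c, hcC, hcle⟩ := SolvCores.exists_conj_le (S := S) (hS.le.trans (range_le_cz D.emb))
    (fun e => ⟨1, Subtype.ext (by rw [pow_one, pow_two]; exact hsq _ e.2)⟩ : IsPGroup 2 E) hEC
  rw [hS] at hcle
  have hP := D.e16 hcle (by rintro _ ⟨x, hx, rfl⟩; rw [← map_mul, hsq x hx, map_one])
    (by rwa [card_map_of_injective (MulAut.conj c).injective])
  obtain ⟨a, ha, b, hb, hA, hB, hqa, hqb, hqab⟩ : ∃ a, a < 128 ∧ ∃ b, b < 128 ∧
      f a ∈ E.map (MulAut.conj c).toMonoidHom ∧ f b ∈ E.map (MulAut.conj c).toMonoidHom ∧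
      inQ a = false ∧ inQ b = false ∧ inQ (mulN a b) = false := by
    obtain ⟨h75, -, h26q, hpq, h75q⟩ := inA_pair
    rcases hP with h | h <;> rw [h]
    · exact ⟨26, by omega, 75, by omega, D.o_mem_A, (D.f_mem_A (by omega)).2 h75, h26q, h75q, hpq⟩
    · obtain ⟨e1, e2, e3, e4, e5⟩ := inB_pair
      exact ⟨116, by omega, 92, by omega, (D.f_mem_B (by omega)).2 e1, (D.f_mem_B (by omega)).2 e2, e3, e4, e5⟩
  obtain ⟨x, hx, ex⟩ := hA
  obtain ⟨y, hy, ey⟩ := hB
  simp only [MulEquiv.coe_toMonoidHom, MulAut.conj_apply] at ex ey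
  set C := centralizer ({f 2} : Set G)
  have hψx : D.bar ⟨c, hcC⟩ * D.bar ⟨x, hEC hx⟩ * (D.bar ⟨c, hcC⟩)⁻¹ = D.perm (D.lab_comm ha) := by
    rw [← map_inv, ← map_mul, ← map_mul]; exact congrArg D.bar (Subtype.ext ex)
  have hψy : D.bar ⟨c, hcC⟩ * D.bar ⟨y, hEC hy⟩ * (D.bar ⟨c, hcC⟩)⁻¹ = D.perm (D.lab_comm hb) := by
    rw [← map_inv, ← map_mul, ← map_mul]; exact congrArg D.bar (Subtype.ext ey)
  have hψsq : ∀ e (he : e ∈ E), D.bar ⟨e, hEC he⟩ * D.bar ⟨e, hEC he⟩ = 1 := fun e he => by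
    rw [← map_mul, show (⟨e, hEC he⟩ : ↥C) * ⟨e, hEC he⟩ = 1 from Subtype.ext (hsq e he), map_one]
  have hxy : x * y = y * x := by
    calc x * y = (x * y)⁻¹ := (inv_eq_of_mul_eq_one_right (hsq _ (mul_mem hx hy))).symm
      _ = y * x := by
        rw [_root_.mul_inv_rev, inv_eq_of_mul_eq_one_right (hsq x hx), inv_eq_of_mul_eq_one_right (hsq y hy)]
  refine ⟨x, hx, y, hy, mem_centralizer_singleton_iff.1 (hEC hx), mem_centralizer_singleton_iff.1 (hEC hy),
    fun e => ?_, fun e => ?_, fun e => ?_, hψsq x hx, hψsq y hy, ?_⟩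
  · have h1 : D.perm (D.lab_comm ha) = 1 := by
      rw [← hψx, show D.bar ⟨x, hEC hx⟩ = 1 from e, mul_one, mul_inv_cancel]
    rw [(D.perm_lab_one ha).1 h1] at hqa; exact Bool.noConfusion hqa
  · have h1 : D.perm (D.lab_comm hb) = 1 := by
      rw [← hψy, show D.bar ⟨y, hEC hy⟩ = 1 from e, mul_one, mul_inv_cancel]
    rw [(D.perm_lab_one hb).1 h1] at hqb; exact Bool.noConfusion hqb
  · have hab : D.perm (D.lab_comm (mulN_lt a b)) = D.perm (D.lab_comm ha) * D.perm (D.lab_comm hb) := by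
      rw [← D.perm_mul _ _ (by rw [← D.emb.hom a b ha hb]; exact D.lab_comm (mulN_lt _ _))]
      exact D.perm_congr (D.emb.hom a b ha hb) _ _
    have h1 : D.perm (D.lab_comm (mulN_lt a b)) = 1 := by
      rw [hab, ← hψx, ← hψy, show D.bar ⟨x, hEC hx⟩ = D.bar ⟨y, hEC hy⟩ from e]
      rw [show ∀ g t : alternatingGroup (Fin 5), g * t * g⁻¹ * (g * t * g⁻¹) = g * (t * t) * g⁻¹ from
        fun g t => by group, hψsq y hy, mul_one, mul_inv_cancel]
    rw [(D.perm_lab_one (mulN_lt a b)).1 h1] at hqab; exact Bool.noConfusion hqab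
  · show D.bar _ * D.bar _ = D.bar _ * D.bar _
    rw [← map_mul, ← map_mul]; exact congrArg D.bar (Subtype.ext hxy)

/-- Lemma R for an elementary abelian subgroup of order sixteen. -/
theorem lemR_e16 {X E : Subgroup G} (hX : ¬ 2 ∣ Nat.card X) (hXC : X ≤ centralizer ({f 2} : Set G))
    (hEC : E ≤ centralizer ({f 2} : Set G)) (hsq : ∀ x ∈ E, x * x = 1) (hc : 16 ≤ Nat.card E)
    (hEX : E ≤ normalizer (X : Set G)) : X ≤ Kf (f 2) := by
  obtain ⟨a, ha, b, hb, ha', hb', h1, h2, h3, h4, h5, h6⟩ := D.exists_pair hEC hsq hc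
  exact D.lemR hX hXC ha' hb' (hEX ha) (hEX hb) h1 h2 h3 h4 h5 h6

/-- Lemma R for two elements of order four squaring outside the centre. -/
theorem lemR_four {X : Subgroup G} (hX : ¬ 2 ∣ Nat.card X) (hXC : X ≤ centralizer ({f 2} : Set G)) {a b w : G}
    (ha : a * f 2 = f 2 * a) (hb : b * f 2 = f 2 * b) (haX : a ∈ normalizer (X : Set G))
    (hbX : b ∈ normalizer (X : Set G)) (haw : a * a = w) (hbw : b * b = w) (habw : a⁻¹ * b * (a⁻¹ * b) = w)
    (hw : w * w = 1) (hw1 : w ≠ 1) (hwz : w ≠ f 2) : X ≤ Kf (f 2) := by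
  set C := centralizer ({f 2} : Set G)
  have hc : a⁻¹ * b * f 2 = f 2 * (a⁻¹ * b) :=
    mem_centralizer_singleton_iff.1 (mul_mem (inv_mem (mem_centralizer_singleton_iff.2 ha))
      (mem_centralizer_singleton_iff.2 hb))
  have key : ∀ x (hx : x * f 2 = f 2 * x), x * x = w → D.perm hx ≠ 1 ∧ D.perm hx * D.perm hx = 1 := by
    intro x hx hxx
    refine ⟨fun e => ?_, five_four _ ?_⟩
    · rcases D.sq_of_perm_one hx ⟨2, by
        rw [show (2 : ℕ) ^ 2 = 2 * 2 from rfl, pow_mul, pow_two, pow_two, hxx, hw]⟩ e with h | h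
      exacts [hw1 (hxx ▸ h), hwz (hxx ▸ h)]
    · show D.bar _ * D.bar _ * (D.bar _ * D.bar _) = 1
      rw [← map_mul, ← map_mul, ← map_one D.bar]
      exact congrArg D.bar (Subtype.ext (show x * x * (x * x) = 1 by rw [hxx, hw]))
  obtain ⟨ha1, ha2⟩ := key a ha haw
  obtain ⟨hb1, hb2⟩ := key b hb hbw
  obtain ⟨hc1, hc2⟩ := key _ hc habw
  have hcm : D.perm hc = D.perm ha * D.perm hb := by
    rw [← inv_eq_of_mul_eq_one_right ha2]
    show D.bar _ = (D.bar _)⁻¹ * D.bar _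
    rw [← map_inv, ← map_mul]; rfl
  refine D.lemR hX hXC ha hb haX hbX ha1 hb1 (fun e => hc1 (by rw [hcm, ← e, ha2])) ha2 hb2 ?_
  rw [hcm] at hc2
  calc D.perm ha * D.perm hb = (D.perm ha * D.perm hb)⁻¹ := (inv_eq_of_mul_eq_one_right hc2).symm
    _ = D.perm hb * D.perm ha := by
      rw [_root_.mul_inv_rev, inv_eq_of_mul_eq_one_right ha2, inv_eq_of_mul_eq_one_right hb2]

/-- The image of an elementary abelian subgroup modulo the core. -/
theorem exists_image {E : Subgroup G} (hE : E ≤ D.emb.range) (hsq : ∀ x ∈ E, x * x = 1) (hc : 16 ≤ Nat.card E)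
    {n : G} (hn : n * f 2 = f 2 * n) (hn4 : ((D.perm hn : alternatingGroup (Fin 5)) : Equiv.Perm (Fin 5)) 4 = 4) :
    ∃ P : Subgroup G, (P = D.A ∨ P = D.B) ∧ ∀ x ∈ E, ∃ k ∈ Kf (f 2), ∃ p ∈ P, n * x * n⁻¹ = k * p := by
  haveI : Fact (Nat.Prime 2) := ⟨Nat.prime_two⟩
  set C := centralizer ({f 2} : Set G)
  have hK := ClosedAbelian.core_normalized C
  have hS := range_le_cz D.emb
  have hnC : n ∈ C := mem_centralizer_singleton_iff.2 hn
  have hstep : ∀ x ∈ E, ∃ k ∈ Kf (f 2), ∃ p ∈ D.emb.range, n * x * n⁻¹ = k * p := by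
    intro x hx
    obtain ⟨a, ha, rfl⟩ := hE hx
    have hy : n * f a * n⁻¹ * f 2 = f 2 * (n * f a * n⁻¹) := mem_centralizer_singleton_iff.1
      (mul_mem (mul_mem hnC (hS (D.emb.apply_mem ha))) (inv_mem hnC))
    have hact : ((D.perm hy : alternatingGroup (Fin 5)) : Equiv.Perm (Fin 5)) ∈ act4 := by
      rw [show D.perm hy = D.perm hn * D.perm (D.lab_comm ha) * (D.perm hn)⁻¹ by
        show D.bar _ = D.bar _ * D.bar _ * (D.bar _)⁻¹
        rw [← map_inv, ← map_mul, ← map_mul]; rfl]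
      exact (five_stab _ _ hn4).1 (D.perm_lab_mem ha)
    obtain ⟨b, hb, -, eb⟩ := D.exists_A_perm hact
    have hyb : n * f a * n⁻¹ * (f b)⁻¹ * f 2 = f 2 * (n * f a * n⁻¹ * (f b)⁻¹) := mem_centralizer_singleton_iff.1
      (mul_mem (mul_mem (mul_mem hnC (hS (D.emb.apply_mem ha))) (inv_mem hnC)) (inv_mem (hS (D.emb.apply_mem hb))))
    have h1 : D.perm hyb = 1 := by
      rw [show D.perm hyb = D.perm hy * (D.perm (D.lab_comm hb))⁻¹ by
        show D.bar _ = D.bar _ * (D.bar _)⁻¹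
        rw [← map_inv, ← map_mul]; rfl, eb, mul_inv_cancel]
    obtain ⟨k, hk, c, hc', -, e⟩ := (D.perm_eq_one hyb).1 h1
    exact ⟨k, hk, f c * f b, mul_mem (D.emb.apply_mem hc') (D.emb.apply_mem hb),
      by rw [← mul_assoc, ← e, inv_mul_cancel_right]⟩
  -- the image inside the Sylow subgroup
  let P := (E.map (MulAut.conj n).toMonoidHom ⊔ Kf (f 2)) ⊓ D.emb.range
  have hPdef : P = (Kf (f 2) ⊔ E.map (MulAut.conj n).toMonoidHom) ⊓ D.emb.range := by rw [sup_comm]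
  have hEn : ∀ x ∈ E, ∃ k ∈ Kf (f 2), ∃ p ∈ P, n * x * n⁻¹ = k * p := by
    intro x hx
    obtain ⟨k, hk, p, hp, e⟩ := hstep x hx
    refine ⟨k, hk, p, ⟨?_, hp⟩, e⟩
    rw [show p = k⁻¹ * (n * x * n⁻¹) by rw [e, inv_mul_cancel_left]]
    exact mul_mem (mem_sup_right (inv_mem hk)) (mem_sup_left ⟨x, hx, rfl⟩)
  refine ⟨P, D.e16 inf_le_right (fun p hp => ?_) ?_, hEn⟩
  · obtain ⟨hp1, hpS⟩ := hp
    have hEnK : E.map (MulAut.conj n).toMonoidHom ≤ normalizer (Kf (f 2) : Set G) := by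
      rintro _ ⟨x, hx, rfl⟩
      exact hK (mul_mem (mul_mem hnC (hS (hE hx))) (inv_mem hnC))
    obtain ⟨k, hk, _, ⟨x, hx, rfl⟩, e⟩ := (SolvBasic.mem_sup_iff_of_le_normalizer hEnK).1 (by rw [sup_comm]; exact hp1)
    simp only [MulEquiv.coe_toMonoidHom, MulAut.conj_apply] at e
    have hmem : p * p ∈ Kf (f 2) := by
      rw [e, show k * (n * x * n⁻¹) * (k * (n * x * n⁻¹)) =
          k * ((n * x * n⁻¹) * k * (n * x * n⁻¹)⁻¹) * (n * (x * x) * n⁻¹) by group,
        hsq x hx, mul_one, mul_inv_cancel, mul_one]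
      exact mul_mem hk (conj_mem_normalizer (hEnK ⟨x, hx, rfl⟩) hk)
    obtain ⟨c, hc', rfl⟩ := hpS
    rw [← D.emb.hom c c hc' hc'] at hmem ⊢
    rw [D.core_inf (mulN_lt _ _) hmem, D.emb.one]
  · classical
    choose k hk p hp e using hEn
    refine hc.trans (Nat.card_le_card_of_injective (fun x : E => (⟨p x x.2, hp x x.2⟩ : P)) ?_)
    rintro ⟨x, hx⟩ ⟨y, hy⟩ hxy
    have hpp : p x hx = p y hy := congrArg Subtype.val hxy
    refine Subtype.ext (mul_inv_eq_one.1 ((ClosedAbelian.twoEl_of_sq (hsq _ (mul_mem hx (inv_mem hy)))).eq_one_of_odd ?_))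
    have h1 : n * (x * y⁻¹) * n⁻¹ ∈ Kf (f 2) := by
      rw [show n * (x * y⁻¹) * n⁻¹ = n * x * n⁻¹ * (n * y * n⁻¹)⁻¹ by group, e x hx, e y hy, hpp,
        show k x hx * p y hy * (k y hy * p y hy)⁻¹ = k x hx * (k y hy)⁻¹ by group]
      exact mul_mem (hk x hx) (inv_mem (hk y hy))
    rw [← Invol.order_conj n (x * y⁻¹)]
    exact odd_orderOf_of_mem (ClosedAbelian.core_odd _) h1

/-- An element of the point stabiliser centralising the second centre and fixed-point-free on the first subgroup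
modulo it. -/
theorem exists_d : ∃ d : G, d * f 2 = f 2 * d ∧ d * f 1 = f 1 * d ∧ d ∈ normalizer (D.A : Set G) ∧
    ∀ a ∈ D.A, a ∉ D.U → d * a * d⁻¹ * a⁻¹ ∉ D.U := by
  classical
  haveI : Fact (Nat.Prime 2) := ⟨Nat.prime_two⟩
  set C := centralizer ({f 2} : Set G)
  have hK := ClosedAbelian.core_normalized C
  have hKC := ClosedAbelian.core_le C
  have hS := range_le_cz D.emb
  obtain ⟨γ, hγ4, hγ⟩ := five_cycle
  obtain ⟨⟨x0, hx0C⟩, hx0⟩ := D.barData.surj γ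
  have hx0c := mem_centralizer_singleton_iff.1 hx0C
  obtain ⟨k1, hk1, hu⟩ := (D.perm_four hx0c).1 (by
    show ((D.bar _ : alternatingGroup (Fin 5)) : Equiv.Perm (Fin 5)) 4 = 4
    rw [hx0]; exact hγ4)
  -- adjust to fix the involution modulo the core
  obtain ⟨n, hnC, hn, hnu⟩ : ∃ (n : G) (hnC : n ∈ C), D.bar ⟨n, hnC⟩ = γ ∧
      ∃ k ∈ Kf (f 2), n * f 1 * n⁻¹ = k * f 1 := by
    rcases hu with e | e
    · exact ⟨x0, hx0C, hx0, k1, hk1, e⟩
    · have h3 : f 3 ∈ C := hS (D.emb.apply_mem (by omega))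
      refine ⟨x0 * f 3, mul_mem hx0C h3, ?_, k1, hk1, ?_⟩
      · rw [show (⟨x0 * f 3, mul_mem hx0C h3⟩ : ↥C) = ⟨x0, hx0C⟩ * ⟨f 3, h3⟩ from rfl, map_mul, hx0,
          show D.bar ⟨f 3, h3⟩ = 1 from (D.perm_lab_one (show 3 < 128 by omega)).2 inA_mem.2.2.2.2.2.2.2.2.2.2,
          mul_one]
      · rw [show x0 * f 3 * f 1 * (x0 * f 3)⁻¹ = x0 * (f 3 * f 1 * (f 3)⁻¹) * x0⁻¹ by group,
          ← D.emb.conj (by omega) (by omega), u_facts.2.2.2.2.2.1, show (8 : ℕ) = mulN 1 2 from u_facts.2.2.2.1.symm,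
          D.emb.hom 1 2 (by omega) (by omega),
          show x0 * (f 1 * f 2) * x0⁻¹ = x0 * f 1 * x0⁻¹ * (x0 * f 2 * x0⁻¹) by group, e,
          hx0c, mul_inv_cancel_right, mul_assoc, ← D.emb.hom 8 2 (by omega) (by omega), u_facts.2.2.2.2.1]
  have hn4 : ∀ m (hm : m * f 2 = f 2 * m), D.perm hm = γ ∨ D.perm hm = γ * γ →
      ((D.perm hm : alternatingGroup (Fin 5)) : Equiv.Perm (Fin 5)) 4 = 4 := by
    rintro m hm (h | h) <;> rw [h]
    · exact hγ4
    · rw [Subgroup.coe_mul, Equiv.Perm.mul_apply, hγ4, hγ4]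
  have hnc := mem_centralizer_singleton_iff.1 hnC
  have hn2C : n * n ∈ C := mul_mem hnC hnC
  have hnp : D.perm hnc = γ := hn
  have hn2p : D.perm (mem_centralizer_singleton_iff.1 hn2C) = γ * γ := by
    show D.bar _ = _
    rw [← hn, ← map_mul]; rfl
  obtain ⟨k2, hk2, hnu⟩ := hnu
  -- the image of both subgroups
  obtain ⟨P, hP, hPA⟩ := D.exists_image D.A_le (fun x hx => D.A_mul_self hx) D.card_A.ge hnc (hn4 _ _ (Or.inl hnp))
  have hBsq : ∀ x ∈ D.B, x * x = 1 := by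
    rintro _ ⟨a, ha, pa, rfl⟩
    exact (D.emb.sq_one_iff ha).2 (inB_closed a ha a ha pa pa).2.2
  obtain ⟨R, hR, hRB⟩ := D.exists_image D.B_le hBsq D.card_B.ge hnc (hn4 _ _ (Or.inl hnp))
  obtain ⟨m, hmC, hmp, hmu, hmA⟩ : ∃ (m : G) (hmC : m ∈ C),
      (D.bar ⟨m, hmC⟩ = γ ∨ D.bar ⟨m, hmC⟩ = γ * γ) ∧ (∃ k ∈ Kf (f 2), m * f 1 * m⁻¹ = k * f 1) ∧
        ∀ a ∈ D.A, m * a * m⁻¹ ∈ Kf (f 2) ⊔ D.A := by
    rcases hP with rfl | rfl
    · refine ⟨n, hnC, Or.inl hn, ⟨k2, hk2, hnu⟩, fun a ha => ?_⟩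
      obtain ⟨k, hk, p, hp, e⟩ := hPA a ha
      rw [e]; exact mul_mem (mem_sup_left hk) (mem_sup_right hp)
    · refine ⟨n * n, hn2C, Or.inr hn2p, ⟨n * k2 * n⁻¹ * k2, mul_mem (conj_mem_normalizer (hK hnC) hk2) hk2, ?_⟩,
        fun a ha => ?_⟩
      · rw [show n * n * f 1 * (n * n)⁻¹ = n * (n * f 1 * n⁻¹) * n⁻¹ by group, hnu,
          show n * (k2 * f 1) * n⁻¹ = n * k2 * n⁻¹ * (n * f 1 * n⁻¹) by group, hnu, ← mul_assoc]
      obtain ⟨k, hk, p, hp, e⟩ := hPA a ha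
      obtain ⟨k', hk', r, hr, e'⟩ := hRB p hp
      rw [show n * n * a * (n * n)⁻¹ = n * (n * a * n⁻¹) * n⁻¹ by group, e,
        show n * (k * p) * n⁻¹ = n * k * n⁻¹ * (n * p * n⁻¹) by group, e']
      refine mul_mem (mem_sup_left (conj_mem_normalizer (hK hnC) hk)) (mul_mem (mem_sup_left hk') (mem_sup_right ?_))
      rcases hR with rfl | rfl
      · exact hr
      · exfalso
        -- both subgroups cannot go to the second one
        obtain ⟨-, -, -, -, -, -, hB26, hU26, -⟩ := inA_mem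
        have hy : f (cj 5 26) ∈ D.B := (D.f_mem_B (show cj 5 26 < 128 from mulN_lt _ _)).2 hB26
        obtain ⟨k4, hk4, p4, hp4, e4⟩ := hPA _ D.o_mem_A
        obtain ⟨k5, hk5, r5, hr5, e5⟩ := hRB _ hy
        have hcomm : p4 * r5 = r5 * p4 := by
          obtain ⟨b1, hb1, pb1, rfl⟩ := hp4
          obtain ⟨b2, hb2, pb2, rfl⟩ := hr5
          exact (D.emb.commute_iff hb1 hb2).2 (inB_closed b1 hb1 b2 hb2 pb1 pb2).2.1
        have hlt : cj 5 26 < 128 := mulN_lt _ _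
        have hmem : n * f (cm 26 (cj 5 26)) * n⁻¹ ∈ Kf (f 2) := by
          rw [D.emb.comm (by omega) hlt,
            show n * (f 26 * f (cj 5 26) * (f 26)⁻¹ * (f (cj 5 26))⁻¹) * n⁻¹ = (n * f 26 * n⁻¹) * (n * f (cj 5 26) * n⁻¹) *
              (n * f 26 * n⁻¹)⁻¹ * (n * f (cj 5 26) * n⁻¹)⁻¹ by group, e4, e5,
            show k4 * p4 * (k5 * r5) * (k4 * p4)⁻¹ * (k5 * r5)⁻¹ = k4 * (p4 * k5 * p4⁻¹) * (p4 * r5 * (r5 * p4)⁻¹) *
              (r5 * k4 * r5⁻¹)⁻¹ * k5⁻¹ by group, hcomm, mul_inv_cancel, mul_one]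
          exact mul_mem (mul_mem (mul_mem hk4 (conj_mem_normalizer (hK (hS (D.B_le hp4))) hk5))
            (inv_mem (conj_mem_normalizer (hK (hS (D.B_le hr5))) hk4))) (inv_mem hk5)
        have h0 : cm 26 (cj 5 26) = 0 := D.core_inf (mulN_lt _ _) (by
          have := conj_mem_normalizer (hK (inv_mem hnC)) hmem
          rwa [inv_inv, show n⁻¹ * (n * f (cm 26 (cj 5 26)) * n⁻¹) * n = f (cm 26 (cj 5 26)) by group] at this)
        refine (cross 26 (by omega) _ hlt inA_mem.2.2.2.2.1 inA_mem.2.2.2.2.2.1 hB26 hU26).1 ?_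
        refine (D.emb.commute_iff (by omega) hlt).1 (mul_inv_eq_one.1 ?_)
        rw [← D.emb.one, ← h0, D.emb.comm (by omega) hlt]
        group
  obtain ⟨k, hk, hkn⟩ := Walter8.exists_lift_normalizer D.A_two
    (by rw [← Nat.not_even_iff_odd, even_iff_two_dvd]; exact ClosedAbelian.core_odd _)
    ((D.A_le.trans hS).trans hK) hmA
  have hdC : k * m ∈ C := mul_mem (hKC hk) hmC
  have hkp : D.bar ⟨k, hKC hk⟩ = 1 := (D.perm_eq_one (D.core_comm hk)).2 ⟨k, hk, 0, by omega, q_mem.1,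
    by rw [D.emb.one, mul_one]⟩
  refine ⟨k * m, mem_centralizer_singleton_iff.1 hdC, ?_, hkn, fun a ha haU hbad => ?_⟩
  · obtain ⟨k3, hk3, e3⟩ := hmu
    have hA1 := conj_mem_normalizer hkn (D.U_le_A D.u_mem_U)
    obtain ⟨c, hc, pc, ec⟩ := hA1
    refine mul_inv_eq_iff_eq_mul.1 ?_
    rw [← ec]
    congr 1
    refine (D.core_label hc (show 1 < 128 by omega) (one_mem _)
      (mul_mem (mul_mem hk hk3) (inv_mem (conj_mem_normalizer (hK (hS (D.emb.apply_mem (show 1 < 128 by omega)))) hk)))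
      ?_)
    rw [one_mul, ec, show k * m * f 1 * (k * m)⁻¹ = k * (m * f 1 * m⁻¹) * k⁻¹ by group, e3]
    group
  · obtain ⟨c, hc, pc, ec⟩ := hbad
    obtain ⟨b, hb, pb, rfl⟩ := ha
    have hdc := mem_centralizer_singleton_iff.1 hdC
    have h1 : D.perm (D.lab_comm hc) = 1 := (D.perm_lab_one hc).2 (inQ_uc c hc pc)
    have hm1 : D.perm (D.lab_comm hc) =
        D.bar ⟨m, hmC⟩ * D.perm (D.lab_comm hb) * (D.bar ⟨m, hmC⟩)⁻¹ * (D.perm (D.lab_comm hb))⁻¹ := by
      show D.bar _ = _ * D.bar _ * _ * (D.bar _)⁻¹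
      rw [show D.bar ⟨m, hmC⟩ = D.bar ⟨k * m, hdC⟩ by
        rw [show (⟨k * m, hdC⟩ : ↥C) = ⟨k, hKC hk⟩ * ⟨m, hmC⟩ from rfl, map_mul, hkp, one_mul]]
      rw [← map_inv, ← map_inv, ← map_mul, ← map_mul, ← map_mul]
      exact congrArg D.bar (Subtype.ext ec)
    have hne : D.perm (D.lab_comm hb) ≠ 1 := fun e => haU ((D.f_mem_U hb).2
      (act_inA b hb pb ((D.perm_lab_one hb).1 e)))
    rw [h1, eq_comm, mul_inv_eq_one] at hm1
    rcases hmp with h | h <;> rw [h] at hm1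
    exacts [(hγ _ (D.perm_lab_mem hb) hne).1 hm1, (hγ _ (D.perm_lab_mem hb) hne).2 hm1]

end Setup

end Cfsg.Agent.J2Core
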