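import Cfsg.Agent.Lib.J2Core.Top
import Cfsg.Agent.Lib.J2Core.Commute

/-!
The five involutions acting on the core of the centraliser of the central involution: the core is generated by
their fixed subgroups, and the inverted parts of these commute in pairs.
-/

set_option autoImplicit false
set_option linter.style.haveILetI false
set_option linter.unusedSectionVars false

namespace Cfsg.Agent.J2Core

open Subgroup
open Cfsg.Agent.J2Type
open Cfsg.Agent.ClosedAbelian (TwoEl core mem_of_sq_mem odd_orderOf_of_mem)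

universe u

theorem pt_pair_comm : ∀ k < 5, ∀ l < 5, ∀ m < 5, l ≠ k → m ≠ k →
    mulN (mulN (pt l) (pt m)) (pt k) = mulN (pt k) (mulN (pt l) (pt m)) := by decide +kernel

theorem pt_zc : ∀ k < 5, mulN (mulN (pt k) 2) (mulN (pt k) 2) = 0 := by decide +kernel

theorem inQ_inW : ∀ a < 128, cj a 1 = 1 → inW a = true := by decide +kernel

theorem five_to : ∀ k : Fin 5, ∃ σ : alternatingGroup (Fin 5), (σ : Equiv.Perm (Fin 5)) 4 = k := by decide +kernel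

theorem pt_prod_zc : ∀ k < 5, ∀ l < 5, k ≠ l → zc (mulN (pt k) (pt l)) = false := by decide +kernel

theorem others_fin : ∀ k m : Fin 5, k ≠ m → ∃ a b d : Fin 5, a ≠ b ∧ a ≠ d ∧ b ≠ d ∧ a ≠ k ∧ a ≠ m ∧ b ≠ k ∧
    b ≠ m ∧ d ≠ k ∧ d ≠ m := by decide +kernel

theorem others_three (k : ℕ) (hk : k < 5) (m : ℕ) (hm : m < 5) (hkm : k ≠ m) :
    ∃ a b d : Fin 5, a ≠ b ∧ a ≠ d ∧ b ≠ d ∧ (a : ℕ) ≠ k ∧
      (a : ℕ) ≠ m ∧ (b : ℕ) ≠ k ∧ (b : ℕ) ≠ m ∧ (d : ℕ) ≠ k ∧ (d : ℕ) ≠ m := by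
  obtain ⟨a, b, d, h1, h2, h3, h4, h5, h6, h7, h8, h9⟩ :=
    others_fin ⟨k, hk⟩ ⟨m, hm⟩ fun e => hkm (congrArg Fin.val e)
  exact ⟨a, b, d, h1, h2, h3, Fin.val_ne_of_ne h4, Fin.val_ne_of_ne h5, Fin.val_ne_of_ne h6, Fin.val_ne_of_ne h7,
    Fin.val_ne_of_ne h8, Fin.val_ne_of_ne h9⟩

theorem perm_five_list : ∀ a b d k m : Fin 5, [a, b, d, k, m].Nodup →
    [a, b, d, k, m].Perm [0, 1, 2, 3, 4] := by decide +kernel

/-- Commuting maps composed in another order. -/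
theorem perm_five {α : Type*} (c : ℕ → α → α) (K : Set α) (hcl : ∀ j, j < 5 → ∀ w ∈ K, c j w ∈ K)
    (hcc : ∀ i j, i < 5 → j < 5 → ∀ w ∈ K, c i (c j w) = c j (c i w)) {k m : ℕ} (hk : k < 5) (hm : m < 5)
    (hkm : k ≠ m) {a b d : Fin 5} (hab : a ≠ b) (had : a ≠ d) (hbd : b ≠ d) (hak : (a : ℕ) ≠ k) (ham : (a : ℕ) ≠ m)
    (hbk : (b : ℕ) ≠ k) (hbm : (b : ℕ) ≠ m) (hdk : (d : ℕ) ≠ k) (hdm : (d : ℕ) ≠ m) {z : α} (hz : z ∈ K)
    (h : c 0 (c 1 (c 2 (c 3 (c 4 z)))) = z) : c a (c b (c d (c k (c m z)))) = z := by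
  let F : Fin 5 → K → K := fun j w => ⟨c j w, hcl j j.2 w w.2⟩
  haveI : LeftCommutative F := ⟨fun i j w => Subtype.ext (hcc i j i.2 j.2 w w.2)⟩
  have hp := perm_five_list a b d ⟨k, hk⟩ ⟨m, hm⟩ (by
    simp only [List.nodup_cons, List.mem_cons, List.not_mem_nil, or_false, Fin.ext_iff, List.nodup_nil, and_true,
      not_false_eq_true, not_or]
    rw [Ne, Fin.ext_iff] at hab had hbd
    omega)
  have e : ((([a, b, d, ⟨k, hk⟩, ⟨m, hm⟩] : List (Fin 5)).foldr F ⟨z, hz⟩ : K) : α) =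
      ((([0, 1, 2, 3, 4] : List (Fin 5)).foldr F ⟨z, hz⟩ : K) : α) := congrArg Subtype.val (hp.foldr_eq _)
  exact e.trans h

variable {G : Type u} [Group G] [Finite G] {f : ℕ → G}

/-- The fixed subgroup of a point in the core. -/
def Dk (f : ℕ → G) (k : ℕ) : Subgroup G := Kf (f 2) ⊓ centralizer ({f (pt k)} : Set G)

/-- The part of it inverted by another point. -/
def Pk (f : ℕ → G) (k : ℕ) : Subgroup G :=
  closure {x | x ∈ Dk f k ∧ ∃ l < 5, l ≠ k ∧ f (pt l) * x * (f (pt l))⁻¹ = x⁻¹}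

/-- What all points fix. -/
def Ff (f : ℕ → G) : Subgroup G :=
  Kf (f 2) ⊓ ⨅ k : Fin 5, centralizer ({f (pt (k : ℕ))} : Set G)

theorem mem_Dk {k : ℕ} {x : G} : x ∈ Dk f k ↔ x ∈ Kf (f 2) ∧ x * f (pt k) = f (pt k) * x := by
  rw [Dk, mem_inf, mem_centralizer_singleton_iff]

namespace Setup

variable (D : Setup f)
include D

theorem pt_lt {k : ℕ} (hk : k < 5) : pt k < 128 := (q_mem.2.2.2.2.2.1 k hk).2.1

theorem pt_sq {k : ℕ} (hk : k < 5) : f (pt k) * f (pt k) = 1 :=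
  (D.emb.sq_one_iff (D.pt_lt hk)).2 (q_mem.2.2.2.2.2.1 k hk).2.2.1

theorem pt_norm {k : ℕ} (hk : k < 5) : f (pt k) ∈ normalizer (Kf (f 2) : Set G) :=
  Kf_normalized (D.lab_comm (D.pt_lt hk))

theorem conj_z {x : G} (hx : x ∈ Kf (f 2)) : f 2 * x * (f 2)⁻¹ = x := by
  rw [← Kf_comm hx, mul_inv_cancel_right]

theorem z_central {x : G} (hx : x ∈ Kf (f 2)) {g : G} (h : g * f 2 = f 2 * g) :
    g * f 2 * x * (g * f 2)⁻¹ = g * x * g⁻¹ := by
  rw [show g * f 2 * x * (g * f 2)⁻¹ = g * (f 2 * x * (f 2)⁻¹) * g⁻¹ by group, D.conj_z hx]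

/-- Two points commute on the core. -/
theorem pt_act_comm {k l : ℕ} (hk : k < 5) (hl : l < 5) {x : G} (hx : x ∈ Kf (f 2)) :
    f (pt k) * (f (pt l) * x * (f (pt l))⁻¹) * (f (pt k))⁻¹ = f (pt l) * (f (pt k) * x * (f (pt k))⁻¹) * (f (pt l))⁻¹ := by
  set a := f (pt k)
  set b := f (pt l)
  have hc : cm (pt k) (pt l) = 0 ∨ cm (pt k) (pt l) = 2 := D.emb.zc_cases (pt_comm k hk l hl)
  have e : a * b * a⁻¹ * b⁻¹ = 1 ∨ a * b * a⁻¹ * b⁻¹ = f 2 := by
    rw [show a * b * a⁻¹ * b⁻¹ = f (cm (pt k) (pt l)) by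
      rw [D.emb.comm (D.pt_lt hk) (D.pt_lt hl)]]
    rcases hc with h | h <;> rw [h]
    exacts [Or.inl D.emb.one, Or.inr rfl]
  have hy : b * (a * x * a⁻¹) * b⁻¹ ∈ Kf (f 2) :=
    conj_mem_normalizer (D.pt_norm hl) (conj_mem_normalizer (D.pt_norm hk) hx)
  rw [show a * (b * x * b⁻¹) * a⁻¹ = (a * b * a⁻¹ * b⁻¹) * (b * (a * x * a⁻¹) * b⁻¹) * (a * b * a⁻¹ * b⁻¹)⁻¹ by group]
  rcases e with e | e <;> rw [e]
  · group
  · exact D.conj_z hy

theorem pt_four : f (pt 4) = f 1 := by rw [q_mem.2.2.2.2.2.2.1]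

theorem Dk_four : Dk f 4 = Kf (f 2) ⊓ centralizer ({f 1} : Set G) := by rw [Dk, D.pt_four]

theorem exists_to {k : ℕ} (hk : k < 5) : ∃ g, g * f 2 = f 2 * g ∧
    (g * f 1 * g⁻¹ = f (pt k) ∨ g * f 1 * g⁻¹ = f (pt k) * f 2) := by
  obtain ⟨σ, hσ⟩ := five_to ⟨k, hk⟩
  obtain ⟨g0, hg0⟩ := D.barData.surj σ
  obtain ⟨c', hc', b, hb, hbv, e⟩ := D.barData.pts g0 4
  rw [show ((4 : Fin 5) : ℕ) = 4 from rfl, q_mem.2.2.2.2.2.2.1] at e
  rw [hg0, hσ] at hbv
  have hbb : f b * f b = 1 := by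
    refine (D.emb.sq_one_iff hb).2 ?_
    rcases hbv with rfl | rfl
    exacts [(q_mem.2.2.2.2.2.1 k hk).2.2.1, pt_zc k hk]
  have hu : f 1 * f 1 = 1 := (D.emb.sq_one_iff (by omega)).2 u_facts.1
  have hinv : f b * c' * (f b)⁻¹ = c'⁻¹ := by
    have h : c' * f b * (c' * f b) = 1 := by
      rw [← e, show (g0 : G) * f 1 * (g0 : G)⁻¹ * ((g0 : G) * f 1 * (g0 : G)⁻¹) = g0 * (f 1 * f 1) * (g0 : G)⁻¹ by
        group, hu]
      group
    rw [inv_eq_of_mul_eq_one_right hbb]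
    calc f b * c' * f b = c'⁻¹ * (c' * f b * (c' * f b)) := by group
      _ = c'⁻¹ := by rw [h, mul_one]
  obtain ⟨c, hc, hcc, -⟩ := exists_root (odd_orderOf_of_mem (ClosedAbelian.core_odd _) hc')
  obtain ⟨i, rfl⟩ := mem_zpowers_iff.1 hc
  have hcb : f b * c' ^ i * (f b)⁻¹ = (c' ^ i)⁻¹ := by
    rw [← MulAut.conj_apply, map_zpow, MulAut.conj_apply, hinv, inv_zpow]
  refine ⟨(c' ^ i)⁻¹ * g0,
    ((show Commute (c' ^ i) (f 2) from Kf_comm (zpow_mem hc' i)).inv_left.mul_left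
      (mem_centralizer_singleton_iff.1 g0.2)).eq, ?_⟩
  have key : (c' ^ i)⁻¹ * (g0 : G) * f 1 * ((c' ^ i)⁻¹ * (g0 : G))⁻¹ = f b := by
    rw [show (c' ^ i)⁻¹ * (g0 : G) * f 1 * ((c' ^ i)⁻¹ * (g0 : G))⁻¹ =
      (c' ^ i)⁻¹ * ((g0 : G) * f 1 * (g0 : G)⁻¹) * c' ^ i by group, e]
    generalize c' ^ i = d at hcc hcb ⊢
    rw [← hcc]
    calc d⁻¹ * (d * d * f b) * d = d * (f b * d * (f b)⁻¹) * f b := by group
      _ = f b := by rw [hcb]; group
  rcases hbv with rfl | rfl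
  · exact Or.inl key
  · exact Or.inr (key.trans (D.emb.hom _ 2 (D.pt_lt hk) (by omega)))

theorem Dk_eq_map {k : ℕ} (hk : k < 5) {g : G} (hg : g * f 2 = f 2 * g)
    (e : g * f 1 * g⁻¹ = f (pt k) ∨ g * f 1 * g⁻¹ = f (pt k) * f 2) :
    Dk f k = (Dk f 4).map (MulAut.conj g).toMonoidHom := by
  have hgn := Kf_normalized hg
  have hiff : ∀ x, x ∈ Kf (f 2) → (x * (g * f 1 * g⁻¹) = g * f 1 * g⁻¹ * x ↔ x * f (pt k) = f (pt k) * x) := by
    intro x hx
    rcases e with e | e <;> rw [e]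
    have hxz : x * f 2 = f 2 * x := Kf_comm hx
    have hpz : f (pt k) * f 2 = f 2 * f (pt k) := D.lab_comm (D.pt_lt hk)
    constructor
    · intro h
      refine mul_right_cancel (b := f 2) ?_
      rw [mul_assoc x, h, mul_assoc, ← hxz, ← mul_assoc]
    · intro h
      rw [← mul_assoc, h, mul_assoc, hxz, ← mul_assoc]
  ext x
  rw [D.Dk_four, mem_Dk]
  constructor
  · rintro ⟨hx, hc⟩
    have hy : g⁻¹ * x * g ∈ Kf (f 2) := (mem_normalizer_iff''.1 hgn x).1 hx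
    refine ⟨g⁻¹ * x * g, ⟨hy, mem_centralizer_singleton_iff.2 ?_⟩, by simp [mul_assoc]⟩
    have h := Emb.conj_comm g⁻¹ ((hiff x hx).2 hc)
    rwa [inv_inv, show g⁻¹ * (g * f 1 * g⁻¹) * g = f 1 by group] at h
  · rintro ⟨y, ⟨hy, hyc⟩, rfl⟩
    exact ⟨conj_mem_normalizer hgn hy, (hiff _ (conj_mem_normalizer hgn hy)).1
      (Emb.conj_comm g (mem_centralizer_singleton_iff.1 hyc))⟩

variable (hW : ∀ x ∈ Dk f 4, ∀ w ∈ D.W, w * x = x * w)
include hW

/-- The product of two points centralises the fixed subgroup of a third. -/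
theorem pair_fix {k l m : ℕ} (hk : k < 5) (hl : l < 5) (hm : m < 5) (hlk : l ≠ k) (hmk : m ≠ k) {x : G}
    (hx : x ∈ Dk f k) : f (pt l) * x * (f (pt l))⁻¹ = f (pt m) * x * (f (pt m))⁻¹ := by
  obtain ⟨g, hg, e⟩ := D.exists_to hk
  obtain ⟨y, hy, rfl⟩ : x ∈ (Dk f 4).map (MulAut.conj g).toMonoidHom := D.Dk_eq_map hk hg e ▸ hx
  have hl' := D.pt_lt hl
  have hm' := D.pt_lt hm
  set a := mulN (pt l) (pt m)
  have ha : a < 128 := mulN_lt _ _
  set t := g⁻¹ * f a * g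
  have htz : t * f 2 = f 2 * t :=
    (((show Commute g (f 2) from hg).inv_left.mul_left (D.lab_comm ha)).mul_left hg).eq
  -- it fixes the point of the second centre exactly
  have hak : f a * f (pt k) = f (pt k) * f a :=
    (D.emb.commute_iff ha (D.pt_lt hk)).2 (pt_pair_comm k hk l hl m hm hlk hmk)
  have hau : f a * (g * f 1 * g⁻¹) = g * f 1 * g⁻¹ * f a := by
    rcases e with e | e <;> rw [e]
    · exact hak
    · exact ((show Commute (f a) (f (pt k)) from hak).mul_right (D.lab_comm ha)).eq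
  have htu : t * f 1 = f 1 * t := by
    have h := Emb.conj_comm g⁻¹ hau
    rwa [inv_inv, show g⁻¹ * (g * f 1 * g⁻¹) * g = f 1 by group] at h
  have hQ : inQ a = true := (q_closed (pt l) hl' (pt m) hm' (q_mem.2.2.2.2.2.1 l hl).1 (q_mem.2.2.2.2.2.1 m hm).1).1
  have htp : D.perm htz = 1 := by
    have h1 : D.bar ⟨f a, mem_centralizer_singleton_iff.2 (D.lab_comm ha)⟩ = 1 := (D.perm_lab_one ha).2 hQ
    show D.bar _ = 1
    rw [show (⟨t, mem_centralizer_singleton_iff.2 htz⟩ : ↥(centralizer ({f 2} : Set G))) =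
      ⟨g, mem_centralizer_singleton_iff.2 hg⟩⁻¹ * ⟨f a, mem_centralizer_singleton_iff.2 (D.lab_comm ha)⟩ *
        ⟨g, mem_centralizer_singleton_iff.2 hg⟩ from rfl, map_mul, map_mul, h1, mul_one, ← map_mul,
      inv_mul_cancel, map_one]
  obtain ⟨c, hc, b, hb, -, ht⟩ := (D.perm_eq_one htz).1 htp
  -- its label centralises the second centre
  have hu1 : cj b 1 = 1 := by
    have hbn := Kf_normalized (D.lab_comm hb)
    have h1 : c⁻¹ * (f 1 * c * (f 1)⁻¹) ∈ Kf (f 2) := mul_mem (inv_mem hc)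
      (conj_mem_normalizer (Kf_normalized (D.lab_comm (show 1 < 128 by omega))) hc)
    refine D.core_label (show cj b 1 < 128 from mulN_lt _ _) (show 1 < 128 by omega) (one_mem _) h1 ?_
    rw [one_mul, D.emb.conj hb (by omega)]
    have h := htu
    rw [ht] at h
    calc f b * f 1 * (f b)⁻¹ = c⁻¹ * (c * f b * f 1) * (f b)⁻¹ := by group
      _ = c⁻¹ * (f 1 * (c * f b)) * (f b)⁻¹ := by rw [h]
      _ = c⁻¹ * (f 1 * c * (f 1)⁻¹) * f 1 := by group
  have hbW : f b ∈ D.W := (D.f_mem_W hb).2 (inQ_inW b hb hu1)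
  have hbu : f b * f 1 = f 1 * f b := D.U_comm_W D.u_mem_U hbW
  have hcu : c ∈ Dk f 4 := by
    rw [mem_Dk, D.pt_four]
    refine ⟨hc, ?_⟩
    have h : c * (f b * f 1) = f 1 * (c * f b) := by rw [← mul_assoc, ← ht, htu]
    rw [hbu, ← mul_assoc, ← mul_assoc] at h
    exact mul_right_cancel h
  have hc1 : c = 1 := by
    obtain ⟨j, hj⟩ := TwoEl.of_group D.emb.isPGroup_range (D.emb.apply_mem ha)
    obtain ⟨i, hi⟩ := TwoEl.of_group D.emb.isPGroup_range (D.emb.apply_mem hb)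
    have hcb : Commute c (f b) := (hW c hcu _ hbW).symm
    refine TwoEl.eq_one_of_odd ⟨j + i, ?_⟩ (odd_orderOf_of_mem (ClosedAbelian.core_odd _) hc)
    have htj : t ^ 2 ^ j = 1 := by
      have h : (g⁻¹ * f a * g⁻¹⁻¹) ^ 2 ^ j = g⁻¹ * (f a) ^ 2 ^ j * g⁻¹⁻¹ := conj_pow
      rw [inv_inv] at h
      rw [show t = g⁻¹ * f a * g from rfl, h, hj]
      group
    have h := congrArg (fun z => z ^ 2 ^ i) htj
    simp only [one_pow] at h
    rw [← pow_mul, ← pow_add, ht, hcb.mul_pow, pow_add 2 j i, mul_comm (2 ^ j) (2 ^ i), pow_mul (f b), hi, one_pow,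
      mul_one, mul_comm, ← pow_add] at h
    exact h
  have hty : t * y * t⁻¹ = y := by
    rw [ht, hc1, one_mul, hW y hy _ hbW, mul_inv_cancel_right]
  have h2 : f a * (g * y * g⁻¹) * (f a)⁻¹ = g * y * g⁻¹ := by
    calc f a * (g * y * g⁻¹) * (f a)⁻¹ = g * (t * y * t⁻¹) * g⁻¹ := by simp only [t]; group
      _ = g * y * g⁻¹ := by rw [hty]
  show f (pt l) * (g * y * g⁻¹) * (f (pt l))⁻¹ = f (pt m) * (g * y * g⁻¹) * (f (pt m))⁻¹
  rw [D.emb.hom _ _ hl' hm', show f (pt l) * f (pt m) * (g * y * g⁻¹) * (f (pt l) * f (pt m))⁻¹ =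
    f (pt l) * (f (pt m) * (g * y * g⁻¹) * (f (pt m))⁻¹) * (f (pt l))⁻¹ by group] at h2
  have h3 := congrArg (fun z => (f (pt l))⁻¹ * z * f (pt l)) h2
  rw [show (f (pt l))⁻¹ * (f (pt l) * (f (pt m) * (g * y * g⁻¹) * (f (pt m))⁻¹) * (f (pt l))⁻¹) * f (pt l) =
    f (pt m) * (g * y * g⁻¹) * (f (pt m))⁻¹ by group, inv_eq_of_mul_eq_one_right (D.pt_sq hl)] at h3
  rw [inv_eq_of_mul_eq_one_right (D.pt_sq hl)]
  exact h3.symm

omit hW in
/-- The core is generated by the fixed subgroups of the points. -/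
theorem Kf_le_Dk : Kf (f 2) ≤ ⨆ k : Fin 5, Dk f k := by
  classical
  haveI : Fact (Nat.Prime 2) := ⟨Nat.prime_two⟩
  set C := centralizer ({f 2} : Set G)
  set Z := (zpowers (f 2)).subgroupOf C
  haveI hZ : Z.Normal := normal_subgroupOf_of_le_normalizer fun x hx => by
    refine SEBrick.mem_normalizer_of ?_
    rintro _ ⟨i, rfl⟩
    exact ⟨i, by
      show f 2 ^ i = x * f 2 ^ i * x⁻¹
      rw [((show Commute x (f 2) from mem_centralizer_singleton_iff.1 hx).zpow_right i).eq, mul_inv_cancel_right]⟩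
  set π := QuotientGroup.mk' Z
  have hzz : f 2 * f 2 = 1 := (D.emb.sq_one_iff (by omega)).2 u_facts.2.2.1
  have hker : ∀ x : ↥C, π x = 1 ↔ (x : G) = 1 ∨ (x : G) = f 2 := fun x => by
    rw [QuotientGroup.mk'_apply, QuotientGroup.eq_one_iff, mem_subgroupOf]
    refine ⟨fun h => ClosedAbelian.zpowers_cases hzz h, ?_⟩
    rintro (h | h) <;> rw [h]
    exacts [one_mem _, mem_zpowers _]
  have hKC : Kf (f 2) ≤ C := ClosedAbelian.core_le _
  have hinj : ∀ x ∈ Kf (f 2), ∀ hx : x ∈ C, π ⟨x, hx⟩ = 1 → x = 1 := by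
    intro x hx hxC h
    rcases (hker _).1 h with h | h
    · exact h
    · exact (ClosedAbelian.twoEl_of_sq (show x * x = 1 by rw [show x = f 2 from h, hzz])).eq_one_of_odd
        (odd_orderOf_of_mem (ClosedAbelian.core_odd _) hx)
  have hiC : ∀ k, k < 5 → f (pt k) ∈ C := fun k hk => mem_centralizer_singleton_iff.2 (D.lab_comm (D.pt_lt hk))
  -- a four-group acting modulo the centre
  have step : ∀ (X : Subgroup G), X ≤ Kf (f 2) → ∀ k l (hk : k < 5) (hl : l < 5), k ≠ l →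
      (∀ x ∈ X, f (pt k) * x * (f (pt k))⁻¹ ∈ X) → (∀ x ∈ X, f (pt l) * x * (f (pt l))⁻¹ ∈ X) →
      ∀ Y : Subgroup G, (∀ x ∈ X, x * f (pt k) = f (pt k) * x → x ∈ Y) →
        (∀ x ∈ X, x * f (pt l) = f (pt l) * x → x ∈ Y) →
        (∀ x ∈ X, x * (f (pt k) * f (pt l)) = f (pt k) * f (pt l) * x → x ∈ Y) → X ≤ Y := by
    intro X hX k l hk hl hkl hkX hlX Y hY1 hY2 hY3
    set a := π ⟨f (pt k), hiC k hk⟩
    set b := π ⟨f (pt l), hiC l hl⟩
    have ha : a * a = 1 := by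
      rw [← map_mul]; exact (hker _).2 (Or.inl (D.pt_sq hk))
    have hb : b * b = 1 := by
      rw [← map_mul]; exact (hker _).2 (Or.inl (D.pt_sq hl))
    have hab : a * b = b * a := by
      rw [← mul_inv_eq_one, mul_inv_rev, show a * b * (a⁻¹ * b⁻¹) = a * b * a⁻¹ * b⁻¹ by group, ← map_inv,
        ← map_inv, ← map_mul, ← map_mul, ← map_mul, hker]
      rcases D.emb.zc_cases (pt_comm k hk l hl) with h | h
      · left
        show f (pt k) * f (pt l) * (f (pt k))⁻¹ * (f (pt l))⁻¹ = 1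
        rw [← D.emb.comm (D.pt_lt hk) (D.pt_lt hl), h, D.emb.one]
      · right
        show f (pt k) * f (pt l) * (f (pt k))⁻¹ * (f (pt l))⁻¹ = f 2
        rw [← D.emb.comm (D.pt_lt hk) (D.pt_lt hl), h]
    have hne1 : ∀ j, j < 5 → ∀ h : f (pt j) ∈ C, π ⟨f (pt j), h⟩ ≠ 1 := by
      intro j hj h e
      have hz := (q_mem.2.2.2.2.2.1 j hj).2.2.2
      rcases (hker _).1 e with e' | e'
      · rw [(D.emb.eq_one_iff (D.pt_lt hj)).1 e'] at hz; exact absurd hz (by decide)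
      · rw [D.emb.inj _ 2 (D.pt_lt hj) (by omega) e'] at hz; exact absurd hz (by decide)
    have hab1 : a ≠ b := by
      intro e
      have h1 : π (⟨f (pt k), hiC k hk⟩ * ⟨f (pt l), hiC l hl⟩) = 1 := by rw [map_mul, ← hb]; exact congrArg (· * b) e
      have hz : zc (mulN (pt k) (pt l)) = false := pt_prod_zc k hk l hl hkl
      rcases (hker _).1 h1 with e' | e' <;> simp only [Subgroup.coe_mul] at e' <;>
        rw [← D.emb.hom _ _ (D.pt_lt hk) (D.pt_lt hl)] at e'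
      · rw [(D.emb.eq_one_iff (mulN_lt _ _)).1 e'] at hz; exact absurd hz (by decide)
      · rw [D.emb.inj _ 2 (mulN_lt _ _) (by omega) e'] at hz; exact absurd hz (by decide)
    set X' := (X.subgroupOf C).map π
    have hX' : ¬ 2 ∣ Nat.card X' := fun hd => (odd_of_le (ClosedAbelian.core_odd _) hX) (hd.trans
      ((card_map_dvd _ π).trans (Nat.card_congr (subgroupOfEquivOfLe (hX.trans hKC)).toEquiv).dvd))
    have hnorm : ∀ j (hj : j < 5), (∀ x ∈ X, f (pt j) * x * (f (pt j))⁻¹ ∈ X) →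
        π ⟨f (pt j), hiC j hj⟩ ∈ normalizer (X' : Set _) := by
      intro j hj hjX
      refine SEBrick.mem_normalizer_of ?_
      rintro _ ⟨x, hx, rfl⟩
      refine ⟨⟨f (pt j), hiC j hj⟩ * x * ⟨f (pt j), hiC j hj⟩⁻¹, mem_subgroupOf.2 (hjX _ (mem_subgroupOf.1 hx)), ?_⟩
      rw [map_mul, map_mul, map_inv]
    have hfix : ∀ e : ↥C, ∀ x : ↥C, (x : G) ∈ X → ((e : G) * x * (e : G)⁻¹ ∈ X) → π x * π e = π e * π x →
        (x : G) * e = e * x := by
      intro e x hx hex h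
      have h1 : π (e * x * e⁻¹ * x⁻¹) = 1 := by
        rw [map_mul, map_mul, map_mul, map_inv, map_inv, ← h]; group
      have h2 := hinj _ (mul_mem (hX hex) (inv_mem (hX hx))) (mul_mem (mul_mem (mul_mem e.2 x.2) (inv_mem e.2)) (inv_mem x.2)) h1
      rw [mul_inv_eq_one, mul_inv_eq_iff_eq_mul] at h2
      exact h2.symm
    have hle : X' ≤ ((Y ⊓ X).subgroupOf C).map π := by
      refine Signalizer.le_of_centralizer_le (four_ea ha hb hab)
        (by norm_num; exact four_card ha hb hab (hne1 k hk _) (hne1 l hl _) hab1) ?_ hX' fun c hc hc1 => ?_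
      · rintro y (rfl | rfl | rfl | rfl)
        exacts [one_mem _, hnorm k hk hkX, hnorm l hl hlX, mul_mem (hnorm k hk hkX) (hnorm l hl hlX)]
      rintro _ ⟨⟨x, hx, rfl⟩, hxc⟩
      have hxX := mem_subgroupOf.1 hx
      have hcc := mem_centralizer_singleton_iff.1 hxc
      refine ⟨x, mem_subgroupOf.2 ⟨?_, hxX⟩, rfl⟩
      rcases hc with rfl | rfl | rfl | rfl
      · exact absurd rfl hc1
      · exact hY1 _ hxX (hfix ⟨_, hiC k hk⟩ x hxX (hkX _ hxX) hcc)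
      · exact hY2 _ hxX (hfix ⟨_, hiC l hl⟩ x hxX (hlX _ hxX) hcc)
      · refine hY3 _ hxX (hfix (⟨_, hiC k hk⟩ * ⟨_, hiC l hl⟩) x hxX ?_ (by rw [map_mul]; exact hcc))
        show f (pt k) * f (pt l) * (x : G) * (f (pt k) * f (pt l))⁻¹ ∈ X
        rw [show f (pt k) * f (pt l) * (x : G) * (f (pt k) * f (pt l))⁻¹ =
          f (pt k) * (f (pt l) * x * (f (pt l))⁻¹) * (f (pt k))⁻¹ by group]
        exact hkX _ (hlX _ hxX)
    intro x hx
    obtain ⟨y, hy, e⟩ := hle ⟨⟨x, hKC (hX hx)⟩, hx, rfl⟩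
    have hy' := mem_subgroupOf.1 hy
    have h1 : π (⟨x, hKC (hX hx)⟩ * y⁻¹) = 1 := by rw [map_mul, map_inv, e, mul_inv_cancel]
    have h2 := hinj _ (mul_mem (hX hx) (inv_mem (hX hy'.2))) (mul_mem (hKC (hX hx)) (inv_mem y.2)) h1
    rw [mul_inv_eq_one.1 h2]; exact hy'.1
  have hD : ∀ k (hk : k < 5) (x : G), x ∈ Kf (f 2) → x * f (pt k) = f (pt k) * x → x ∈ ⨆ k : Fin 5, Dk f k :=
    fun k hk x hx h => le_iSup (fun k : Fin 5 => Dk f k) ⟨k, hk⟩ (mem_Dk.2 ⟨hx, h⟩)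
  refine step _ le_rfl 3 4 (by omega) (by omega) (by omega) (fun x hx => conj_mem_normalizer (D.pt_norm (by omega)) hx)
    (fun x hx => conj_mem_normalizer (D.pt_norm (by omega)) hx) _ (hD 3 (by omega)) (hD 4 (by omega)) fun x hx h34 => ?_
  set Z34 := Kf (f 2) ⊓ centralizer ({f (pt 3) * f (pt 4)} : Set G)
  have hinv34 : ∀ j, j < 5 → ∀ y ∈ Z34, f (pt j) * y * (f (pt j))⁻¹ ∈ Z34 := by
    intro j hj y hy
    refine ⟨conj_mem_normalizer (D.pt_norm hj) hy.1, mem_centralizer_singleton_iff.2 ?_⟩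
    have hyc : f (pt 3) * (f (pt 4) * y * (f (pt 4))⁻¹) * (f (pt 3))⁻¹ = y := by
      rw [show f (pt 3) * (f (pt 4) * y * (f (pt 4))⁻¹) * (f (pt 3))⁻¹ = f (pt 3) * f (pt 4) * y *
        (f (pt 3) * f (pt 4))⁻¹ by group, ← mem_centralizer_singleton_iff.1 hy.2, mul_inv_cancel_right]
    symm
    rw [← mul_inv_eq_iff_eq_mul, show f (pt 3) * f (pt 4) * (f (pt j) * y * (f (pt j))⁻¹) * (f (pt 3) * f (pt 4))⁻¹ =
      f (pt 3) * (f (pt 4) * (f (pt j) * y * (f (pt j))⁻¹) * (f (pt 4))⁻¹) * (f (pt 3))⁻¹ by group,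
      D.pt_act_comm (show 4 < 5 by omega) hj hy.1,
      D.pt_act_comm (show 3 < 5 by omega) hj (conj_mem_normalizer (D.pt_norm (by omega)) hy.1), hyc]
  refine step Z34 inf_le_left 0 1 (by omega) (by omega) (by omega) (hinv34 0 (by omega)) (hinv34 1 (by omega)) _
    (fun y hy => hD 0 (by omega) y hy.1) (fun y hy => hD 1 (by omega) y hy.1) (fun y hy h01 => hD 2 (by omega) y hy.1 ?_)
    ⟨hx, mem_centralizer_singleton_iff.2 h34⟩
  have h34' := mem_centralizer_singleton_iff.1 hy.2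
  have hp : f (pt 2) = (f (pt 0) * f (pt 1))⁻¹ * f 2 * (f (pt 3) * f (pt 4))⁻¹ := by
    have h := congrArg f pt_prod
    rw [D.emb.hom _ _ (mulN_lt _ _) (D.pt_lt (by omega)), D.emb.hom _ _ (mulN_lt _ _) (D.pt_lt (by omega)),
      D.emb.hom _ _ (mulN_lt _ _) (D.pt_lt (by omega)), D.emb.hom _ _ (D.pt_lt (by omega)) (D.pt_lt (by omega))] at h
    rw [← h]; group
  rw [hp]
  exact ((((show Commute y _ from h01).inv_right).mul_right (Kf_comm hy.1)).mul_right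
    ((show Commute y _ from h34').inv_right)).eq

omit hW in
theorem Ff_le {k : ℕ} (hk : k < 5) : Ff f ≤ Dk f k :=
  inf_le_inf_left _ (iInf_le (fun k : Fin 5 => centralizer ({f (pt (k : ℕ))} : Set G)) ⟨k, hk⟩)

theorem Dk_split {k : ℕ} (hk : k < 5) : Dk f k ≤ Pk f k ⊔ Ff f := by
  intro p hp
  obtain ⟨l, hl, hlk⟩ : ∃ l < 5, l ≠ k := ⟨if k = 0 then 1 else 0, by split_ifs <;> omega, by split_ifs <;> omega⟩
  have hinv : ∀ x ∈ Dk f k, f (pt l) * x * (f (pt l))⁻¹ ∈ Dk f k := by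
    intro x hx
    rw [mem_Dk] at hx ⊢
    refine ⟨conj_mem_normalizer (D.pt_norm hl) hx.1, (mul_inv_eq_iff_eq_mul.1 ?_).symm⟩
    rw [D.pt_act_comm hk hl hx.1, ← hx.2, mul_inv_cancel_right]
  obtain ⟨s, -, t, ht, rfl, hsD, hs, hta⟩ :=
    split (odd_of_le (ClosedAbelian.core_odd _) inf_le_left) (D.pt_sq hl) hinv hp
  refine mul_mem (mem_sup_left (subset_closure ⟨hsD, l, hl, hlk, hs⟩)) (mem_sup_right ?_)
  have ht' := mem_Dk.1 ht
  refine mem_inf.2 ⟨ht'.1, mem_iInf.2 fun j => mem_centralizer_singleton_iff.2 ?_⟩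
  by_cases hjk : (j : ℕ) = k
  · rw [hjk]; exact ht'.2
  · have h := D.pair_fix hW hk j.2 hl hjk hlk ht
    rw [hta, mul_inv_cancel_right] at h
    exact (mul_inv_eq_iff_eq_mul.1 h).symm

/-- The inverted parts of two fixed subgroups commute. -/
theorem gen_comm {k m : ℕ} (hk : k < 5) (hm : m < 5) (hkm : k ≠ m) {x y : G} (hx : x ∈ Dk f k)
    (hx' : ∃ l < 5, l ≠ k ∧ f (pt l) * x * (f (pt l))⁻¹ = x⁻¹) (hy : y ∈ Dk f m)
    (hy' : ∃ l < 5, l ≠ m ∧ f (pt l) * y * (f (pt l))⁻¹ = y⁻¹) : x * y = y * x := by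
  classical
  set c := fun j x => f (pt j) * x * (f (pt j))⁻¹ with hc
  have hxi : ∀ j, j < 5 → j ≠ k → c j x = x⁻¹ := by
    intro j hj hjk
    obtain ⟨l, hl, hlk, e⟩ := hx'
    exact (D.pair_fix hW hk hj hl hjk hlk hx).trans e
  have hyi : ∀ j, j < 5 → j ≠ m → c j y = y⁻¹ := by
    intro j hj hjm
    obtain ⟨l, hl, hlm, e⟩ := hy'
    exact (D.pair_fix hW hm hj hl hjm hlm hy).trans e
  -- the subgroup on which the other three act alike
  let others := {j : Fin 5 // (j : ℕ) ≠ k ∧ (j : ℕ) ≠ m}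
  let Y : Subgroup G :=
    { carrier := {z | z ∈ Kf (f 2) ∧ ∀ a b : others, c a.1 z = c b.1 z}
      one_mem' := ⟨one_mem _, fun a b => by simp [hc]⟩
      mul_mem' := fun {p q} hp hq => ⟨mul_mem hp.1 hq.1, fun a b => by
        have e1 := hp.2 a b
        have e2 := hq.2 a b
        simp only [hc] at e1 e2 ⊢
        calc _ = (f (pt a.1) * p * (f (pt a.1))⁻¹) * (f (pt a.1) * q * (f (pt a.1))⁻¹) := by group
          _ = _ := by rw [e1, e2]; group⟩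
      inv_mem' := fun {p} hp => ⟨inv_mem hp.1, fun a b => by
        have e1 := hp.2 a b
        simp only [hc] at e1 ⊢
        calc _ = (f (pt a.1) * p * (f (pt a.1))⁻¹)⁻¹ := by group
          _ = _ := by rw [e1]; group⟩ }
  have hYinv : ∀ j, j < 5 → ∀ z ∈ Y, c j z ∈ Y := by
    intro j hj z hz
    refine ⟨conj_mem_normalizer (D.pt_norm hj) hz.1, fun a b => ?_⟩
    simp only [hc]
    rw [D.pt_act_comm a.1.2 hj hz.1, D.pt_act_comm b.1.2 hj hz.1]
    exact congrArg (fun w => f (pt j) * w * (f (pt j))⁻¹) (hz.2 a b)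
  have hxY : x ∈ Y := ⟨(mem_Dk.1 hx).1, fun a b => (hxi _ a.1.2 a.2.1).trans (hxi _ b.1.2 b.2.1).symm⟩
  have hyY : y ∈ Y := ⟨(mem_Dk.1 hy).1, fun a b => (hyi _ a.1.2 a.2.2).trans (hyi _ b.1.2 b.2.2).symm⟩
  let S : ∀ j, j < 5 → (Y →* Y) := fun j hj =>
    { toFun := fun z => ⟨c j z, hYinv j hj _ z.2⟩
      map_one' := Subtype.ext (by simp [hc])
      map_mul' := fun p q => Subtype.ext (by simp only [hc, Subgroup.coe_mul]; group) }
  have hYodd : Odd (Nat.card Y) := by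
    rw [← Nat.not_even_iff_odd, even_iff_two_dvd]
    exact odd_of_le (ClosedAbelian.core_odd _) (show Y ≤ Kf (f 2) from fun z hz => hz.1)
  have hinvol : ∀ j (hj : j < 5) (z : Y), S j hj (S j hj z) = z := fun j hj z => Subtype.ext (by
    show f (pt j) * (f (pt j) * z * (f (pt j))⁻¹) * (f (pt j))⁻¹ = z
    rw [show f (pt j) * (f (pt j) * (z : G) * (f (pt j))⁻¹) * (f (pt j))⁻¹ =
      f (pt j) * f (pt j) * z * (f (pt j) * f (pt j))⁻¹ by group, D.pt_sq hj]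
    group)
  have h := commute_of_inverted _ (H := Y) rfl hYodd (S k hk) (S m hm) (hinvol k hk) (hinvol m hm)
    (fun z => Subtype.ext (D.pt_act_comm hk hm z.2.1)) ?_ ⟨x, hxY⟩ ⟨y, hyY⟩
    (Subtype.ext (by show f (pt k) * x * (f (pt k))⁻¹ = x; rw [← (mem_Dk.1 hx).2, mul_inv_cancel_right]))
    (Subtype.ext (hxi m hm (Ne.symm hkm))) (Subtype.ext (hyi k hk hkm))
    (Subtype.ext (by show f (pt m) * y * (f (pt m))⁻¹ = y; rw [← (mem_Dk.1 hy).2, mul_inv_cancel_right]))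
  · exact congrArg Subtype.val h
  -- nothing is inverted by both
  intro z hz
  refine Subtype.ext ?_
  have hz' : c k (c m z) = z := congrArg Subtype.val hz
  obtain ⟨a, b, d, hab, had, hbd, hak, ham, hbk, hbm, hdk, hdm⟩ := others_three k hk m hm hkm
  have hzK : (z : G) ∈ Kf (f 2) := z.2.1
  -- the other three act as the product of the two
  have hprod : ∀ w ∈ Kf (f 2), c 0 (c 1 (c 2 (c 3 (c 4 w)))) = w := by
    intro w hw
    simp only [hc]
    have h := congrArg f pt_prod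
    rw [D.emb.hom _ _ (mulN_lt _ _) (D.pt_lt (by omega)), D.emb.hom _ _ (mulN_lt _ _) (D.pt_lt (by omega)),
      D.emb.hom _ _ (mulN_lt _ _) (D.pt_lt (by omega)), D.emb.hom _ _ (D.pt_lt (by omega)) (D.pt_lt (by omega))] at h
    calc _ = f (pt 0) * f (pt 1) * f (pt 2) * f (pt 3) * f (pt 4) * w *
        (f (pt 0) * f (pt 1) * f (pt 2) * f (pt 3) * f (pt 4))⁻¹ := by group
      _ = w := by rw [h, D.conj_z hw]
  have hCa : c a z = z := by
    have hcl : ∀ j, j < 5 → ∀ w ∈ Kf (f 2), c j w ∈ Kf (f 2) := fun j hj w hw =>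
      conj_mem_normalizer (D.pt_norm hj) hw
    have hcc : ∀ i j, i < 5 → j < 5 → ∀ w ∈ Kf (f 2), c i (c j w) = c j (c i w) := fun i j hi hj w hw =>
      D.pt_act_comm hi hj hw
    have hsq : ∀ j, j < 5 → ∀ w ∈ Kf (f 2), c j (c j w) = w := fun j hj w _ => by
      simp only [hc]
      rw [show f (pt j) * (f (pt j) * w * (f (pt j))⁻¹) * (f (pt j))⁻¹ =
        f (pt j) * f (pt j) * w * (f (pt j) * f (pt j))⁻¹ by group, D.pt_sq hj]
      group
    have hlast := perm_five c (Kf (f 2) : Set G) hcl hcc hk hm hkm hab had hbd hak ham hbk hbm hdk hdm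
      hzK (hprod _ hzK)
    rw [hz'] at hlast
    have e1 : c a z = c b z := z.2.2 ⟨a, hak, ham⟩ ⟨b, hbk, hbm⟩
    have e2 : c b z = c d z := z.2.2 ⟨b, hbk, hbm⟩ ⟨d, hdk, hdm⟩
    rw [← e2, hsq b b.2 _ hzK] at hlast
    exact hlast
  have hzD : (z : G) ∈ Dk f a := mem_Dk.2 ⟨hzK, (mul_inv_eq_iff_eq_mul.1 hCa).symm⟩
  show c k z = z
  rw [show c k z = c b z from D.pair_fix hW a.2 hk b.2 (Ne.symm hak) (fun e => hab (Fin.ext e.symm)) hzD]
  rw [← z.2.2 ⟨a, hak, ham⟩ ⟨b, hbk, hbm⟩]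
  exact hCa

end Setup

end Cfsg.Agent.J2Core
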