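import Cfsg.Agent.Lib.J2Core.Functor
import Cfsg.Agent.Lib.J2Core.Sec
import Cfsg.Agent.Lib.J2Core.Points

/-!
In the unbalanced case the three cores generate a proper subgroup.
-/

set_option autoImplicit false
set_option linter.style.haveILetI false
set_option linter.unusedSectionVars false

namespace Cfsg.Agent.J2Core

open Subgroup
open Cfsg.Agent.J2Type
open Cfsg.Agent.ClosedAbelian (TwoEl core mem_of_sq_mem odd_orderOf_of_mem)

universe u

variable {G : Type u} [Group G] [Finite G] {f : ℕ → G}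

namespace Setup

variable (D : Setup f)
include D

/-- Without balance every outside element has actors. -/
theorem nt_all (hU : D.StabU) (hbal : ¬ D.Bal) : ∀ a ∈ D.A, a ∉ D.U → D.NT a := by
  intro a ha haU
  by_contra h
  refine hbal (D.bal_of_not_NT hU fun b hb hbU hb' => h ?_)
  obtain ⟨g, hg, -, e⟩ := D.conj_out hb hbU ha haU
  exact e ▸ D.NT_conj hg hb'

theorem D0_fix {x : G} (hx : x ∈ Dk f 4) :
    x ∈ centralizer (D.U : Set G) ∧ x ∈ Kf (f 2) ∧ x ∈ Kf (f 1) ∧ x ∈ Kf (f 8) := by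
  rw [D.Dk_four] at hx
  obtain ⟨hxK, hxu⟩ := mem_inf.1 hx
  have hu := mem_centralizer_singleton_iff.1 hxu
  have hz := Kf_comm hxK
  have h8 : x * f 8 = f 8 * x := by
    rw [show (8 : ℕ) = mulN 1 2 from u_facts.2.2.2.1.symm, D.emb.hom 1 2 (by omega) (by omega)]
    exact ((show Commute x (f 1) from hu).mul_right hz).eq
  refine ⟨mem_centralizer_iff.2 fun w hw => ?_, hxK,
    D.Kf_inf_le (D.U_le_A D.z_mem_U) D.u_mem_U D.u_ne ⟨hxK, hxu⟩,
    D.Kf_inf_le (D.U_le_A D.z_mem_U) D.uz_mem_U D.uz_ne ⟨hxK, mem_centralizer_singleton_iff.2 h8⟩⟩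
  rcases D.U_cases hw with rfl | rfl | rfl | rfl
  exacts [by simp, hz.symm, hu.symm, h8.symm]

theorem D0_le_RtU {x : G} (hx : x ∈ Dk f 4) : x ∈ Rt D.U := by
  obtain ⟨h1, h2, h3, h4⟩ := D.D0_fix hx
  refine mem_inf.2 ⟨h1, mem_iInf.2 ?_⟩
  rintro ⟨c, hc, hc1⟩
  rcases D.U_cases hc with rfl | rfl | rfl | rfl
  exacts [absurd rfl hc1, h2, h3, h4]

variable (hU : D.StabU) (hNT : ∀ a ∈ D.A, a ∉ D.U → D.NT a) (hN : D.NN = ⊥)
include hU hNT hN

theorem Rt_le_cA {E : Subgroup G} (hE : E ≤ D.A) (hE4 : 4 ≤ Nat.card E) : Rt E ≤ centralizer (D.A : Set G) := by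
  intro p hp
  refine mem_centralizer_iff.2 fun a ha => ?_
  obtain ⟨e, he, he1⟩ := D.four_ne_bot hE4
  have hodd : ¬ 2 ∣ Nat.card (Rt E) := odd_of_le (ClosedAbelian.core_odd _) (Rt_le he he1)
  obtain ⟨s, -, t, ht, rfl, hsR, hs, hta⟩ := split hodd (D.A_mul_self ha)
    (fun q hq => conj_mem_normalizer (D.A_le_normalizer_Rt hE ha) hq) hp
  have hs1 := D.inverted_mem_NN hU hNT hE hE4 hsR ha hs
  rw [hN, mem_bot] at hs1
  rw [hs1, one_mul]; exact hta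

theorem D0_le_cW : ∀ x ∈ Dk f 4, ∀ w ∈ D.W, w * x = x * w := by
  have hA : ∀ x ∈ Dk f 4, x ∈ centralizer (D.A : Set G) := fun x hx =>
    D.Rt_le_cA hU hNT hN D.U_le_A D.card_U.ge (D.D0_le_RtU hx)
  intro x hx w hw
  obtain ⟨a, ha, b, hb, rfl⟩ := D.W_split hw
  have hxa : a * x = x * a := mem_centralizer_iff.1 (hA x hx) a ha
  -- move to the first subgroup
  have hq := D.q_sq
  have hx' : f 5 * x * (f 5)⁻¹ ∈ Dk f 4 := by
    rw [D.Dk_four, mem_inf]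
    obtain ⟨hxU, hxK, -, -⟩ := D.D0_fix hx
    refine ⟨conj_mem_normalizer (Kf_normalized (D.lab_comm (show 5 < 128 by omega))) hxK,
      mem_centralizer_singleton_iff.2 ?_⟩
    have h : f 5 * f 1 * (f 5)⁻¹ ∈ D.U :=
      conj_mem_normalizer (D.range_le_NU (D.emb.apply_mem (show 5 < 128 by omega))) D.u_mem_U
    have h1 : f 5 * f 1 * (f 5)⁻¹ ≠ 1 := fun e => D.u_ne (conj_eq_one_iff.1 e)
    have h2 := Emb.conj_comm (f 5) (mem_centralizer_iff.1 hxU _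
      (conj_mem_normalizer (D.range_le_NU (inv_mem (D.emb.apply_mem (show 5 < 128 by omega)))) D.u_mem_U)).symm
    rwa [show f 5 * ((f 5)⁻¹ * f 1 * (f 5)⁻¹⁻¹) * (f 5)⁻¹ = f 1 by group] at h2
  have hqb : f 5 * b * (f 5)⁻¹ ∈ D.A := D.q_B hb
  have hxb : b * x = x * b := by
    have h := Emb.conj_comm (f 5) (mem_centralizer_iff.1 (hA _ hx') _ hqb)
    rwa [show f 5 * (f 5 * b * (f 5)⁻¹) * (f 5)⁻¹ = f 5 * f 5 * b * (f 5 * f 5)⁻¹ by group,
      show f 5 * (f 5 * x * (f 5)⁻¹) * (f 5)⁻¹ = f 5 * f 5 * x * (f 5 * f 5)⁻¹ by group, hq,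
      show (1 : G) * b * 1⁻¹ = b by group, show (1 : G) * x * 1⁻¹ = x by group] at h
  exact ((show Commute a x from hxa).mul_left hxb).eq

theorem D0_inf_core {x : G} (hx : x ∈ Dk f 4) (hxo : x ∈ Kf (f 26)) : x = 1 := by
  have hW := D.D0_le_cW hU hNT hN x hx
  obtain ⟨hxU, h2, h3, h4⟩ := D.D0_fix hx
  set H := D.U ⊔ zpowers (f 26)
  have hH : H ≤ D.A := sup_le D.U_le_A (zpowers_le.2 D.o_mem_A)
  have hne : f 26 ≠ 1 := fun e => D.o_not_U (e ▸ one_mem _)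
  have hz2 : Nat.card (zpowers (f 26)) = 2 := by
    haveI : Fact (Nat.Prime 2) := ⟨Nat.prime_two⟩
    rw [Nat.card_zpowers]; exact Signalizer.ea_orderOf D.A_ea D.o_mem_A hne
  have hn : zpowers (f 26) ≤ normalizer (D.U : Set G) :=
    ((zpowers_le.2 D.o_mem_A).trans (Signalizer.ea_le_centralizer D.A_ea D.U_le_A)).trans
      (centralizer_le_normalizer _)
  have hHc : Nat.card H * 2 = Nat.card D.A := by
    rw [SolvBasic.card_sup_of_inf_eq_bot hn ((eq_bot_iff_forall _).2 fun q hq => by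
      rcases ClosedAbelian.zpowers_cases (D.A_mul_self D.o_mem_A) hq.2 with e | e
      · exact e
      · exact absurd (e ▸ hq.1) D.o_not_U), D.card_U, hz2, D.card_A]
  have hmem : x ∈ D.NN := by
    refine le_iSup (fun H : {H : Subgroup G // H ≤ D.A ∧ Nat.card H * 2 = Nat.card D.A} => Rt H.1) ⟨H, hH, hHc⟩
      (mem_inf.2 ⟨mem_centralizer_iff.2 fun p hp => hW p (D.A_le_W (hH hp)), mem_iInf.2 ?_⟩)
    rintro ⟨c, hc, hc1⟩
    by_cases hcU : c ∈ D.U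
    · rcases D.U_cases hcU with rfl | rfl | rfl | rfl
      exacts [absurd rfl hc1, h2, h3, h4]
    obtain ⟨w0, hw0, i, hi, e⟩ := (SolvBasic.mem_sup_iff_of_le_normalizer hn).1 hc
    have hi' : i = f 26 := (ClosedAbelian.zpowers_cases (D.A_mul_self D.o_mem_A) hi).resolve_left fun e' =>
      hcU (by rw [e, e', mul_one]; exact hw0)
    have hoc : f 26 * c ∈ D.U := by
      rw [e, hi', D.A_comm (D.U_le_A hw0) D.o_mem_A, ← mul_assoc, D.A_mul_self D.o_mem_A, one_mul]; exact hw0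
    obtain ⟨w, hw, ew⟩ := D.w_conj D.o_mem_A D.o_not_U (hH hc) hoc
    have h := conj_Kf (g := w) hxo
    rwa [ew, hW w hw, mul_inv_cancel_right] at h
  rwa [hN, mem_bot] at hmem

theorem exists_fix (hbal : ¬ D.Bal) {a : G} (ha : a ∈ D.U) (ha1 : a ≠ 1) :
    ∃ g : G, g * f 2 * g⁻¹ = a ∧ ∀ x ∈ Dk f 4, g * x = x * g := by
  classical
  haveI : Fact (Nat.Prime 2) := ⟨Nat.prime_two⟩
  have ho := D.o_mem_A
  have hn := hNT _ ho D.o_not_U
  obtain ⟨X, _, _, π, hπ⟩ := D.exists_sec hU hn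
  rcases D.sec_cases hπ hU hn with h | ⟨L, hL, hUL, -⟩
  · exact absurd (D.bal_of_balO h) hbal
  have hord : ∀ w (hw : w ∈ D.U), w ≠ 1 → orderOf (π ⟨w, D.U_le_co hw⟩) = 2 := fun w hw hw1 => by
    refine Invol.order_two_of_sq ?_ fun e => hw1 (D.ubar_inj hπ hU hn hw e)
    rw [← map_mul, show (⟨w, D.U_le_co hw⟩ : ↥(centralizer ({f 26} : Set G))) * ⟨w, D.U_le_co hw⟩ = 1 from Subtype.ext (D.A_mul_self (D.U_le_A hw)),
      map_one]
  have hmemU : ∀ w (hw : w ∈ D.U), π ⟨w, D.U_le_co hw⟩ ∈ Ubar D π := fun w hw =>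
    mem_map_of_mem π (mem_subgroupOf.2 hw)
  set u₁ := π ⟨f 2, D.U_le_co D.z_mem_U⟩
  set v₁ := π ⟨a, D.U_le_co ha⟩
  haveI := hL.normal
  obtain ⟨g0, hg0L, hg0⟩ := hL.one_class u₁ v₁ (hUL (hmemU _ D.z_mem_U)) (hUL (hmemU _ ha))
    (hord _ D.z_mem_U D.z_ne) (hord _ ha ha1)
  -- move the second centre back
  have hcent : ∀ w ∈ Ubar D π, w * v₁ = v₁ * w := fun w hw =>
    Signalizer.ea_comm D.ubar_ea hw (hmemU _ ha)
  have hU2 : IsPGroup 2 ↥((Ubar D π).map (MulAut.conj g0).toMonoidHom) := D.ubar_two.map _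
  have hle1 : Ubar D π ≤ L ⊓ centralizer ({v₁} : Set X) := fun w hw =>
    ⟨hUL hw, mem_centralizer_singleton_iff.2 (hcent w hw)⟩
  obtain ⟨c, hc, T, hT, hUT, hTX, hPT⟩ := ClosedAbelian.exists_conj_over (X := L ⊓ centralizer ({v₁} : Set X))
    D.ubar_two hle1 hU2 (by
      rintro _ ⟨w, hw, rfl⟩
      refine mem_inf.2 ⟨mul_mem (mul_mem hg0L (hUL hw)) (inv_mem hg0L), mem_centralizer_singleton_iff.2 ?_⟩
      rw [← hg0]
      exact Emb.conj_comm g0 (Signalizer.ea_comm D.ubar_ea hw (hmemU _ D.z_mem_U)))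
  have hTU : T = Ubar D π := (eq_of_le_of_card_ge hUT ((hπ.small T hT).trans (D.card_ubar hπ hU hn).ge)).symm
  set g1 := c * g0
  have hg1L : g1 ∈ L := mul_mem hc.1 hg0L
  have hg1 : g1 * u₁ * g1⁻¹ = v₁ := by
    rw [show g1 * u₁ * g1⁻¹ = c * (g0 * u₁ * g0⁻¹) * c⁻¹ by simp only [g1]; group, hg0,
      mem_centralizer_singleton_iff.1 hc.2, mul_inv_cancel_right]
  have hg1U : ∀ w ∈ Ubar D π, g1 * w * g1⁻¹ ∈ Ubar D π := fun w hw => by
    rw [show g1 * w * g1⁻¹ = c * (g0 * w * g0⁻¹) * c⁻¹ by simp only [g1]; group, ← hTU]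
    exact hPT _ ⟨w, hw, rfl⟩
  obtain ⟨⟨y, hyC⟩, hy⟩ := hπ.surj g1
  -- lift to the normaliser of the first subgroup
  have hya : ∀ p ∈ D.A, y * p * y⁻¹ ∈ Kf (f 26) ⊔ D.A := by
    intro p hp
    have hpC := D.A_le_centralizer ho hp
    have hpU : π ⟨p, hpC⟩ ∈ Ubar D π := by
      obtain ⟨v, hv, w, hw, rfl⟩ := (SolvBasic.mem_sup_iff_of_le_normalizer
        ((D.U_le_A.trans (Signalizer.ea_le_centralizer D.A_ea (D.Vof_le _))).trans
          (centralizer_le_normalizer _))).1 (D.A_le_Vof_sup hU ho D.o_not_U hp)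
      rw [show (⟨v * w, hpC⟩ : ↥(centralizer ({f 26} : Set G))) = ⟨v, D.V_le_co _ ho hv⟩ * ⟨w, D.U_le_co hw⟩ from rfl, map_mul,
        (hπ.ker ⟨v, D.V_le_co _ ho hv⟩).2 (mem_sup_right hv), one_mul]
      exact hmemU w hw
    obtain ⟨⟨w, hwC⟩, hw, e⟩ := hg1U _ hpU
    have hk : π (⟨y, hyC⟩ * ⟨p, hpC⟩ * ⟨y, hyC⟩⁻¹ * (⟨w, hwC⟩ : ↥(centralizer ({f 26} : Set G)))⁻¹) = 1 := by
      rw [map_mul, map_mul, map_mul, map_inv, map_inv, hy, e, mul_inv_cancel]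
    have h := (hπ.ker _).1 hk
    change y * p * y⁻¹ * w⁻¹ ∈ _ at h
    rw [show y * p * y⁻¹ = y * p * y⁻¹ * w⁻¹ * w by group]
    exact mul_mem ((sup_le_sup le_rfl (D.Vof_le _)) h) (mem_sup_right (D.U_le_A (mem_subgroupOf.1 hw)))
  obtain ⟨k, hk, hky⟩ := Walter8.exists_lift_normalizer D.A_two
    (by rw [← Nat.not_even_iff_odd, even_iff_two_dvd]; exact ClosedAbelian.core_odd _)
    (D.A_le_normalizer_Kf ho) hya
  have hkC := ClosedAbelian.core_le _ hk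
  have hrC : k * y ∈ centralizer ({f 26} : Set G) := mul_mem hkC hyC
  have hπr : π ⟨k * y, hrC⟩ = g1 := by
    rw [show (⟨k * y, hrC⟩ : ↥(centralizer ({f 26} : Set G))) = ⟨k, hkC⟩ * ⟨y, hyC⟩ from rfl, map_mul,
      (hπ.ker ⟨k, hkC⟩).2 (mem_sup_left hk), one_mul, hy]
  have hrU := D.normalizer_A_le hU hky
  refine ⟨k * y, ?_, fun x hx => ?_⟩
  · set d := k * y * f 2 * (k * y)⁻¹
    have hdU : d ∈ D.U := conj_mem_normalizer hrU D.z_mem_U
    have h1 : π ⟨d, D.U_le_co hdU⟩ = v₁ := by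
      rw [show (⟨d, D.U_le_co hdU⟩ : ↥(centralizer ({f 26} : Set G))) = ⟨k * y, hrC⟩ * ⟨f 2, D.U_le_co D.z_mem_U⟩ * ⟨k * y, hrC⟩⁻¹ from rfl,
        map_mul, map_mul, map_inv, hπr, hg1]
    have h2 := D.ubar_inj hπ hU hn (w := d * a⁻¹) (mul_mem hdU (inv_mem ha)) (by
      rw [show (⟨d * a⁻¹, _⟩ : ↥(centralizer ({f 26} : Set G))) = ⟨d, D.U_le_co hdU⟩ * ⟨a, D.U_le_co ha⟩⁻¹ from rfl, map_mul, map_inv, h1,
        mul_inv_cancel])
    exact mul_inv_eq_one.1 h2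
  -- the odd part of the fixed subgroup is centralised in the socle
  have hW := D.D0_le_cW hU hNT hN
  obtain ⟨hxU, hxK, -, -⟩ := D.D0_fix hx
  have hxC : x ∈ centralizer ({f 26} : Set G) := mem_centralizer_singleton_iff.2 (hW x hx _ (D.A_le_W ho)).symm
  set s := π ⟨x, hxC⟩
  have hso : Odd (orderOf s) := (odd_orderOf_of_mem (ClosedAbelian.core_odd _) hxK).of_dvd_nat
    ((orderOf_map_dvd π _).trans (by rw [Subgroup.orderOf_mk]))
  have hsU : ∀ w (hw : w ∈ D.U), s * π ⟨w, D.U_le_co hw⟩ = π ⟨w, D.U_le_co hw⟩ * s := fun w hw => by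
    rw [← map_mul, ← map_mul]
    exact congrArg π (Subtype.ext (mem_centralizer_iff.1 hxU w hw).symm)
  set p₁ := π ⟨f 1, D.U_le_co D.u_mem_U⟩
  have hcl : closure ({u₁, p₁} : Set X) = Ubar D π := by
    refine le_antisymm ((closure_le _).2 ?_) ?_
    · rintro q (rfl | rfl)
      exacts [hmemU _ D.z_mem_U, hmemU _ D.u_mem_U]
    · rintro _ ⟨⟨w, hwC⟩, hw, rfl⟩
      have m1 : u₁ ∈ closure ({u₁, p₁} : Set X) := subset_closure (Set.mem_insert _ _)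
      have m2 : p₁ ∈ closure ({u₁, p₁} : Set X) := subset_closure (Set.mem_insert_of_mem _ rfl)
      rcases D.U_cases (mem_subgroupOf.1 hw) with h | h | h | h <;> change w = _ at h <;> subst h
      · rw [show (⟨1, hwC⟩ : ↥(centralizer ({f 26} : Set G))) = 1 from rfl, map_one]; exact one_mem _
      · exact m1
      · exact m2
      · have e : f 8 = f 1 * f 2 := by rw [← D.emb.hom 1 2 (by omega) (by omega), u_facts.2.2.2.1]
        rw [show (⟨f 8, hwC⟩ : ↥(centralizer ({f 26} : Set G))) = ⟨f 1, D.U_le_co D.u_mem_U⟩ * ⟨f 2, D.U_le_co D.z_mem_U⟩ from Subtype.ext e,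
          map_mul]
        exact mul_mem m2 m1
  have hne : u₁ ≠ p₁ := fun e => by
    have h := D.ubar_inj hπ hU hn (w := f 2 * (f 1)⁻¹) (mul_mem D.z_mem_U (inv_mem D.u_mem_U)) (by
      rw [show (⟨f 2 * (f 1)⁻¹, _⟩ : ↥(centralizer ({f 26} : Set G))) = ⟨f 2, D.U_le_co D.z_mem_U⟩ * ⟨f 1, D.U_le_co D.u_mem_U⟩⁻¹ from rfl,
        map_mul, map_inv]
      exact mul_inv_eq_one.2 e)
    exact absurd (D.emb.inj 2 1 (by omega) (by omega) (mul_inv_eq_one.1 h)) (by omega)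
  have hcomm := hL.klein_norm u₁ p₁ s g1 (hUL (hmemU _ D.z_mem_U)) (hUL (hmemU _ D.u_mem_U))
    (hord _ D.z_mem_U D.z_ne) (hord _ D.u_mem_U D.u_ne) hne
    (Signalizer.ea_comm D.ubar_ea (hmemU _ D.z_mem_U) (hmemU _ D.u_mem_U)) hso (hsU _ D.z_mem_U) (hsU _ D.u_mem_U)
    hg1L (by rw [hcl]; exact SEBrick.mem_normalizer_of hg1U)
  -- so the commutator is in the core
  have hx' : k * y * x * (k * y)⁻¹ ∈ Dk f 4 := by
    rw [D.Dk_four, mem_inf]
    have hd2 := conj_mem_normalizer (inv_mem hrU) D.z_mem_U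
    have hd1 : (k * y)⁻¹ * f 2 * (k * y)⁻¹⁻¹ ≠ 1 := fun e => D.z_ne (conj_eq_one_iff.1 e)
    have h2 : x ∈ Kf ((k * y)⁻¹ * f 2 * (k * y)⁻¹⁻¹) := Rt_le hd2 hd1 (D.D0_le_RtU hx)
    refine ⟨?_, mem_centralizer_singleton_iff.2 ?_⟩
    · have h3 := conj_Kf (g := k * y) h2
      rwa [show k * y * ((k * y)⁻¹ * f 2 * (k * y)⁻¹⁻¹) * (k * y)⁻¹ = f 2 by group] at h3
    · have hd := conj_mem_normalizer (inv_mem hrU) D.u_mem_U
      have h3 := Emb.conj_comm (k * y) (mem_centralizer_iff.1 hxU _ hd).symm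
      rwa [show k * y * ((k * y)⁻¹ * f 1 * (k * y)⁻¹⁻¹) * (k * y)⁻¹ = f 1 by group] at h3
  have hcD : k * y * x * (k * y)⁻¹ * x⁻¹ ∈ Dk f 4 := mul_mem hx' (inv_mem hx)
  have hcodd : Odd (orderOf (k * y * x * (k * y)⁻¹ * x⁻¹)) :=
    odd_orderOf_of_mem (ClosedAbelian.core_odd _) (mem_Dk.1 hcD).1
  have hmem : k * y * x * (k * y)⁻¹ * x⁻¹ ∈ Kf (f 26) ⊔ D.Vof (f 26) := by
    refine (hπ.ker (⟨k * y, hrC⟩ * ⟨x, hxC⟩ * ⟨k * y, hrC⟩⁻¹ * ⟨x, hxC⟩⁻¹)).1 ?_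
    rw [map_mul, map_mul, map_mul, map_inv, map_inv, hπr]
    change g1 * s * g1⁻¹ * s⁻¹ = 1
    rw [← hcomm]
    group
  have h1 := D.D0_inf_core hU hNT hN hcD (D.odd_mem_of_mem_sup ho hmem hcodd)
  rw [mul_inv_eq_one, mul_inv_eq_iff_eq_mul] at h1
  exact h1

theorem GU_proper_of_bot (hbal : ¬ D.Bal) : GU f ≠ ⊤ := by
  classical
  have hW := D.D0_le_cW hU hNT hN
  have hPle : ∀ k, Pk f k ≤ Dk f k := fun k => (closure_le _).2 fun x hx => hx.1
  have hFn : ∀ k, k < 5 → Ff f ≤ normalizer (Pk f k : Set G) := by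
    intro k hk x hx
    refine SEBrick.mem_normalizer_of fun y hy => ?_
    have hxj : ∀ j, j < 5 → x * f (pt j) = f (pt j) * x := fun j hj =>
      (mem_Dk.1 (D.Ff_le hj hx)).2
    have hmap : (Pk f k).map (MulAut.conj x).toMonoidHom ≤ Pk f k := by
      rw [Pk, MonoidHom.map_closure, closure_le]
      rintro _ ⟨p, ⟨hp, l, hl, hlk, e⟩, rfl⟩
      show x * p * x⁻¹ ∈ _
      have hxD := D.Ff_le hk hx
      refine subset_closure ⟨mul_mem (mul_mem hxD hp) (inv_mem hxD), l, hl, hlk, ?_⟩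
      rw [show f (pt l) * (x * p * x⁻¹) * (f (pt l))⁻¹ = (f (pt l) * x) * p * (f (pt l) * x)⁻¹ by group, ← hxj l hl,
        show x * f (pt l) * p * (x * f (pt l))⁻¹ = x * (f (pt l) * p * (f (pt l))⁻¹) * x⁻¹ by group, e]
      group
    exact hmap ⟨y, hy, rfl⟩
  have hKn : Kf (f 2) ≤ normalizer (Pk f 4 : Set G) := by
    refine D.Kf_le_Dk.trans (iSup_le fun m => (D.Dk_split hW m.2).trans (sup_le ?_ (hFn 4 (by omega))))
    by_cases hm : (m : ℕ) = 4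
    · rw [hm]; exact le_normalizer
    · refine le_trans ?_ (centralizer_le_normalizer _)
      rw [Pk, closure_le]
      intro p hp
      show p ∈ centralizer (Pk f 4 : Set G)
      rw [Pk, centralizer_closure, mem_centralizer_iff]
      exact fun q hq => (D.gen_comm hW m.2 (show 4 < 5 by omega) hm hp.1 hp.2 hq.1 hq.2).symm
  have hodd := ClosedAbelian.core_odd (centralizer ({f 2} : Set G))
  have hfix : ∀ a ∈ D.U, a ≠ 1 → ∀ Y : Subgroup G, Y ≤ Dk f 4 →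
      Kf (f 2) ≤ normalizer (Y : Set G) → Kf a ≤ normalizer (Y : Set G) := by
    intro a ha ha1 Y hY hYn x hx
    obtain ⟨g, hg, hgc⟩ := D.exists_fix hU hNT hN hbal ha ha1
    have hg' : g ∈ centralizer (Y : Set G) := mem_centralizer_iff.2 fun q hq => (hgc q (hY hq)).symm
    have hgn := centralizer_le_normalizer _ hg'
    have h := conj_Kf (g := g⁻¹) hx
    rw [← hg, show g⁻¹ * (g * f 2 * g⁻¹) * g⁻¹⁻¹ = f 2 by group] at h
    rw [show x = g * (g⁻¹ * x * g⁻¹⁻¹) * g⁻¹ by group]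
    exact mul_mem (mul_mem hgn (hYn h)) (inv_mem hgn)
  intro htop
  by_cases hP : Pk f 4 = ⊥
  · -- everything is fixed by all the points
    have hD4 : Dk f 4 = Ff f := le_antisymm ((D.Dk_split hW (show 4 < 5 by omega)).trans (by rw [hP, bot_sup_eq]))
      (D.Ff_le (by omega))
    have hall : ∀ k : Fin 5, Dk f k ≤ Ff f := by
      intro k
      obtain ⟨g, hg, e⟩ := D.exists_to k.2
      refine (eq_of_le_of_card_ge (D.Ff_le k.2) ?_).ge
      rw [D.Dk_eq_map k.2 hg e, card_map_of_injective (MulAut.conj g).injective, hD4]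
    have hKD : Kf (f 2) ≤ Dk f 4 := (D.Kf_le_Dk.trans (iSup_le hall)).trans hD4.ge
    have heq : ∀ a ∈ D.U, a ≠ 1 → Kf a ≤ Kf (f 2) := by
      intro a ha ha1 x hx
      obtain ⟨g, hg, hgc⟩ := D.exists_fix hU hNT hN hbal ha ha1
      have h := conj_Kf (g := g⁻¹) hx
      rw [← hg, show g⁻¹ * (g * f 2 * g⁻¹) * g⁻¹⁻¹ = f 2 by group] at h
      have hgy := hgc _ (hKD h)
      rw [show x = g * (g⁻¹ * x * g⁻¹⁻¹) * g⁻¹ by group, hgy, mul_inv_cancel_right]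
      exact h
    have hGK : GU f ≤ Kf (f 2) :=
      sup_le (sup_le le_rfl (heq _ D.u_mem_U D.u_ne)) (heq _ D.uz_mem_U D.uz_ne)
    exact D.ne_top_of_odd hodd (top_le_iff.1 (htop ▸ hGK))
  · have hPodd : ¬ 2 ∣ Nat.card (Pk f 4) := odd_of_le hodd ((hPle 4).trans inf_le_left)
    refine D.normalizer_ne_top hP (D.ne_top_of_odd hPodd) (top_le_iff.1 ?_)
    rw [← htop]
    exact sup_le (sup_le hKn (hfix _ D.u_mem_U D.u_ne _ (hPle 4) hKn)) (hfix _ D.uz_mem_U D.uz_ne _ (hPle 4) hKn)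

omit hN in
/-- The three cores generate a proper subgroup. -/
theorem GU_proper (hbal : ¬ D.Bal) : GU f ≠ ⊤ := by
  by_cases hN : D.NN = ⊥
  · exact D.GU_proper_of_bot hU hNT hN hbal
  · exact D.GU_proper_of_NN hU hNT hN

end Setup

end Cfsg.Agent.J2Core
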