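import Cfsg.Agent.Lib.J2Core.Count
import Cfsg.Agent.Lib.J2Core.CentO
import Cfsg.Agent.Lib.J2Core.Proper
import Cfsg.Agent.Lib.J2Type.Finish
import Cfsg.Agent.Lib.J2Type.Main

/-!
A simple group with the table as Sylow 2-subgroup has trivial core in the centraliser of the central involution,
hence it is one of the two groups.
-/

set_option autoImplicit false
set_option linter.style.haveILetI false
set_option linter.unusedSectionVars false

namespace Cfsg.Agent.J2Core

open Subgroup
open Cfsg.Agent.J2Type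

universe u

variable {G : Type u} [Group G] [Finite G] {f : ℕ → G}

namespace Setup

variable (D : Setup f)
include D

/-- The core of the centraliser of the central involution is trivial. -/
theorem core_eq_bot : Kf (f 2) = ⊥ := by
  by_contra hK
  by_cases hbal : D.Bal
  · exact D.false_of_bal hK hbal
  have hU : D.StabU := by_contra fun h => hbal (D.bal_of_not_stabU h)
  have hNT := D.nt_all hU hbal
  have hn := hNT _ D.o_mem_A D.o_not_U
  have hbalO : ¬ D.BalO := fun h => hbal (D.bal_of_balO h)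
  set M := normalizer (GU f : Set G) with hM
  have hKG : Kf (f 2) ≤ GU f := D.Kf_le_GU D.z_mem_U D.z_ne
  have hG : GU f ≤ M := le_normalizer
  have hMtop : M ≠ ⊤ := D.normalizer_ne_top (fun e => hK (le_bot_iff.1 (e ▸ hKG))) (D.GU_proper hU hNT hbal)
  have hNU := D.GU_normalized
  have hCo := D.co_le hNU hG hU hn hbalO
  obtain ⟨h, hA, hB, -, hu, -, -⟩ := D.exists_h
  by_cases hnm : ∀ m ∈ M, ∀ hm : m * f 2 = f 2 * m,
      ((D.perm hm : alternatingGroup (Fin 5)) : Equiv.Perm (Fin 5)) 4 = 4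
  · exact hbal (D.bal_of_count hU M hNU (hKG.trans hG) hCo hnm)
  · simp only [not_forall] at hnm
    obtain ⟨m, hm, hmz, hm4⟩ := hnm
    exact D.end_lemma hMtop (D.mover (hKG.trans hG) (inf_le_left.trans hNU) hm hmz hm4) hCo
      (hNU (D.normalizer_U hA hB)) hu

end Setup

/-- The recognition. -/
theorem isoJ2_or_isoJ3_of_sylow {G : Type u} [Group G] [Finite G] [IsSimpleGroup G] (S : Sylow 2 G)
    (P : Sylow 2 Cfsg.Spor.J2) (hS : Nonempty (↥(S : Subgroup G) ≃* ↥(P : Subgroup Cfsg.Spor.J2)))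
    : Cfsg.Spor.IsoJ2 G ∨ Cfsg.Spor.IsoJ3 G := by
  haveI : Fact (Nat.Prime 2) := ⟨Nat.prime_two⟩
  obtain ⟨f, E, hE⟩ := J2Type.exists_emb S P hS
  have hodd : ¬ 2 ∣ E.range.index := by rw [hE]; exact S.not_dvd_index
  have D : Setup f := ⟨E, hodd, inferInstance⟩
  have hK : Cfsg.oddCore ↥(centralizer ({f 2} : Set G)) = ⊥ :=
    (map_eq_bot_iff_of_injective _ (Subgroup.subtype_injective _)).1 D.core_eq_bot
  obtain ⟨g, hg⟩ := D.u_conj
  exact J2Type.isoJ2_or_isoJ3 E hodd D.index_ne_two hK (isConj_iff.2 ⟨g, hg⟩).symm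

end Cfsg.Agent.J2Core
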