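import Cfsg.Agent.Lib.J2Core.Fus
import Cfsg.Agent.Lib.SEMain.Proof
import Cfsg.Agent.Lib.Involutions.StronglyEmbedded

/-!
The subgroup generated by the cores of the centralisers of the involutions of the second centre, and the two
lemmas that end the argument: a proper subgroup with the centralisers is strongly embedded, and a mover
together with the stabiliser gives the whole centraliser.
-/

set_option autoImplicit false
set_option linter.style.haveILetI false
set_option linter.unusedSectionVars false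

namespace Cfsg.Agent.J2Core

open Subgroup
open Cfsg.Agent.J2Type
open Cfsg.Agent.J2Type.Cen (act4)
open Cfsg.Agent.ClosedAbelian (TwoEl core mem_of_sq_mem odd_orderOf_of_mem)

universe u

variable {G : Type u} [Group G] [Finite G] {f : ℕ → G}

theorem centralizer_conj (g a : G) :
    (centralizer ({a} : Set G)).map (MulAut.conj g).toMonoidHom = centralizer ({g * a * g⁻¹} : Set G) := by
  ext x
  simp only [mem_map, mem_centralizer_singleton_iff, MulEquiv.coe_toMonoidHom, MulAut.conj_apply]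
  constructor
  · rintro ⟨y, hy, rfl⟩
    exact Emb.conj_comm g hy
  · intro h
    refine ⟨g⁻¹ * x * g, ?_, by group⟩
    have h1 := Emb.conj_comm g⁻¹ h
    rwa [inv_inv, show g⁻¹ * (g * a * g⁻¹) * g = a by group] at h1

/-- The cores of the centralisers of elements follow conjugation. -/
theorem conj_Kf {g a x : G} (hx : x ∈ Kf a) : g * x * g⁻¹ ∈ Kf (g * a * g⁻¹) := by
  have h := ClosedAbelian.conj_core_le (centralizer ({a} : Set G)) g
  rw [centralizer_conj] at h
  exact h ⟨x, hx, rfl⟩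

theorem Kf_normalized {a g : G} (h : g * a = a * g) : g ∈ normalizer (Kf a : Set G) :=
  ClosedAbelian.core_normalized _ (mem_centralizer_singleton_iff.2 h)

theorem Kf_comm {a x : G} (h : x ∈ Kf a) : x * a = a * x :=
  mem_centralizer_singleton_iff.1 (ClosedAbelian.core_le _ h)

/-- The subgroup generated by the three cores. -/
def GU (f : ℕ → G) : Subgroup G := Kf (f 2) ⊔ Kf (f 1) ⊔ Kf (f 8)

namespace Setup

variable (D : Setup f)
include D

theorem z_ne : f 2 ≠ 1 := fun e => absurd ((D.emb.eq_one_iff (by omega)).1 e) (by omega)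

theorem u_ne : f 1 ≠ 1 := fun e => absurd ((D.emb.eq_one_iff (by omega)).1 e) (by omega)

theorem uz_ne : f 8 ≠ 1 := fun e => absurd ((D.emb.eq_one_iff (by omega)).1 e) (by omega)

theorem A_le_cz : D.A ≤ centralizer ({f 2} : Set G) := D.A_le_centralizer (D.U_le_A D.z_mem_U)

/-- Lemma R at an involution conjugate to the central one. -/
theorem lemR_at {a g : G} (e : g * f 2 * g⁻¹ = a) {X E : Subgroup G} (hX : ¬ 2 ∣ Nat.card X)
    (hXC : X ≤ centralizer ({a} : Set G)) (hEC : E ≤ centralizer ({a} : Set G)) (hsq : ∀ x ∈ E, x * x = 1)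
    (hc : 16 ≤ Nat.card E) (hEX : E ≤ normalizer (X : Set G)) : X ≤ Kf a := by
  set φ := (MulAut.conj g⁻¹).toMonoidHom
  have hcm : (centralizer ({a} : Set G)).map φ = centralizer ({f 2} : Set G) := by
    rw [centralizer_conj, ← e]; congr; group
  have h := D.lemR_e16 (X := X.map φ) (E := E.map φ)
    (by rwa [card_map_of_injective (MulAut.conj g⁻¹).injective]) (hcm ▸ map_mono hXC) (hcm ▸ map_mono hEC)
    (by rintro _ ⟨x, hx, rfl⟩; rw [← map_mul, hsq x hx, map_one])
    (by rwa [card_map_of_injective (MulAut.conj g⁻¹).injective]) ((map_mono hEX).trans (le_normalizer_map _))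
  intro x hx
  have h1 := conj_Kf (g := g) (h ⟨x, hx, rfl⟩)
  rwa [e, show g * (φ x) * g⁻¹ = x by simp [φ, mul_assoc]] at h1

/-- Lemma R at the involutions of the second centre. -/
theorem lemR_U {a : G} (ha : a ∈ D.U) (ha1 : a ≠ 1) {X : Subgroup G} (hX : ¬ 2 ∣ Nat.card X)
    (hXC : X ≤ centralizer ({a} : Set G)) (hAX : D.A ≤ normalizer (X : Set G)) : X ≤ Kf a := by
  obtain ⟨g, -, -, e⟩ := D.conj_U ha ha1
  exact D.lemR_at e hX hXC (D.A_le_centralizer (D.U_le_A ha)) (fun x hx => D.A_mul_self hx) D.card_A.ge hAX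

theorem A_le_normalizer_Kf {a : G} (ha : a ∈ D.A) : D.A ≤ normalizer (Kf a : Set G) :=
  (D.A_le_centralizer ha).trans (ClosedAbelian.core_normalized _)

/-- Balance of the cores inside the second centre. -/
theorem Kf_inf_le {a b : G} (ha : a ∈ D.A) (hb : b ∈ D.U) (hb1 : b ≠ 1) :
    Kf a ⊓ centralizer ({b} : Set G) ≤ Kf b :=
  D.lemR_U hb hb1 (odd_of_le (ClosedAbelian.core_odd _) inf_le_left) inf_le_right fun x hx =>
    normalizer_inf_le (D.A_le_normalizer_Kf ha hx)
      (le_normalizer (D.A_le_centralizer (D.U_le_A hb) hx))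

theorem Kf_le_GU {a : G} (ha : a ∈ D.U) (ha1 : a ≠ 1) : Kf a ≤ GU f := by
  rcases D.U_cases ha with rfl | rfl | rfl | rfl
  exacts [absurd rfl ha1, le_sup_of_le_left le_sup_left, le_sup_of_le_left le_sup_right, le_sup_right]

theorem GU_normalized : normalizer (D.U : Set G) ≤ normalizer (GU f : Set G) := by
  intro g hg
  refine SEBrick.mem_normalizer_of fun x hx => ?_
  have h : (GU f).map (MulAut.conj g).toMonoidHom ≤ GU f := by
    have key : ∀ a ∈ D.U, a ≠ 1 → (Kf a).map (MulAut.conj g).toMonoidHom ≤ GU f := by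
      rintro a ha ha1 _ ⟨y, hy, rfl⟩
      exact D.Kf_le_GU (conj_mem_normalizer hg ha) (fun e => ha1 (conj_eq_one_iff.1 e)) (conj_Kf hy)
    rw [GU, Subgroup.map_sup, Subgroup.map_sup]
    exact sup_le (sup_le (key _ D.z_mem_U D.z_ne) (key _ D.u_mem_U D.u_ne)) (key _ D.uz_mem_U D.uz_ne)
  exact h ⟨x, hx, rfl⟩

theorem range_le_NU : D.emb.range ≤ normalizer (D.U : Set G) := by
  rintro _ ⟨a, ha, rfl⟩
  refine SEBrick.mem_normalizer_of ?_
  rintro _ ⟨b, hb, pb, rfl⟩
  rw [← D.emb.conj ha hb, D.f_mem_U (show cj a b < 128 from mulN_lt _ _)]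
  exact uc_conj a ha b hb pb

/-- The two elements of order four centralising the involution moved to the second centre. -/
theorem lemR_q {a : G} (ha3 : f 3 * a = a * f 3) (ha10 : f 10 * a = a * f 10) (haz : a ≠ f 2) {g : G}
    (e : g * a * g⁻¹ = f 2) {X : Subgroup G} (hX : ¬ 2 ∣ Nat.card X) (hXC : X ≤ centralizer ({a} : Set G))
    (h3 : f 3 ∈ normalizer (X : Set G)) (h10 : f 10 ∈ normalizer (X : Set G)) : X ≤ Kf a := by
  obtain ⟨-, -, s3, s10, s310⟩ := four_pair
  set φ := (MulAut.conj g).toMonoidHom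
  have hφ : ∀ x, φ x = g * x * g⁻¹ := fun _ => rfl
  have hcm : (centralizer ({a} : Set G)).map φ = centralizer ({f 2} : Set G) := by rw [centralizer_conj, e]
  have hn : ∀ x, x ∈ normalizer (X : Set G) → φ x ∈ normalizer ((X.map φ : Subgroup G) : Set G) := fun x hx =>
    le_normalizer_map _ ⟨x, hx, rfl⟩
  have h := D.lemR_four (X := X.map φ) (by rwa [card_map_of_injective (MulAut.conj g).injective])
    (hcm ▸ map_mono hXC) (a := φ (f 3)) (b := φ (f 10)) (w := φ (f 2))
    (by rw [← e, hφ]; exact Emb.conj_comm g ha3) (by rw [← e, hφ]; exact Emb.conj_comm g ha10)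
    (hn _ h3) (hn _ h10)
    (by rw [← map_mul, ← D.emb.hom 3 3 (by omega) (by omega), s3])
    (by rw [← map_mul, ← D.emb.hom 10 10 (by omega) (by omega), s10])
    (by rw [← map_inv, ← map_mul, ← map_mul, ← D.emb.inv (by omega), ← D.emb.hom _ 10 (invN_lt 3) (by omega),
      ← D.emb.hom _ _ (mulN_lt _ _) (mulN_lt _ _), s310])
    (by rw [← map_mul, ← D.emb.hom 2 2 (by omega) (by omega), u_facts.2.2.1, D.emb.one, map_one])
    (fun e' => D.z_ne ((MulAut.conj g).injective (e'.trans (map_one _).symm)))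
    (fun e' => haz ((conj_inj_iff g).1 (e.trans e'.symm)))
  intro x hx
  have h1 := conj_Kf (g := g⁻¹) (h ⟨x, hx, rfl⟩)
  rwa [← e, show g⁻¹ * (g * a * g⁻¹) * g⁻¹⁻¹ = a by group, show g⁻¹ * φ x * g⁻¹⁻¹ = x by rw [hφ]; group] at h1

/-- Both non-central involutions of the moved pair are conjugate to the central one. -/
theorem q_conj : ∃ g : G, g ∈ centralizer ({f 2} : Set G) ∧ g * f 5 * g⁻¹ = f 1 ∧
    g * f (mulN 5 2) * g⁻¹ = f 8 := by
  obtain ⟨g, hg, e⟩ := D.emb.exists_fuse D.odd D.index_ne_two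
  refine ⟨g, mem_centralizer_singleton_iff.2 hg, e, ?_⟩
  rw [D.emb.hom 5 2 (by omega) (by omega), show g * (f 5 * f 2) * g⁻¹ = g * f 5 * g⁻¹ * (g * f 2 * g⁻¹) by group,
    e, hg, mul_inv_cancel_right, ← D.emb.hom 1 2 (by omega) (by omega), u_facts.2.2.2.1]

/-- An element of the centraliser moving the point of the second centre onto another. -/
theorem q_moves {g : G} (hg : g * f 2 = f 2 * g) (e : g * f 5 * g⁻¹ = f 1 ∨ g * f 5 * g⁻¹ = f 8) :
    ((D.perm hg : alternatingGroup (Fin 5)) : Equiv.Perm (Fin 5)) 4 ≠ 4 := by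
  intro h4
  obtain ⟨k, hk, h⟩ := (D.perm_four hg).1 h4
  have hgC : g ∈ centralizer ({f 2} : Set G) := mem_centralizer_singleton_iff.2 hg
  have hk' : g⁻¹ * k * g ∈ Kf (f 2) := by
    have := conj_mem_normalizer (ClosedAbelian.core_normalized _ (inv_mem hgC)) hk
    rwa [inv_inv] at this
  have hu8 : f 8 = f 1 * f 2 := by rw [← D.emb.hom 1 2 (by omega) (by omega), u_facts.2.2.2.1]
  have hgz : g * f 2 * g⁻¹ = f 2 := by rw [hg, mul_inv_cancel_right]
  have hb : ∀ b, b < 128 → b ≠ 5 → g * f 5 * g⁻¹ = k⁻¹ * (g * f b * g⁻¹) → False := fun b hb hb5 e' => by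
    refine hb5 (D.core_label hb (show 5 < 128 by omega) (inv_mem hk') (one_mem _) ?_)
    have h2 := congrArg (fun x => g⁻¹ * x * g) e'
    change g⁻¹ * (g * f 5 * g⁻¹) * g = g⁻¹ * (k⁻¹ * (g * f b * g⁻¹)) * g at h2
    rw [show g⁻¹ * (g * f 5 * g⁻¹) * g = f 5 by group] at h2
    rw [one_mul, h2]
    group
  have h2' : mulN 8 2 = 1 := u_facts.2.2.2.2.1
  have h8 : f 1 = f 8 * f 2 := by rw [← D.emb.hom 8 2 (by omega) (by omega), h2']
  rcases h with h | h <;> rcases e with e | e
  · exact hb 1 (by omega) (by omega) (by rw [e, h, inv_mul_cancel_left])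
  · refine hb 8 (by omega) (by omega) ?_
    rw [e, hu8, show g * (f 1 * f 2) * g⁻¹ = g * f 1 * g⁻¹ * (g * f 2 * g⁻¹) by group, h, hgz, mul_assoc,
      inv_mul_cancel_left]
  · refine hb 8 (by omega) (by omega) ?_
    conv_rhs => rw [hu8]
    rw [e, show g * (f 1 * f 2) * g⁻¹ = g * f 1 * g⁻¹ * (g * f 2 * g⁻¹) by group, h, hgz, mul_assoc, ← h8,
      inv_mul_cancel_left]
  · exact hb 1 (by omega) (by omega) (by rw [e, h, inv_mul_cancel_left])

/-- A subgroup holding the core, the stabiliser of the second centre and a mover holds the centraliser. -/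
theorem mover {M : Subgroup G} (hK : Kf (f 2) ≤ M)
    (hNU : normalizer (D.U : Set G) ⊓ centralizer ({f 2} : Set G) ≤ M) {m : G} (hm : m ∈ M)
    (hmz : m * f 2 = f 2 * m) (hm4 : ((D.perm hmz : alternatingGroup (Fin 5)) : Equiv.Perm (Fin 5)) 4 ≠ 4) :
    centralizer ({f 2} : Set G) ≤ M := by
  set C := centralizer ({f 2} : Set G)
  have hCK : C ≤ normalizer (Kf (f 2) : Set G) := ClosedAbelian.core_normalized _
  -- the stabiliser
  have hstab : ∀ x (hx : x * f 2 = f 2 * x),
      ((D.perm hx : alternatingGroup (Fin 5)) : Equiv.Perm (Fin 5)) 4 = 4 → x ∈ M := by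
    intro x hx h4
    obtain ⟨k, hk, hu⟩ := (D.perm_four hx).1 h4
    have hxz : x * f 2 * x⁻¹ = f 2 := by rw [hx, mul_inv_cancel_right]
    have hU : ∀ a ∈ D.U, x * a * x⁻¹ ∈ Kf (f 2) ⊔ D.U := by
      have h1 : x * f 1 * x⁻¹ ∈ Kf (f 2) ⊔ D.U := by
        rcases hu with e | e <;> rw [e]
        exacts [mul_mem (mem_sup_left hk) (mem_sup_right D.u_mem_U),
          mul_mem (mem_sup_left hk) (mem_sup_right D.uz_mem_U)]
      intro a ha
      rcases D.U_cases ha with rfl | rfl | rfl | rfl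
      · rw [show x * 1 * x⁻¹ = (1 : G) by group]; exact one_mem _
      · rw [hxz]; exact mem_sup_right D.z_mem_U
      · exact h1
      · rw [show (8 : ℕ) = mulN 1 2 from u_facts.2.2.2.1.symm, D.emb.hom 1 2 (by omega) (by omega),
          show x * (f 1 * f 2) * x⁻¹ = x * f 1 * x⁻¹ * (x * f 2 * x⁻¹) by group, hxz]
        exact mul_mem h1 (mem_sup_right D.z_mem_U)
    obtain ⟨o, ho, hox⟩ := Walter8.exists_lift_normalizer (Signalizer.ea_isPGroup D.U_ea)
      (by rw [← Nat.not_even_iff_odd, even_iff_two_dvd]; exact ClosedAbelian.core_odd _)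
      ((D.U_le_A.trans D.A_le_cz).trans hCK) hU
    rw [show x = o⁻¹ * (o * x) by group]
    exact mul_mem (inv_mem (hK ho)) (hNU ⟨hox, mul_mem (ClosedAbelian.core_le _ ho)
      (mem_centralizer_singleton_iff.2 hx)⟩)
  intro x hx
  have hxz := mem_centralizer_singleton_iff.1 hx
  by_cases hx4 : ((D.perm hxz : alternatingGroup (Fin 5)) : Equiv.Perm (Fin 5)) 4 = 4
  · exact hstab x hxz hx4
  obtain ⟨σ, hσ, hσij⟩ := five_trans _ _ hm4 hx4
  have hσA : σ ∈ alternatingGroup (Fin 5) := Equiv.Perm.mem_alternatingGroup.2 (Cen.act4_even σ hσ)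
  obtain ⟨a, ha, -, ea⟩ := D.exists_A_perm (ρ := ⟨σ, hσA⟩) hσ
  have haM : f a ∈ M := hNU ⟨D.range_le_NU (D.emb.apply_mem ha), range_le_cz D.emb (D.emb.apply_mem ha)⟩
  set y := f a * m
  have hy : y * f 2 = f 2 * y := ((show Commute (f a) (f 2) from D.lab_comm ha).mul_left hmz).eq
  have hy4 : ((D.perm hy : alternatingGroup (Fin 5)) : Equiv.Perm (Fin 5)) 4 =
      ((D.perm hxz : alternatingGroup (Fin 5)) : Equiv.Perm (Fin 5)) 4 := by
    rw [D.perm_mul (D.lab_comm ha) hmz hy, ea, Subgroup.coe_mul, Equiv.Perm.mul_apply]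
    exact hσij
  have hyx : y⁻¹ * x * f 2 = f 2 * (y⁻¹ * x) :=
    ((show Commute y (f 2) from hy).inv_left.mul_left hxz).eq
  have h0 := hstab _ hyx (by
    have e : D.perm hxz = D.perm hy * D.perm hyx := by
      rw [← D.perm_mul hy hyx (by rw [mul_inv_cancel_left]; exact hxz)]
      exact D.perm_congr (by rw [mul_inv_cancel_left]) _ _
    rw [e, Subgroup.coe_mul, Equiv.Perm.mul_apply] at hy4
    exact (Equiv.injective _ hy4).symm)
  rw [show x = y * (y⁻¹ * x) by group]
  exact mul_mem (mul_mem haM hm) h0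

theorem normalizer_range_le : normalizer (D.emb.range : Set G) ≤ centralizer ({f 2} : Set G) := by
  intro g hg
  rw [mem_centralizer_singleton_iff]
  obtain ⟨a, ha, e⟩ := conj_mem_normalizer hg (D.emb.apply_mem (show 2 < 128 by omega))
  have hcen : ∀ b < 128, mulN a b = mulN b a := by
    intro b hb
    refine (D.emb.commute_iff ha hb).1 ?_
    rw [e]
    obtain ⟨c, hc, ec⟩ := conj_mem_normalizer (inv_mem hg) (D.emb.apply_mem hb)
    have h1 := Emb.conj_comm g (D.lab_comm hc).symm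
    rwa [show g * f c * g⁻¹ = f b by rw [ec]; group] at h1
  rcases D.emb.zc_cases (z_only a ha hcen) with rfl | rfl
  · rw [D.emb.one] at e
    exact absurd (conj_eq_one_iff.1 e.symm) D.z_ne
  · exact mul_inv_eq_iff_eq_mul.1 e.symm

/-- A proper subgroup holding the centralisers of the two representatives and the three-cycle is absurd. -/
theorem end_lemma {M : Subgroup G} (hM : M ≠ ⊤) (hC : centralizer ({f 2} : Set G) ≤ M)
    (ho : centralizer ({f 26} : Set G) ≤ M) {h : G} (hh : h ∈ M) (hu : h * f 1 * h⁻¹ = f 2) : False := by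
  haveI : Fact (Nat.Prime 2) := ⟨Nat.prime_two⟩
  haveI := D.simple
  have hSM : D.emb.range ≤ M := (range_le_cz D.emb).trans hC
  have hodd : ¬ 2 ∣ (D.emb.range.subgroupOf M).index := fun hd =>
    D.odd (hd.trans (Subgroup.relIndex_dvd_index_of_le hSM))
  set T := (D.emb.isPGroup_range.comap_subtype (K := M)).toSylow hodd
  have hT : (T : Subgroup M).map M.subtype = D.emb.range := by
    show (D.emb.range.subgroupOf M).map M.subtype = _
    rw [map_subgroupOf_eq_of_le hSM]
  have hinv : ∀ t ∈ M, orderOf t = 2 → centralizer ({t} : Set G) ≤ M := by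
    intro t ht ht2
    have hP : IsPGroup 2 (zpowers (⟨t, ht⟩ : M)) :=
      IsPGroup.of_card (n := 1) (by rw [Nat.card_zpowers, Subgroup.orderOf_mk, ht2, pow_one])
    obtain ⟨R, hR⟩ := hP.exists_le_sylow
    obtain ⟨c, hc⟩ := MulAction.exists_smul_eq M R T
    have hcT : ((c * ⟨t, ht⟩ * c⁻¹ : M) : G) ∈ D.emb.range := by
      rw [← hT]
      exact mem_map_of_mem _ (show c * ⟨t, ht⟩ * c⁻¹ ∈ (T : Subgroup M) by rw [← hc]; exact Subgroup.smul_mem_pointwise_smul _ (MulAut.conj c) _ (hR (mem_zpowers _)))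
    rw [Subgroup.coe_mul, Subgroup.coe_mul, Subgroup.coe_inv] at hcT
    have ht0 : t ≠ 1 := Invol.ne_one ht2
    obtain ⟨m, hm, e⟩ := D.red hC hh hu hcT
      (by
        have h2 : t * t = 1 := by rw [← pow_two, ← ht2, pow_orderOf_eq_one]
        rw [show (c : G) * t * (c : G)⁻¹ * ((c : G) * t * (c : G)⁻¹) = c * (t * t) * (c : G)⁻¹ by group, h2]
        group)
      (fun e => ht0 (conj_eq_one_iff.1 e))
    intro x hx
    have hmc : m * c ∈ M := mul_mem hm c.2
    have key : ∀ a, centralizer ({a} : Set G) ≤ M → m * ((c : G) * t * (c : G)⁻¹) * m⁻¹ = a → x ∈ M := by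
      intro a ha e
      have h1 : m * c * x * (m * c)⁻¹ ∈ M := ha (mem_centralizer_singleton_iff.2 (by
        rw [← e, show m * ((c : G) * t * (c : G)⁻¹) * m⁻¹ = m * c * t * (m * c)⁻¹ by group]
        exact Emb.conj_comm _ (mem_centralizer_singleton_iff.1 hx)))
      rw [show x = (m * c)⁻¹ * (m * c * x * (m * c)⁻¹) * (m * c) by group]
      exact mul_mem (mul_mem (inv_mem hmc) h1) hmc
    rcases e with e | e
    exacts [key _ hC e, key _ ho e]
  have hse := Invol.se_of_centralizers hM T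
    (by
      rw [even_iff_two_dvd]
      refine dvd_trans ?_ (card_dvd_of_le hSM)
      rw [D.emb.card_range]; norm_num)
    (by rw [hT]; exact D.normalizer_range_le.trans hC) hinv
  have hcore : M.normalCore = ⊥ :=
    (IsSimpleGroup.eq_bot_or_eq_top_of_normal _ inferInstance).resolve_right
      fun e => hM (top_le_iff.1 (e ▸ normalCore_le M))
  obtain ⟨hcomm, -⟩ := SEMain.stmt G M hse hcore
    ⟨D.U, (D.U_le_A.trans D.A_le).trans hSM, D.U_ea, D.card_U.ge⟩
  refine u_facts.2.2.2.2.2.2.2.2.1 ((D.emb.commute_iff (show 5 < 128 by omega) (show 1 < 128 by omega)).1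
    (hcomm _ _ (hSM (D.emb.apply_mem (by omega))) (hSM (D.emb.apply_mem (by omega))) ?_ ?_))
  · refine orderOf_eq_prime (by rw [pow_two]; exact D.q_sq) ?_
    exact fun e => absurd ((D.emb.eq_one_iff (by omega)).1 e) (by omega)
  · exact orderOf_eq_prime (by rw [pow_two]; exact (D.emb.sq_one_iff (by omega)).2 u_facts.1) D.u_ne

end Setup

end Cfsg.Agent.J2Core
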