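import Cfsg.Agent.Lib.J2Core.Top

/-!
The case in which the normaliser of the first subgroup stabilises the second centre: the centraliser of an
involution of the first subgroup outside it, and the complement of the second centre that is central modulo the
core there.
-/

set_option autoImplicit false
set_option linter.style.haveILetI false
set_option linter.unusedSectionVars false

namespace Cfsg.Agent.J2Core

open Subgroup
open Cfsg.Agent.J2Type
open Cfsg.Agent.ClosedAbelian (TwoEl core mem_of_sq_mem odd_orderOf_of_mem)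

universe u

variable {G : Type u} [Group G] [Finite G] {f : ℕ → G}

theorem six_mul {H : Type*} [Group H] (hc : ∀ p q : H, p * q = q * p) (hs : ∀ p : H, p * p = 1) (a e c x b : H) :
    a * e * c * (a * x * b) * (e * b) = c * x := by
  let i : CommGroup H := { (inferInstance : Group H) with mul_comm := hc }
  have h : a * e * c * (a * x * b) * (e * b) = (a * a) * (e * e) * (b * b) * (c * x) := by ac_rfl
  simp only [h, hs, one_mul]

namespace Setup

variable (D : Setup f)
include D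

/-- The normaliser of the first subgroup keeps the second centre. -/
def StabU : Prop := ∀ n ∈ normalizer (D.A : Set G), ∀ x ∈ D.A, x ∉ D.U → n * x * n⁻¹ ∉ D.U

/-- The part of the first subgroup centralised by the normaliser inside a centraliser. -/
def Vof (a : G) : Subgroup G :=
  D.A ⊓ centralizer ((normalizer (D.A : Set G) ⊓ centralizer ({a} : Set G) : Subgroup G) : Set G)

/-- The normaliser inside a centraliser acts. -/
def NT (a : G) : Prop := ¬ normalizer (D.A : Set G) ⊓ centralizer ({a} : Set G) ≤ centralizer (D.A : Set G)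

theorem exists_oneClass (h : ¬ D.StabU) : ∃ n ∈ normalizer (D.A : Set G), n * f 2 * n⁻¹ = f 26 := by
  simp only [StabU, not_forall, not_not] at h
  obtain ⟨n, hn, x, hx, hxU, hnx⟩ := h
  obtain ⟨g, hg, -, e⟩ := D.conj_U hnx fun e => hxU (conj_eq_one_iff.1 e ▸ one_mem _)
  obtain ⟨k, hk, -, e'⟩ := D.conj_out hx hxU D.o_mem_A D.o_not_U
  refine ⟨k * n⁻¹ * g, mul_mem (mul_mem hk (inv_mem hn)) hg, ?_⟩
  rw [show k * n⁻¹ * g * f 2 * (k * n⁻¹ * g)⁻¹ = k * (n⁻¹ * (g * f 2 * g⁻¹) * n) * k⁻¹ by group, e,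
    show n⁻¹ * (n * x * n⁻¹) * n = x by group, e']

/-- A 2-subgroup over the first subgroup in the centraliser of an outside element is the subgroup. -/
theorem sylow_out (hU : D.StabU) {a : G} (ha : a ∈ D.A) (haU : a ∉ D.U) {T : Subgroup G} (hT : IsPGroup 2 T)
    (hAT : D.A ≤ T) (hTC : T ≤ centralizer ({a} : Set G)) : T ≤ D.A := by
  haveI : Fact (Nat.Prime 2) := ⟨Nat.prime_two⟩
  haveI := hT.isNilpotent
  by_contra hle
  have hlt : D.A.subgroupOf T < ⊤ := by
    rwa [lt_top_iff_ne_top, Ne, subgroupOf_eq_top]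
  obtain ⟨t, ht, htA⟩ := SetLike.exists_of_lt (Group.normalizerCondition_of_isNilpotent _ hlt)
  refine htA (mem_subgroupOf.2 (D.fix_out hU (D.mem_normalizer_A fun x hx => ?_)
    (TwoEl.of_group hT t.2) ha haU (mem_centralizer_singleton_iff.1 (hTC t.2))))
  exact mem_subgroupOf.1 (((mem_normalizer_iff.1 ht) ⟨x, hAT hx⟩).1 (mem_subgroupOf.2 hx))

/-- A 2-subgroup of the centraliser of an outside element is conjugate there into the first subgroup. -/
theorem conj_into_A (hU : D.StabU) {a : G} (ha : a ∈ D.A) (haU : a ∉ D.U) {P : Subgroup G} (hP : IsPGroup 2 P)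
    (hPC : P ≤ centralizer ({a} : Set G)) :
    ∃ c ∈ centralizer ({a} : Set G), ∀ x ∈ P, c * x * c⁻¹ ∈ D.A := by
  obtain ⟨c, hc, T, hT, hAT, hTC, hPT⟩ := ClosedAbelian.exists_conj_over D.A_two (D.A_le_centralizer ha) hP hPC
  exact ⟨c, hc, fun x hx => D.sylow_out hU ha haU hT hAT hTC (hPT x hx)⟩

/-- The central involution is not fused to the outside representative. -/
theorem no_fusion (hU : D.StabU) (g : G) : g * f 26 * g⁻¹ ≠ f 2 := by
  intro e
  obtain ⟨c, -, hc⟩ := D.conj_into_A hU D.o_mem_A D.o_not_U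
    (D.emb.isPGroup_range.map (MulAut.conj g⁻¹).toMonoidHom) (by
      rintro _ ⟨x, ⟨i, hi, rfl⟩, rfl⟩
      rw [mem_centralizer_singleton_iff, show f 26 = g⁻¹ * f 2 * g⁻¹⁻¹ by rw [← e]; group]
      exact Emb.conj_comm g⁻¹ (D.lab_comm hi))
  have h : Nat.card D.emb.range ≤ Nat.card D.A := by
    refine Nat.card_le_card_of_injective (fun x : D.emb.range =>
      (⟨c * (g⁻¹ * x * g⁻¹⁻¹) * c⁻¹, hc _ ⟨x, x.2, rfl⟩⟩ : D.A)) fun x y h => Subtype.ext ?_
    have := congrArg Subtype.val h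
    simpa using this
  rw [D.emb.card_range, D.card_A] at h
  omega

theorem normalizer_A_le (hU : D.StabU) : normalizer (D.A : Set G) ≤ normalizer (D.U : Set G) := by
  intro n hn
  refine SEBrick.mem_normalizer_of fun x hx => ?_
  by_contra h
  refine hU n⁻¹ (inv_mem hn) _ (conj_mem_normalizer hn (D.U_le_A hx)) h ?_
  rwa [show n⁻¹ * (n * x * n⁻¹) * n⁻¹⁻¹ = x by group]

/-- An element of odd order fixing an outside element is trivial modulo the second centre. -/
theorem triv_mod (hU : D.StabU) {a n : G} (ha : a ∈ D.A) (haU : a ∉ D.U) (hn : n ∈ normalizer (D.A : Set G))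
    (hna : n * a = a * n) (ho : Odd (orderOf n)) {x : G} (hx : x ∈ D.A) : n * x * n⁻¹ * x⁻¹ ∈ D.U := by
  have hNU := D.normalizer_A_le hU
  have hnU := hNU hn
  have hi : ∀ y ∈ D.A, y⁻¹ = y := fun y hy => inv_eq_of_mul_eq_one_right (D.A_mul_self hy)
  by_cases hxU : x ∈ D.U
  · exact mul_mem (conj_mem_normalizer hnU hxU) (inv_mem hxU)
  have hnax : n * a * n⁻¹ = a := by rw [hna, mul_inv_cancel_right]
  by_cases hax : a * x ∈ D.U
  · have h1 := conj_mem_normalizer hnU hax
    rw [show n * (a * x) * n⁻¹ = n * a * n⁻¹ * (n * x * n⁻¹) by group, hnax] at h1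
    have h2 := mul_mem h1 hax
    rw [hi x hx]
    rwa [show a * (n * x * n⁻¹) * (a * x) = (a * a) * (n * x * n⁻¹) * x by
      rw [D.A_comm ha (conj_mem_normalizer hn hx)]
      simp only [← mul_assoc]
      rw [mul_assoc (n * x * n⁻¹) a a, D.A_mul_self ha]
      group, D.A_mul_self ha, one_mul] at h2
  have step : ∀ y ∈ D.A, y * x⁻¹ ∈ D.U → n * y * n⁻¹ * x⁻¹ ∈ D.U ∨ n * n * y * (n * n)⁻¹ * x⁻¹ ∈ D.U := by
    intro y hy hyx
    have hy' : y ∉ D.U := fun h => hxU (by
      have := mul_mem (inv_mem hyx) h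
      rwa [show (y * x⁻¹)⁻¹ * y = x by group] at this)
    have hb : n * y * n⁻¹ ∈ D.A := conj_mem_normalizer hn hy
    have hb' : n * y * n⁻¹ ∉ D.U := hU n hn y hy hy'
    rcases D.out_three ha hx hb haU hxU hb' hax with h | h | h
    · exfalso
      refine hax ?_
      have h1 := conj_mem_normalizer (inv_mem hnU) h
      rw [show n⁻¹ * (a * (n * y * n⁻¹)) * n⁻¹⁻¹ = n⁻¹ * a * n * y by group,
        show n⁻¹ * a * n = a by rw [mul_assoc, ← hna, inv_mul_cancel_left]] at h1
      have h2 := mul_mem h1 (inv_mem hyx)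
      rwa [show a * y * (y * x⁻¹)⁻¹ = a * (y * x * y⁻¹) by group, D.A_comm hy hx, mul_inv_cancel_right] at h2
    · left
      rwa [hi x hx, D.A_comm hb hx]
    · right
      have h1 := conj_mem_normalizer hnU h
      rw [show n * (a * x * (n * y * n⁻¹)) * n⁻¹ = n * a * n⁻¹ * (n * x * n⁻¹) * (n * n * y * (n * n)⁻¹) by group,
        hnax] at h1
      have hbb : n * x * n⁻¹ * (n * y * n⁻¹)⁻¹ ∈ D.U := by
        have h3 := conj_mem_normalizer hnU (inv_mem hyx)
        rwa [show n * (y * x⁻¹)⁻¹ * n⁻¹ = n * x * n⁻¹ * (n * y * n⁻¹)⁻¹ by group] at h3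
      have h4 := mul_mem (mul_mem h1 h) hbb
      set B := n * y * n⁻¹
      set C := n * n * y * (n * n)⁻¹
      set E := n * x * n⁻¹
      have hC : C ∈ D.A := conj_mem_normalizer (mul_mem hn hn) hy
      have hE : E ∈ D.A := conj_mem_normalizer hn hx
      rw [hi x hx]
      rw [hi B hb] at h4
      rwa [show a * E * C * (a * x * B) * (E * B) = C * x from
        congrArg Subtype.val (six_mul (fun p q : D.A => Subtype.ext (D.A_comm p.2 q.2))
          (fun p : D.A => Subtype.ext (D.A_mul_self p.2)) ⟨a, ha⟩ ⟨E, hE⟩ ⟨C, hC⟩ ⟨x, hx⟩ ⟨B, hb⟩)] at h4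
  have key : ∀ k : ℕ, n ^ (2 * k) * x * (n ^ (2 * k))⁻¹ * x⁻¹ ∈ D.U ∨ n * x * n⁻¹ * x⁻¹ ∈ D.U := by
    intro k
    induction k with
    | zero => left; rw [show n ^ (2 * 0) * x * (n ^ (2 * 0))⁻¹ * x⁻¹ = 1 by group]; exact one_mem _
    | succ k ih =>
      rcases ih with h | h
      · rcases step x hx (by rw [mul_inv_cancel]; exact one_mem _) with h1 | h1
        · exact Or.inr h1
        · left
          have h2 := conj_mem_normalizer (mul_mem hnU hnU) h
          have h3 := mul_mem h2 h1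
          rwa [show n * n * (n ^ (2 * k) * x * (n ^ (2 * k))⁻¹ * x⁻¹) * (n * n)⁻¹ * (n * n * x * (n * n)⁻¹ * x⁻¹) =
            n ^ (2 * (k + 1)) * x * (n ^ (2 * (k + 1)))⁻¹ * x⁻¹ by
              rw [show 2 * (k + 1) = 1 + 1 + 2 * k by ring, pow_add, pow_add, pow_one]; group] at h3
      · exact Or.inr h
  obtain ⟨m, hm⟩ := ho
  rcases key (m + 1) with h | h
  · rwa [show 2 * (m + 1) = (2 * m + 1) + 1 by ring, pow_succ, ← hm, pow_orderOf_eq_one, one_mul] at h
  · exact h

/-- An element of odd order fixing an outside element and a second one inside centralises the subgroup. -/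
theorem fix_two (hU : D.StabU) {a n : G} (ha : a ∈ D.A) (haU : a ∉ D.U) (hn : n ∈ normalizer (D.A : Set G))
    (hna : n * a = a * n) (ho : Odd (orderOf n)) {w : G} (hw : w ∈ D.U) (hw1 : w ≠ 1) (hnw : n * w = w * n) :
    n ∈ centralizer (D.A : Set G) := by
  have hnU := D.normalizer_A_le hU hn
  have hsq : ∀ x, n * n * x * (n * n)⁻¹ = x → n * x = x * n := fun x hx =>
    mem_centralizer_singleton_iff.1 (mem_of_sq_mem
      (mem_centralizer_singleton_iff.2 (mul_inv_eq_iff_eq_mul.1 hx) : n * n ∈ centralizer ({x} : Set G)) ho)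
  have hUU : ∀ x ∈ D.U, n * x = x * n := by
    intro x hx
    by_cases hx1 : x = 1
    · rw [hx1, one_mul, mul_one]
    by_cases hxw : x = w
    · rw [hxw, hnw]
    refine hsq x ?_
    -- the other two are exchanged or fixed
    have hy := conj_mem_normalizer hnU hx
    have hy1 : n * x * n⁻¹ ≠ 1 := fun e => hx1 (conj_eq_one_iff.1 e)
    have hnww : n * w * n⁻¹ = w := by rw [hnw, mul_inv_cancel_right]
    have hy2 : n * x * n⁻¹ ≠ w := fun e => hxw ((conj_inj_iff n).1 (e.trans hnww.symm))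
    rw [show n * n * x * (n * n)⁻¹ = n * (n * x * n⁻¹) * n⁻¹ by group]
    have hxw' : x * w ∈ D.U := mul_mem hx hw
    have three : ∀ p, p ∈ D.U → p ≠ 1 → p ≠ w → p = x ∨ p = x * w := by
      intro p hp hp1 hpw
      have e12 : f 1 * f 2 = f 8 := by rw [← D.emb.hom 1 2 (by omega) (by omega), u_facts.2.2.2.1]
      have e21 : f 2 * f 1 = f 8 := by rw [D.A_comm (D.U_le_A D.z_mem_U) (D.U_le_A D.u_mem_U), e12]
      have e82 : f 8 * f 2 = f 1 := by rw [← D.emb.hom 8 2 (by omega) (by omega), u_facts.2.2.2.2.1]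
      have e28 : f 2 * f 8 = f 1 := by rw [D.A_comm (D.U_le_A D.z_mem_U) (D.U_le_A D.uz_mem_U), e82]
      have e18 : f 1 * f 8 = f 2 := by rw [← D.emb.hom 1 8 (by omega) (by omega), show mulN 1 8 = 2 by decide +kernel]
      have e81 : f 8 * f 1 = f 2 := by rw [D.A_comm (D.U_le_A D.uz_mem_U) (D.U_le_A D.u_mem_U), e18]
      rcases D.U_cases hp with rfl | rfl | rfl | rfl <;> rcases D.U_cases hx with rfl | rfl | rfl | rfl <;>
        rcases D.U_cases hw with rfl | rfl | rfl | rfl <;>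
        simp only [e12, e21, e82, e28, e18, e81, ne_eq, not_true_eq_false, true_or, or_true] at *
    rcases three _ hy hy1 hy2 with e | e
    · rw [e, e]
    · rw [e, show n * (x * w) * n⁻¹ = n * x * n⁻¹ * (n * w * n⁻¹) by group, e, hnww, mul_assoc,
        D.A_mul_self (D.U_le_A hw), mul_one]
  refine mem_centralizer_iff.2 fun x hx => (hsq x ?_).symm
  have h := D.triv_mod hU ha haU hn hna ho hx
  set c := n * x * n⁻¹ * x⁻¹ with hc
  have e : n * x * n⁻¹ = c * x := by rw [hc]; group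
  rw [show n * n * x * (n * n)⁻¹ = n * (n * x * n⁻¹) * n⁻¹ by group, e,
    show n * (c * x) * n⁻¹ = n * c * n⁻¹ * (n * x * n⁻¹) by group, hUU c h, mul_inv_cancel_right, e, ← mul_assoc,
    D.A_mul_self (D.U_le_A h), one_mul]

theorem mem_Vof {a x : G} : x ∈ D.Vof a ↔ x ∈ D.A ∧
    ∀ n ∈ normalizer (D.A : Set G), n * a = a * n → n * x = x * n := by
  rw [Vof, mem_inf, mem_centralizer_iff]
  exact and_congr_right fun _ => ⟨fun h n hn hna => h n ⟨hn, mem_centralizer_singleton_iff.2 hna⟩,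
    fun h n hn => h n hn.1 (mem_centralizer_singleton_iff.1 hn.2)⟩

theorem Vof_le (a : G) : D.Vof a ≤ D.A := inf_le_left

theorem mem_Vof_self {a : G} (ha : a ∈ D.A) : a ∈ D.Vof a := D.mem_Vof.2 ⟨ha, fun _ _ h => h⟩

theorem Vof_eq_of_not_NT {a : G} (h : ¬ D.NT a) : D.Vof a = D.A := by
  rw [NT, not_not] at h
  exact inf_eq_left.2 fun x hx => mem_centralizer_iff.2 fun n hn => (mem_centralizer_iff.1 (h hn) x hx).symm

/-- An element acting, of odd order. -/
theorem exists_actor (hU : D.StabU) {a : G} (ha : a ∈ D.A) (haU : a ∉ D.U) (h : D.NT a) :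
    ∃ r ∈ normalizer (D.A : Set G), r * a = a * r ∧ Odd (orderOf r) ∧ r ∉ centralizer (D.A : Set G) ∧
      ∀ w ∈ D.U, r * w = w * r → w = 1 := by
  obtain ⟨n, hn, hnA⟩ := SetLike.not_le_iff_exists.1 h
  obtain ⟨t, r, e, ht, hr, ht2, hro⟩ := ClosedAbelian.exists_parts n
  have htN := zpowers_le.2 hn ht
  have hrN := zpowers_le.2 hn hr
  have hra := mem_centralizer_singleton_iff.1 hrN.2
  have hrA : r ∉ centralizer (D.A : Set G) := fun hrA => hnA (e ▸ mul_mem
    (D.A_le_cA (D.fix_out hU htN.1 ht2 ha haU (mem_centralizer_singleton_iff.1 htN.2))) hrA)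
  refine ⟨r, hrN.1, hra, hro, hrA, fun w hw hrw => ?_⟩
  by_contra hw1
  exact hrA (D.fix_two hU ha haU hrN.1 hra hro hw hw1 hrw)

theorem Vof_inf_U (hU : D.StabU) {a : G} (ha : a ∈ D.A) (haU : a ∉ D.U) (h : D.NT a) :
    D.Vof a ⊓ D.U = ⊥ := by
  obtain ⟨r, hr, hra, -, -, hfix⟩ := D.exists_actor hU ha haU h
  exact (eq_bot_iff_forall _).2 fun x hx => hfix x hx.2 ((D.mem_Vof.1 hx.1).2 r hr hra)

/-- Whatever fixes the outside element centralises what one acting element fixes. -/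
theorem fix_indep (hU : D.StabU) {a r : G} (ha : a ∈ D.A) (haU : a ∉ D.U) (hr : r ∈ normalizer (D.A : Set G))
    (hra : r * a = a * r) (hfix : ∀ w ∈ D.U, r * w = w * r → w = 1) {x : G} (hx : x ∈ D.A) (hrx : r * x = x * r) :
    x ∈ D.Vof a := by
  refine D.mem_Vof.2 ⟨hx, fun n hn hna => ?_⟩
  obtain ⟨t, s, e, ht, hs, ht2, hso⟩ := ClosedAbelian.exists_parts n
  have hnN : n ∈ normalizer (D.A : Set G) ⊓ centralizer ({a} : Set G) := ⟨hn, mem_centralizer_singleton_iff.2 hna⟩
  have htN := zpowers_le.2 hnN ht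
  have hsN := zpowers_le.2 hnN hs
  have htA := D.fix_out hU htN.1 ht2 ha haU (mem_centralizer_singleton_iff.1 htN.2)
  have hsa := mem_centralizer_singleton_iff.1 hsN.2
  suffices hsx : s * x = x * s by
    rw [← e, mul_assoc, hsx, ← mul_assoc, D.A_comm htA hx, mul_assoc]
  -- some power of the acting element corrects it on the second centre
  have hrU := D.normalizer_A_le hU hr
  have hsU := conj_mem_normalizer (D.normalizer_A_le hU hsN.1) D.u_mem_U
  have hs1 : s * f 1 * s⁻¹ ≠ 1 := fun e => D.u_ne (conj_eq_one_iff.1 e)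
  obtain ⟨m, hm, hma, hmu, hmx⟩ : ∃ m ∈ normalizer (D.A : Set G), m * a = a * m ∧ m * f 1 = f 1 * m ∧
      (m * x = x * m → s * x = x * s) := by
    have hne : ∀ p ∈ D.U, p ≠ 1 → r * p * r⁻¹ ≠ p := fun p hp hp1 e => hp1 (hfix p hp (mul_inv_eq_iff_eq_mul.1 e))
    have hRR : ∀ p, p ∈ D.U → p ≠ 1 → r * r * p * (r * r)⁻¹ = f 1 ∨ r * p * r⁻¹ = f 1 ∨ p = f 1 := by
      intro p hp hp1
      have h1 := conj_mem_normalizer hrU hp
      have h1' : r * p * r⁻¹ ≠ 1 := fun e => hp1 (conj_eq_one_iff.1 e)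
      have h2 := conj_mem_normalizer hrU h1
      have n1 := hne p hp hp1
      have n2 := hne _ h1 h1'
      have h2' : r * (r * p * r⁻¹) * r⁻¹ ≠ 1 := fun e => h1' (conj_eq_one_iff.1 e)
      by_contra hcon
      simp only [not_or] at hcon
      obtain ⟨c2, c1, c0⟩ := hcon
      rw [show r * r * p * (r * r)⁻¹ = r * (r * p * r⁻¹) * r⁻¹ by group] at c2
      have key : ∀ q ∈ D.U, q ≠ 1 → q ≠ f 1 → q = f 2 ∨ q = f 8 := by
        intro q hq hq1 hq2
        rcases D.U_cases hq with e | e | e | e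
        exacts [absurd e hq1, Or.inl e, absurd e hq2, Or.inr e]
      -- the element would fix the remaining one
      have hru := conj_mem_normalizer hrU D.u_mem_U
      have nu := hne _ D.u_mem_U D.u_ne
      rcases key p hp hp1 c0 with e0 | e0 <;> rcases key _ h1 h1' c1 with e1 | e1 <;>
        rcases key _ h2 h2' c2 with e2 | e2
      all_goals first
        | exact n1 (e1.trans e0.symm)
        | exact n2 (e2.trans e1.symm)
        | skip
      all_goals
        rcases key _ hru (fun e => D.u_ne (conj_eq_one_iff.1 e)) nu with e3 | e3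
        · first
            | exact absurd ((conj_inj_iff r).1 (e3.trans e1.symm)).symm c0
            | exact absurd ((conj_inj_iff r).1 (e3.trans e2.symm)).symm c1
        · first
            | exact absurd ((conj_inj_iff r).1 (e3.trans e1.symm)).symm c0
            | exact absurd ((conj_inj_iff r).1 (e3.trans e2.symm)).symm c1
    have hc : ∀ g, g * f 1 * g⁻¹ = f 1 → g * f 1 = f 1 * g := fun g e => mul_inv_eq_iff_eq_mul.1 e
    rcases hRR _ hsU hs1 with e0 | e0 | e0
    · refine ⟨r * r * s, mul_mem (mul_mem hr hr) hsN.1,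
        (((show Commute r a from hra).mul_left hra).mul_left hsa).eq, hc _ (Eq.trans (by group) e0), fun h => ?_⟩
      rw [show s = (r * r)⁻¹ * (r * r * s) by group]
      exact (((show Commute r x from hrx).mul_left hrx).inv_left.mul_left h).eq
    · refine ⟨r * s, mul_mem hr hsN.1, ((show Commute r a from hra).mul_left hsa).eq,
        hc _ (Eq.trans (by group) e0), fun h => ?_⟩
      rw [show s = r⁻¹ * (r * s) by group]
      exact ((show Commute r x from hrx).inv_left.mul_left h).eq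
    · exact ⟨s, hsN.1, hsa, hc _ e0, fun h => h⟩
  refine hmx ?_
  obtain ⟨t', s', e', ht', hs', ht2', hso'⟩ := ClosedAbelian.exists_parts m
  have hmM : m ∈ normalizer (D.A : Set G) ⊓ centralizer ({a} : Set G) ⊓ centralizer ({f 1} : Set G) :=
    ⟨⟨hm, mem_centralizer_singleton_iff.2 hma⟩, mem_centralizer_singleton_iff.2 hmu⟩
  have htM := zpowers_le.2 hmM ht'
  have hsM := zpowers_le.2 hmM hs'
  have h1 := D.A_le_cA (D.fix_out hU htM.1.1 ht2' ha haU (mem_centralizer_singleton_iff.1 htM.1.2))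
  have h2 := D.fix_two hU ha haU hsM.1.1 (mem_centralizer_singleton_iff.1 hsM.1.2) hso' D.u_mem_U D.u_ne
    (mem_centralizer_singleton_iff.1 hsM.2)
  exact (mem_centralizer_iff.1 (e' ▸ mul_mem h1 h2) x hx).symm

theorem A_le_Vof_sup (hU : D.StabU) {a : G} (ha : a ∈ D.A) (haU : a ∉ D.U) : D.A ≤ D.Vof a ⊔ D.U := by
  by_cases h : D.NT a
  swap
  · rw [D.Vof_eq_of_not_NT h]; exact le_sup_left
  obtain ⟨r, hr, hra, hro, -, hfix⟩ := D.exists_actor hU ha haU h
  have hrU := D.normalizer_A_le hU hr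
  intro x hx
  have hc := D.triv_mod hU ha haU hr hra hro hx
  let φ : D.U → D.U := fun w =>
    ⟨r * w * r⁻¹ * (w : G)⁻¹, mul_mem (conj_mem_normalizer hrU w.2) (inv_mem w.2)⟩
  have hinj : Function.Injective φ := by
    intro w w' e
    have e' : r * w * r⁻¹ * (w : G)⁻¹ = r * w' * r⁻¹ * (w' : G)⁻¹ := congrArg Subtype.val e
    have hcm : (r * (w' : G) * r⁻¹)⁻¹ * (r * w * r⁻¹) = (w' : G)⁻¹ * w := by
      rw [mul_inv_eq_iff_eq_mul] at e'
      rw [e', show (r * (w' : G) * r⁻¹)⁻¹ * (r * w' * r⁻¹ * (w' : G)⁻¹ * w) = (w' : G)⁻¹ * w by group]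
    refine Subtype.ext (eq_comm.1 (inv_mul_eq_one.1 (hfix _ (mul_mem (inv_mem w'.2) w.2) ?_)))
    refine mul_inv_eq_iff_eq_mul.1 (Eq.trans ?_ hcm)
    group
  obtain ⟨w, hw⟩ := (Finite.injective_iff_surjective.1 hinj) ⟨_, inv_mem hc⟩
  have hw' : r * w * r⁻¹ * (w : G)⁻¹ = (r * x * r⁻¹ * x⁻¹)⁻¹ := congrArg Subtype.val hw
  have hwA := D.U_le_A w.2
  have hxw : x * w ∈ D.Vof a := by
    refine D.fix_indep hU ha haU hr hra hfix (mul_mem hx hwA) (mul_inv_eq_iff_eq_mul.1 ?_)
    rw [show r * (x * w) * r⁻¹ = r * x * r⁻¹ * (r * w * r⁻¹) by group, mul_inv_eq_iff_eq_mul.1 hw',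
      show r * x * r⁻¹ * ((r * x * r⁻¹ * x⁻¹)⁻¹ * (w : G)) = r * x * r⁻¹ * (x * (r * x * r⁻¹)⁻¹) * w by group,
      D.A_comm hx (inv_mem (conj_mem_normalizer hr hx)), mul_inv_cancel_left]
  rw [show x = x * w * (w : G)⁻¹ by group]
  exact mul_mem (mem_sup_left hxw) (mem_sup_right (inv_mem w.2))

theorem four_le_Vof (hU : D.StabU) {a : G} (ha : a ∈ D.A) (haU : a ∉ D.U) : 4 ≤ Nat.card (D.Vof a) := by
  have h := card_le_of_le (D.A_le_Vof_sup hU ha haU)
  have hle : D.U ≤ normalizer (D.Vof a : Set G) := (D.U_le_A.trans (Signalizer.ea_le_centralizer D.A_ea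
    (D.Vof_le a))).trans (centralizer_le_normalizer _)
  by_cases hn : D.NT a
  swap
  · rw [D.Vof_eq_of_not_NT hn, D.card_A]; omega
  rw [SolvBasic.card_sup_of_inf_eq_bot hle (D.Vof_inf_U hU ha haU hn), D.card_A, D.card_U] at h
  omega

/-- The complement is the same at each of its involutions. -/
theorem Vof_eq (hU : D.StabU) {a d : G} (ha : a ∈ D.A) (haU : a ∉ D.U) (h : D.NT a) (hd : d ∈ D.Vof a)
    (hd1 : d ≠ 1) : d ∉ D.U ∧ D.NT d ∧ D.Vof d = D.Vof a := by
  have hdU : d ∉ D.U := fun h' => hd1 (by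
    rw [← mem_bot, ← D.Vof_inf_U hU ha haU h]; exact ⟨hd, h'⟩)
  obtain ⟨r, hr, hra, -, hrA, hfix⟩ := D.exists_actor hU ha haU h
  have hrd := (D.mem_Vof.1 hd).2 r hr hra
  have hNT : D.NT d := fun hle => hrA (hle ⟨hr, mem_centralizer_singleton_iff.2 hrd⟩)
  refine ⟨hdU, hNT, le_antisymm (fun x hx => ?_) (fun x hx => ?_)⟩
  · exact D.fix_indep hU ha haU hr hra hfix (D.Vof_le d hx) ((D.mem_Vof.1 hx).2 r hr hrd)
  · exact D.fix_indep hU (D.Vof_le a hd) hdU hr hrd hfix (D.Vof_le a hx) ((D.mem_Vof.1 hx).2 r hr hra)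

theorem NT_conj {a g : G} (hg : g ∈ normalizer (D.A : Set G)) (h : D.NT a) : D.NT (g * a * g⁻¹) := by
  intro hle
  refine h fun n hn => ?_
  have h1 := hle (mem_inf.2 ⟨mul_mem (mul_mem hg (mem_inf.1 hn).1) (inv_mem hg),
    mem_centralizer_singleton_iff.2 (Emb.conj_comm g (mem_centralizer_singleton_iff.1 (mem_inf.1 hn).2))⟩)
  refine mem_centralizer_iff.2 fun x hx => ?_
  have h2 := Emb.conj_comm g⁻¹ (mem_centralizer_iff.1 h1 _ (conj_mem_normalizer hg hx))
  rwa [inv_inv, show g⁻¹ * (g * x * g⁻¹) * g = x by group, show g⁻¹ * (g * n * g⁻¹) * g = n by group] at h2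

/-- The complement is central modulo the core. -/
theorem Vof_central (hU : D.StabU) {a v : G} (ha : a ∈ D.A) (haU : a ∉ D.U) (hv : v ∈ D.Vof a) {x : G}
    (hx : x * a = a * x) : x * v * x⁻¹ * v⁻¹ ∈ Kf a := by
  haveI : Fact (Nat.Prime 2) := ⟨Nat.prime_two⟩
  by_cases hv1 : v = 1
  · rw [hv1, show x * 1 * x⁻¹ * (1 : G)⁻¹ = 1 by group]; exact one_mem _
  have hvA := D.Vof_le a hv
  set H := centralizer ({a} : Set G)
  have hvH : v ∈ H := D.A_le_centralizer ha hvA
  -- fusion is controlled by the normaliser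
  have key : ∀ g ∈ H, g * v * g⁻¹ ∈ D.A → g * v * g⁻¹ = v := by
    intro g hg hgA
    set w := g * v * g⁻¹ with hw
    obtain ⟨c, hc, T, hT, hAT, hTX, hPT⟩ := ClosedAbelian.exists_conj_over (X := H ⊓ centralizer ({w} : Set G))
      D.A_two (le_inf (D.A_le_centralizer ha) (D.A_le_centralizer hgA))
      (D.A_two.map (MulAut.conj g).toMonoidHom) (le_inf
        (by
          rintro _ ⟨y, hy, rfl⟩
          exact mul_mem (mul_mem hg (D.A_le_centralizer ha hy)) (inv_mem hg))
        (by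
          rintro _ ⟨y, hy, rfl⟩
          exact mem_centralizer_singleton_iff.2 (Emb.conj_comm g (D.A_comm hy hvA))))
    have hTA := D.sylow_out hU ha haU hT hAT (hTX.trans inf_le_left)
    have hn : c * g ∈ normalizer (D.A : Set G) := D.mem_normalizer_A fun y hy => by
      rw [show c * g * y * (c * g)⁻¹ = c * (g * y * g⁻¹) * c⁻¹ by group]
      exact hTA (hPT _ ⟨y, hy, rfl⟩)
    have h1 := (D.mem_Vof.1 hv).2 (c * g) hn (mem_centralizer_singleton_iff.1 (mul_mem hc.1 hg))
    have h2 : c * w * c⁻¹ = v := by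
      rw [hw, show c * (g * v * g⁻¹) * c⁻¹ = c * g * v * (c * g)⁻¹ by group, h1, mul_inv_cancel_right]
    rwa [show c * w * c⁻¹ = w by rw [mem_centralizer_singleton_iff.1 hc.2, mul_inv_cancel_right]] at h2
  set v' : H := ⟨v, hvH⟩
  have hiso : Cfsg.IsIsolated v' := by
    intro g hcom
    have hvv : v * v = 1 := D.A_mul_self hvA
    set w : G := (g : G) * v * (g : G)⁻¹
    have hvw : v * w = w * v := congrArg Subtype.val hcom.eq
    have hww : w * w = 1 := by
      rw [show w * w = (g : G) * (v * v) * (g : G)⁻¹ by simp only [w]; group, hvv]; group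
    obtain ⟨c, hc, hcA⟩ := D.conj_into_A hU ha haU
      (P := fourOf v w hvv hww hvw) (Signalizer.ea_isPGroup (four_ea hvv hww hvw)) (by
        have hwH : w ∈ H := mul_mem (mul_mem g.2 hvH) (inv_mem g.2)
        rintro y (rfl | rfl | rfl | rfl)
        exacts [one_mem _, hvH, hwH, mul_mem hvH hwH])
    have e1 := key c hc (hcA v (Or.inr (Or.inl rfl)))
    have e2 : c * w * c⁻¹ = v := by
      have h := key (c * g) (mul_mem hc g.2) (by
        rw [show c * (g : G) * v * (c * g)⁻¹ = c * w * c⁻¹ by simp only [w]; group]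
        exact hcA w (Or.inr (Or.inr (Or.inl rfl))))
      rwa [show c * (g : G) * v * (c * g)⁻¹ = c * w * c⁻¹ by simp only [w]; group] at h
    exact Subtype.ext ((conj_inj_iff c).1 (e2.trans e1.symm))
  have hv2 : orderOf v' = 2 :=
    orderOf_eq_prime (Subtype.ext (by rw [SubmonoidClass.coe_pow, pow_two]; exact D.A_mul_self hvA))
      fun e => hv1 (congrArg Subtype.val e)
  exact ⟨⟨x, mem_centralizer_singleton_iff.2 hx⟩ * v' * ⟨x, mem_centralizer_singleton_iff.2 hx⟩⁻¹ * v'⁻¹,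
    BrauerSuzuki.zStar H v' hv2 hiso _, rfl⟩

/-- The centraliser of an outside element is the core times the centraliser of the complement. -/
theorem cent_split (hU : D.StabU) {a : G} (ha : a ∈ D.A) (haU : a ∉ D.U) {x : G} (hx : x * a = a * x) :
    ∃ k ∈ Kf a, k * x ∈ centralizer (D.Vof a : Set G) := by
  obtain ⟨k, hk, hkx⟩ := Walter8.exists_lift_normalizer (y := x) (D.A_two.to_le (D.Vof_le a))
    (by rw [← Nat.not_even_iff_odd, even_iff_two_dvd]; exact ClosedAbelian.core_odd _)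
    ((D.Vof_le a).trans (D.A_le_normalizer_Kf ha)) (fun v hv => by
      rw [show x * v * x⁻¹ = x * v * x⁻¹ * v⁻¹ * v by group]
      exact mul_mem (mem_sup_left (D.Vof_central hU ha haU hv hx)) (mem_sup_right hv))
  refine ⟨k, hk, mem_centralizer_iff.2 fun v hv => (mul_inv_eq_iff_eq_mul.1 ?_).symm⟩
  have h1 := conj_mem_normalizer hkx hv
  have h2 := D.Vof_central hU ha haU hv (x := k * x) ((show Commute k a from Kf_comm hk).mul_left hx).eq
  exact mul_inv_eq_one.1 ((TwoEl.of_group D.A_two (mul_mem (D.Vof_le a h1) (inv_mem (D.Vof_le a hv)))).eq_one_of_odd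
    (odd_orderOf_of_mem (ClosedAbelian.core_odd _) h2))

end Setup

end Cfsg.Agent.J2Core
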